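/-
S5261: a Sylow `p`-subgroup of `³D₄(q)` in coordinates. `σ` is an automorphism of order 3 of `K`, `F = Fx σ` its fixed field.
The element with coordinates `u s v r w t` (`u v w ∈ F`) is `y1 u * y2 s * y3 v * y4 r * y5 w * y6 t`.
`usimp` expands products, inverses, commutators, `cj`, `tr nm sh cr` and pushes `σ` to the atoms; finish with `ring`, `linear_combination`, `grind`.
-/
import Cfsg.Agent.FUS.Basic

set_option autoImplicit false
set_option linter.unusedSimpArgs false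
set_option linter.unusedSectionVars false

namespace CL.D3

open CL.Fus
open scoped commutatorElement

/-- `σ` has order 3 -/
class Tri {K : Type*} [Field K] (σ : K →+* K) : Prop where
  s3 : ∀ t, σ (σ (σ t)) = t
  ne : ∃ t, σ t ≠ t

variable {K : Type*} [Field K] (σ : K →+* K)

/-- the fixed field -/
def Fx : Subfield K := σ.eqLocusField (RingHom.id K)

/-- trace -/
def tr (t : K) : K := t + σ t + σ (σ t)
/-- norm -/
def nm (t : K) : K := t * σ t * σ (σ t)
/-- adjoint `t^#` -/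
def sh (t : K) : K := σ t * σ (σ t)
/-- cross product `s × t` -/
def cr (s t : K) : K := σ s * σ (σ t) + σ (σ s) * σ t

variable {σ}

theorem mem_Fx {x : K} : x ∈ Fx σ ↔ σ x = x := Iff.rfl

@[simp] theorem σ_coe (x : Fx σ) : σ x = x := x.2

variable [T : Tri σ]

@[simp] theorem σ3 (t : K) : σ (σ (σ t)) = t := T.s3 t

@[simp] theorem σ_tr (t : K) : σ (tr σ t) = tr σ t := by simp only [tr, map_add, σ3]; ring
@[simp] theorem σ_nm (t : K) : σ (nm σ t) = nm σ t := by simp only [nm, map_mul, σ3]; ring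

/-- the unipotent group -/
@[ext] structure U {K : Type*} [Field K] (σ : K →+* K) where
  u : K
  s : K
  v : K
  r : K
  w : K
  t : K
  hu : σ u = u
  hv : σ v = v
  hw : σ w = w

attribute [simp] U.hu U.hv U.hw

namespace U

instance : One (U σ) := ⟨⟨0, 0, 0, 0, 0, 0, map_zero _, map_zero _, map_zero _⟩⟩

instance : Mul (U σ) := ⟨fun g h =>
  { u := g.u + h.u
    s := g.s + h.s + h.u * g.t
    v := g.v + h.v + h.u ^ 2 * nm σ g.t + tr σ (g.t * sh σ h.s) + h.u * tr σ (h.s * sh σ g.t) - h.u * g.w +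
      tr σ ((h.s + h.u * g.t) * g.r)
    r := g.r + h.r + cr σ h.s g.t + h.u * sh σ g.t
    w := g.w + h.w + tr σ (h.r * g.t) + tr σ (h.s * sh σ g.t) + h.u * nm σ g.t
    t := g.t + h.t
    hu := by simp
    hv := by simp
    hw := by simp }⟩

instance : Inv (U σ) := ⟨fun g =>
  { u := -g.u
    s := -g.s + g.u * g.t
    v := -g.v - g.u ^ 2 * nm σ g.t - tr σ (g.t * sh σ g.s) + g.u * tr σ (g.s * sh σ g.t) - g.u * g.w + tr σ (g.s * g.r)
    r := -g.r + cr σ g.s g.t - g.u * sh σ g.t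
    w := -g.w + tr σ (g.r * g.t) - tr σ (g.s * sh σ g.t) + g.u * nm σ g.t
    t := -g.t
    hu := by simp
    hv := by simp
    hw := by simp }⟩

omit T in
@[simp] theorem one_u : (1 : U σ).u = 0 := rfl
omit T in
@[simp] theorem one_s : (1 : U σ).s = 0 := rfl
omit T in
@[simp] theorem one_v : (1 : U σ).v = 0 := rfl
omit T in
@[simp] theorem one_r : (1 : U σ).r = 0 := rfl
omit T in
@[simp] theorem one_w : (1 : U σ).w = 0 := rfl
omit T in
@[simp] theorem one_t : (1 : U σ).t = 0 := rfl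

variable (g h : U σ)

theorem mul_u : (g * h).u = g.u + h.u := rfl
theorem mul_s : (g * h).s = g.s + h.s + h.u * g.t := rfl
theorem mul_v : (g * h).v = g.v + h.v + h.u ^ 2 * nm σ g.t + tr σ (g.t * sh σ h.s) + h.u * tr σ (h.s * sh σ g.t) - h.u * g.w +
    tr σ ((h.s + h.u * g.t) * g.r) := rfl
theorem mul_r : (g * h).r = g.r + h.r + cr σ h.s g.t + h.u * sh σ g.t := rfl
theorem mul_w : (g * h).w = g.w + h.w + tr σ (h.r * g.t) + tr σ (h.s * sh σ g.t) + h.u * nm σ g.t := rfl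
theorem mul_t : (g * h).t = g.t + h.t := rfl

theorem inv_u : g⁻¹.u = -g.u := rfl
theorem inv_s : g⁻¹.s = -g.s + g.u * g.t := rfl
theorem inv_v : g⁻¹.v = -g.v - g.u ^ 2 * nm σ g.t - tr σ (g.t * sh σ g.s) + g.u * tr σ (g.s * sh σ g.t) - g.u * g.w +
    tr σ (g.s * g.r) := rfl
theorem inv_r : g⁻¹.r = -g.r + cr σ g.s g.t - g.u * sh σ g.t := rfl
theorem inv_w : g⁻¹.w = -g.w + tr σ (g.r * g.t) - tr σ (g.s * sh σ g.t) + g.u * nm σ g.t := rfl
theorem inv_t : g⁻¹.t = -g.t := rfl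

instance : Group (U σ) := Group.ofLeftAxioms
  (fun g h k => by
    ext <;> simp only [mul_u, mul_s, mul_v, mul_r, mul_w, mul_t, tr, nm, sh, cr, map_add, map_mul, map_sub, map_pow, σ3, hu, hv, hw] <;>
      ring)
  (fun g => by ext <;> simp [mul_u, mul_s, mul_v, mul_r, mul_w, mul_t, tr, nm, sh, cr])
  fun g => by
    ext <;> simp only [mul_u, mul_s, mul_v, mul_r, mul_w, mul_t, inv_u, inv_s, inv_v, inv_r, inv_w, inv_t, one_u, one_s, one_v,
      one_r, one_w, one_t, tr, nm, sh, cr, map_add, map_mul, map_sub, map_neg, map_pow, σ3, hu, hv, hw] <;> ring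

end U

/-- root element -/
@[simps] def y1 (u : K) (h : σ u = u) : U σ := ⟨u, 0, 0, 0, 0, 0, h, map_zero _, map_zero _⟩
/-- root element -/
@[simps] def y2 (s : K) : U σ := ⟨0, s, 0, 0, 0, 0, map_zero _, map_zero _, map_zero _⟩
/-- root element -/
@[simps] def y3 (v : K) (h : σ v = v) : U σ := ⟨0, 0, v, 0, 0, 0, map_zero _, h, map_zero _⟩
/-- root element -/
@[simps] def y4 (r : K) : U σ := ⟨0, 0, 0, r, 0, 0, map_zero _, map_zero _, map_zero _⟩
/-- root element -/
@[simps] def y5 (w : K) (h : σ w = w) : U σ := ⟨0, 0, 0, 0, w, 0, map_zero _, map_zero _, h⟩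
/-- root element -/
@[simps] def y6 (t : K) : U σ := ⟨0, 0, 0, 0, 0, t, map_zero _, map_zero _, map_zero _⟩

/-- expand `tr nm sh cr`, push `σ` to the atoms (pass hypotheses `σ c = c` to a following `simp only`) -/
scoped macro "asimp" loc:(Lean.Parser.Tactic.location)? : tactic => `(tactic|
  simp only [tr, nm, sh, cr, map_add, map_mul, map_sub, map_neg, map_pow, map_zero, map_one, map_inv₀, map_div₀, map_ofNat, map_natCast,
    σ3, σ_coe, U.hu, U.hv, U.hw] $[$loc]?)

/-- coordinates of products; keeps `tr nm sh cr` folded -/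
scoped macro "csimp" loc:(Lean.Parser.Tactic.location)? : tactic => `(tactic|
  simp only [commutatorElement_def, cj, U.ext_iff, U.mul_u, U.mul_s, U.mul_v, U.mul_r, U.mul_w, U.mul_t, U.inv_u, U.inv_s, U.inv_v, U.inv_r,
    U.inv_w, U.inv_t, U.one_u, U.one_s, U.one_v, U.one_r, U.one_w, U.one_t, y1_u, y1_s, y1_v, y1_r, y1_w, y1_t, y2_u, y2_s, y2_v, y2_r,
    y2_w, y2_t, y3_u, y3_s, y3_v, y3_r, y3_w, y3_t, y4_u, y4_s, y4_v, y4_r, y4_w, y4_t, y5_u, y5_s, y5_v, y5_r, y5_w, y5_t, y6_u, y6_s,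
    y6_v, y6_r, y6_w, y6_t] $[$loc]?)

/-- `csimp`, `asimp`, clean zeros -/
scoped macro "usimp" loc:(Lean.Parser.Tactic.location)? : tactic => `(tactic| (
  (try csimp $[$loc]?)
  (try asimp $[$loc]?)
  (try simp only [add_zero, zero_add, mul_zero, zero_mul, neg_zero, sub_zero, zero_sub, mul_one, one_mul, ne_eq, OfNat.ofNat_ne_zero,
    not_false_eq_true, zero_pow, one_pow, sub_self, add_neg_cancel, neg_add_cancel, neg_neg, and_self, and_true, true_and] $[$loc]?)))

theorem eq_prod (g : U σ) : g = y1 g.u g.hu * y2 g.s * y3 g.v g.hv * y4 g.r * y5 g.w g.hw * y6 g.t := by usimp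

instance [Finite K] : Finite (U σ) :=
  Finite.of_injective (fun g : U σ => (g.u, g.s, g.v, g.r, g.w, g.t)) fun g h e => by
    simp only [Prod.mk.injEq] at e; ext <;> tauto

/-! coordinates of commutators `⁅g, h⁆ = g h g⁻¹ h⁻¹` -/

theorem br_u (g h : U σ) : ⁅g, h⁆.u = 0 := by usimp; ring
theorem br_t (g h : U σ) : ⁅g, h⁆.t = 0 := by usimp; ring
theorem br_s (g h : U σ) : ⁅g, h⁆.s = h.u * g.t - g.u * h.t := by usimp; ring
theorem br_r (g h : U σ) : ⁅g, h⁆.r = cr σ h.s g.t - cr σ g.s h.t + h.u * sh σ g.t - g.u * sh σ h.t := by usimp; ring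
theorem br_w (g h : U σ) : ⁅g, h⁆.w = tr σ (h.r * g.t) - tr σ (g.r * h.t) + tr σ (h.s * sh σ g.t) - tr σ (g.s * sh σ h.t) +
    h.u * nm σ g.t - g.u * nm σ h.t := by usimp; ring
theorem br_v (g h : U σ) : ⁅g, h⁆.v = (g * h).v - (h * g).v + (g.u + h.u) * ⁅g, h⁆.w - tr σ ((h * g).s * ⁅g, h⁆.r) := by
  usimp; ring

end CL.D3
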