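/-
S5261: diagonal and field automorphisms `dd a d ρ` of `U σ`, the Weyl automorphisms `wa` of `Q` and `wb` of `Q'`, standard position.
-/
import Cfsg.Agent.FUS.D3.Sub
import Cfsg.Agent.FUS.Iso
import Cfsg.Agent.CLAS.FieldAut

set_option autoImplicit false
set_option linter.unusedSimpArgs false
set_option linter.unusedSectionVars false
set_option linter.unusedTactic false
set_option linter.unreachableTactic false
set_option linter.unnecessarySeqFocus false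

namespace CL.D3

open CL.Fus Subgroup Cfsg
open scoped commutatorElement

variable {K : Type*} [Field K] [Finite K] {σ : K →+* K} [T : Tri σ]

/-- `σ` as an automorphism -/
noncomputable def σe (σ : K →+* K) : K ≃+* K := RingEquiv.ofBijective σ (Finite.injective_iff_bijective.1 σ.injective)

@[simp] theorem σe_apply (x : K) : σe σ x = σ x := rfl

theorem σ_map (ρ : RingAut K) (a : K) : σ (ρ a) = ρ (σ a) := CL.FieldAut.ringAut_apply_comm (σe σ) ρ a

theorem map_tr (ρ : RingAut K) (a : K) : ρ (tr σ a) = tr σ (ρ a) := by simp only [tr, map_add, σ_map]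
theorem map_nm (ρ : RingAut K) (a : K) : ρ (nm σ a) = nm σ (ρ a) := by simp only [nm, map_mul, σ_map]
theorem map_sh (ρ : RingAut K) (a : K) : ρ (sh σ a) = sh σ (ρ a) := by simp only [sh, map_mul, σ_map]
theorem map_cr (ρ : RingAut K) (a b : K) : ρ (cr σ a b) = cr σ (ρ a) (ρ b) := by simp only [cr, map_add, map_mul, σ_map]

/-- admissible torus parameters -/
structure Ok (σ : K →+* K) (a d : K) : Prop where
  fx : σ a = a
  a0 : a ≠ 0
  d0 : d ≠ 0

omit [Finite K] T in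
theorem ok_one : Ok σ 1 1 := ⟨map_one _, one_ne_zero, one_ne_zero⟩

theorem Ok.mul {a d a' d' : K} (h : Ok σ a d) (h' : Ok σ a' d') (ρ : RingAut K) : Ok σ (a * ρ a') (d * ρ d') :=
  ⟨by rw [map_mul, σ_map, h.fx, h'.fx], by simp [h.a0, h'.a0], by simp [h.d0, h'.d0]⟩

theorem Ok.inv {a d : K} (h : Ok σ a d) (ρ : RingAut K) : Ok σ (ρ a⁻¹) (ρ d⁻¹) :=
  ⟨by rw [σ_map, map_inv₀, h.fx], by simp [h.a0], by simp [h.d0]⟩

/-- the underlying function -/
@[simps] def ddf (a d : K) (ρ : RingAut K) (ha : σ a = a) (g : U σ) : U σ :=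
  ⟨a * ρ g.u, a * d * ρ g.s, a ^ 2 * nm σ d * ρ g.v, a * sh σ d * ρ g.r, a * nm σ d * ρ g.w, d * ρ g.t,
    by simp [ha, σ_map], by simp [ha, σ_map], by simp [ha, σ_map]⟩

theorem ddf_mul (a d : K) (ρ : RingAut K) (ha : σ a = a) (g h : U σ) : ddf a d ρ ha (g * h) = ddf a d ρ ha g * ddf a d ρ ha h := by
  csimp; simp only [ddf_u, ddf_s, ddf_v, ddf_r, ddf_w, ddf_t]; csimp; asimp
  simp only [σ_map, ha, σ3, U.hu, U.hv, U.hw]; and_intros <;> ring

theorem ddf_ddf (a d a' d' : K) (ρ ρ' : RingAut K) (ha : σ a = a) (ha' : σ a' = a') (h : σ (a * ρ a') = a * ρ a') (g : U σ) :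
    ddf a d ρ ha (ddf a' d' ρ' ha' g) = ddf (a * ρ a') (d * ρ d') (ρ * ρ') h g := by
  csimp; simp only [ddf_u, ddf_s, ddf_v, ddf_r, ddf_w, ddf_t, RingAut.mul_apply]; asimp
  simp only [σ_map]; and_intros <;> ring

theorem ddf_one (h : σ 1 = 1) (g : U σ) : ddf 1 1 1 h g = g := by
  ext <;> simp [nm, sh]

/-- diagonal times field automorphisms -/
def dd (a d : K) (ρ : RingAut K) (h : Ok σ a d) : MulAut (U σ) where
  toFun := ddf a d ρ h.fx
  invFun := ddf (ρ⁻¹ a⁻¹) (ρ⁻¹ d⁻¹) ρ⁻¹ (h.inv _).fx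
  left_inv g := by
    rw [ddf_ddf _ _ _ _ _ _ _ _ ((h.inv _).mul h _).fx]
    simp only [← map_mul, inv_mul_cancel₀ h.a0, inv_mul_cancel₀ h.d0, map_one, inv_mul_cancel, ddf_one]
  right_inv g := by
    have e : ∀ x, ρ (ρ⁻¹ x) = x := ρ.apply_symm_apply
    rw [ddf_ddf _ _ _ _ _ _ _ _ (h.mul (h.inv _) _).fx]
    simp only [e, mul_inv_cancel₀ h.a0, mul_inv_cancel₀ h.d0, mul_inv_cancel, ddf_one]
  map_mul' := ddf_mul a d ρ h.fx

section
variable {a d a' d' : K} {ρ ρ' : RingAut K} (h : Ok σ a d) (g : U σ)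

@[simp] theorem dd_u : (dd a d ρ h g).u = a * ρ g.u := rfl
@[simp] theorem dd_s : (dd a d ρ h g).s = a * d * ρ g.s := rfl
@[simp] theorem dd_v : (dd a d ρ h g).v = a ^ 2 * nm σ d * ρ g.v := rfl
@[simp] theorem dd_r : (dd a d ρ h g).r = a * sh σ d * ρ g.r := rfl
@[simp] theorem dd_w : (dd a d ρ h g).w = a * nm σ d * ρ g.w := rfl
@[simp] theorem dd_t : (dd a d ρ h g).t = d * ρ g.t := rfl

theorem dd_mul (h' : Ok σ a' d') : dd a d ρ h * dd a' d' ρ' h' = dd (a * ρ a') (d * ρ d') (ρ * ρ') (h.mul h' ρ) :=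
  MulEquiv.ext fun g => ddf_ddf _ _ _ _ _ _ h.fx h'.fx (h.mul h' ρ).fx g

theorem dd_inv : (dd a d ρ h)⁻¹ = dd (ρ⁻¹ a⁻¹) (ρ⁻¹ d⁻¹) ρ⁻¹ (h.inv _) := MulEquiv.ext fun _ => rfl

theorem dd_congr (h' : Ok σ a' d') (e1 : a = a') (e2 : d = d') (e3 : ρ = ρ') : dd a d ρ h = dd a' d' ρ' h' := by
  subst e1 e2 e3; rfl

end

theorem dd_one (h : Ok σ 1 1) : dd 1 1 1 h = 1 := MulEquiv.ext (ddf_one h.fx)

/-- field automorphisms -/
def fr : RingAut K →* MulAut (U σ) where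
  toFun ρ := dd 1 1 ρ ok_one
  map_one' := dd_one _
  map_mul' ρ ρ' := by rw [dd_mul]; exact dd_congr _ _ (by simp) (by simp) rfl

theorem fr_eq (ρ : RingAut K) : fr ρ = dd (σ := σ) 1 1 ρ ok_one := rfl

theorem dd_eq_mul_fr {a d : K} (ρ : RingAut K) (h : Ok σ a d) : dd a d ρ h = dd a d 1 h * fr ρ := by
  rw [fr_eq, dd_mul]; exact dd_congr _ _ (by simp) (by simp) (by simp)

/-- the group of the `dd a d ρ` -/
def D0 (σ : K →+* K) [Tri σ] : Subgroup (MulAut (U σ)) where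
  carrier := {α | ∃ a d ρ h, α = dd a d ρ h}
  one_mem' := ⟨1, 1, 1, ok_one, (dd_one _).symm⟩
  mul_mem' := by rintro _ _ ⟨a, d, ρ, h, rfl⟩ ⟨a', d', ρ', h', rfl⟩; exact ⟨_, _, _, _, dd_mul ..⟩
  inv_mem' := by rintro _ ⟨a, d, ρ, h, rfl⟩; exact ⟨_, _, _, _, dd_inv ..⟩

/-- the Weyl element of the short simple root, on `Q` -/
@[simps] def wa (g : U σ) : U σ := ⟨-g.w, g.r, g.v + g.u * g.w - tr σ (g.s * g.r), -g.s, g.u, 0, by simp, by simp, by simp⟩
/-- its inverse -/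
@[simps] def wa' (g : U σ) : U σ := ⟨g.w, -g.r, g.v + g.u * g.w - tr σ (g.s * g.r), g.s, -g.u, 0, by simp, by simp, by simp⟩
/-- the Weyl element of the long simple root, on `Q'` -/
@[simps] def wb (g : U σ) : U σ := ⟨0, -g.t, g.w + tr σ (g.s * sh σ g.t) - tr σ (g.t * g.r), g.r - cr σ g.s g.t,
  -g.v + tr σ (g.r * g.s) - tr σ (g.t * sh σ g.s), g.s, by simp, by simp, by simp⟩
/-- its inverse -/
@[simps] def wb' (g : U σ) : U σ := ⟨0, g.t, -g.w - tr σ (g.s * sh σ g.t) + tr σ (g.t * g.r), g.r - cr σ g.s g.t,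
  g.v - tr σ (g.r * g.s) + tr σ (g.t * sh σ g.s), -g.s, by simp, by simp, by simp⟩

/-- coordinates of `dd wa wa' wb wb'`, alternating with `csimp` -/
scoped macro "dsimp'" loc:(Lean.Parser.Tactic.location)? : tactic => `(tactic| (
  (try csimp $[$loc]?)
  (try simp only [dd_u, dd_s, dd_v, dd_r, dd_w, dd_t, wa_u, wa_s, wa_v, wa_r, wa_w, wa_t, wa'_u, wa'_s, wa'_v, wa'_r, wa'_w, wa'_t,
    wb_u, wb_s, wb_v, wb_r, wb_w, wb_t, wb'_u, wb'_s, wb'_v, wb'_r, wb'_w, wb'_t, RingAut.one_apply] $[$loc]?)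
  (try csimp $[$loc]?)
  (try simp only [dd_u, dd_s, dd_v, dd_r, dd_w, dd_t, wa_u, wa_s, wa_v, wa_r, wa_w, wa_t, wa'_u, wa'_s, wa'_v, wa'_r, wa'_w, wa'_t,
    wb_u, wb_s, wb_v, wb_r, wb_w, wb_t, wb'_u, wb'_s, wb'_v, wb'_r, wb'_w, wb'_t, RingAut.one_apply] $[$loc]?)))

theorem isoOn_wa : IsoOn Q Q (wa (σ := σ)) wa' where
  hom g hg h hh := by rw [mem_Q] at hg hh; dsimp'; simp only [hg, hh]; usimp; and_intros <;> ring
  maps _ _ := rfl
  maps' _ _ := rfl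
  left g hg := by rw [mem_Q] at hg; dsimp'; simp only [hg]; usimp; ring
  right g hg := by rw [mem_Q] at hg; dsimp'; simp only [hg]; usimp; ring

theorem isoOn_wb : IsoOn Q' Q' (wb (σ := σ)) wb' where
  hom g hg h hh := by rw [mem_Q'] at hg hh; dsimp'; simp only [hg, hh]; usimp; and_intros <;> ring
  maps _ _ := rfl
  maps' _ _ := rfl
  left g hg := by rw [mem_Q'] at hg; dsimp'; simp only [hg]; usimp; and_intros <;> ring
  right g hg := by rw [mem_Q'] at hg; dsimp'; simp only [hg]; usimp; and_intros <;> ring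

/-- the automorphisms of `S` in `F` are in standard position -/
def Std (F : FusionSystem (⊤ : Subgroup (U σ))) : Prop := ∀ f, Mor F ⊤ f → ∃ x a d ρ h, ∀ g, f g = cj x (dd a d ρ h g)

/-- `F` contains the long coroot elements `h_b(c) = dd c² c⁻¹` -/
def Hb (F : FusionSystem (⊤ : Subgroup (U σ))) : Prop := ∀ c (h : Ok σ (c ^ 2) c⁻¹), σ c = c → Mor F ⊤ (dd (c ^ 2) c⁻¹ 1 h)

/-- for `q = 2`, `F` contains the torus -/
def H2 (F : FusionSystem (⊤ : Subgroup (U σ))) : Prop := Nat.card (Fx σ) = 2 → ∀ d (h : Ok σ 1 d), Mor F ⊤ (dd 1 d 1 h)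

/-- `F` contains the torus -/
def Ht (F : FusionSystem (⊤ : Subgroup (U σ))) : Prop := ∀ a d (h : Ok σ a d), Mor F ⊤ (dd a d 1 h)

theorem isPGroup_U (p : ℕ) [Fact p.Prime] [CharP K p] : IsPGroup p (U σ) := by
  have key : ∀ (B : Subgroup (U σ)) (c : U σ → K) (g : U σ), (∀ n : ℕ, c (g ^ n) = n * c g) → c (g ^ p) = 0 := fun B c g e => by
    rw [e, CharP.cast_eq_zero, zero_mul]
  intro g
  have ind : ∀ (c : U σ → K) (g : U σ), c 1 = 0 → (∀ n : ℕ, c (g ^ n * g) = c (g ^ n) + c g) → c (g ^ p) = 0 := fun c g e0 e =>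
    key ⊤ c g fun n => by
      induction n with
      | zero => simp [e0]
      | succ n ih => rw [pow_succ, e, ih]; push_cast; ring
  have h1 : g ^ p ∈ sR := ⟨ind U.u g rfl fun _ => rfl, ind U.t g rfl fun _ => rfl⟩
  generalize e1 : g ^ p = g1 at h1
  have h2 : g1 ^ p ∈ sA := ⟨(pow_mem h1 p).1, ind U.s g1 rfl fun n => by simp [U.mul_s, h1.1], (pow_mem h1 p).2⟩
  generalize e2 : g1 ^ p = g2 at h2
  have h3 : g2 ^ p = 1 := by
    have k := pow_mem h2 p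
    have k' := fun n => pow_mem h2 n
    exact U.ext k.1 k.2.1 (ind U.v g2 rfl fun n => by simp [U.mul_v, h2.1, h2.2.1, (k' n).2.2, tr])
      (ind U.r g2 rfl fun n => by simp [U.mul_r, h2.1, h2.2.1, cr])
      (ind U.w g2 rfl fun n => by simp [U.mul_w, h2.1, h2.2.1, (k' n).2.2, tr]) k.2.2
  exact ⟨3, by rw [pow_succ, pow_succ, pow_one, pow_mul, pow_mul, e1, e2, h3]⟩

end CL.D3
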