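/-
S5261: the cubic extension `K / F` of finite fields: trace form, norm, adjoint, cross product.
-/
import Cfsg.Agent.FUS.D3.Dd

set_option autoImplicit false
set_option linter.unusedSimpArgs false
set_option linter.unusedSectionVars false

namespace CL.D3

variable {K : Type*} [Field K] [Finite K] {σ : K →+* K} [T : Tri σ] {a b c r s t x y : K}

theorem tr_add (a b : K) : tr σ (a + b) = tr σ a + tr σ b := by asimp; ring
theorem tr_neg (a : K) : tr σ (-a) = -tr σ a := by asimp; ring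
theorem tr_sub (a b : K) : tr σ (a - b) = tr σ a - tr σ b := by asimp; ring
@[simp] theorem tr_zero : tr σ 0 = 0 := by simp [tr]
theorem tr_smul (hc : σ c = c) (a : K) : tr σ (c * a) = c * tr σ a := by asimp; simp only [hc]; ring
theorem nm_mul (a b : K) : nm σ (a * b) = nm σ a * nm σ b := by asimp; ring
theorem sh_mul (a b : K) : sh σ (a * b) = sh σ a * sh σ b := by asimp; ring
theorem mul_sh (a : K) : a * sh σ a = nm σ a := by asimp; ring
theorem sh_sh (a : K) : sh σ (sh σ a) = nm σ a * a := by asimp; ring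
theorem sh_add (a b : K) : sh σ (a + b) = sh σ a + cr σ a b + sh σ b := by asimp; ring
theorem cr_self (a : K) : cr σ a a = 2 * sh σ a := by asimp; ring
theorem cr_comm (a b : K) : cr σ a b = cr σ b a := by asimp; ring
theorem cr_add (a b c : K) : cr σ a (b + c) = cr σ a b + cr σ a c := by asimp; ring
theorem cr_sub (a b c : K) : cr σ a (b - c) = cr σ a b - cr σ a c := by asimp; ring
theorem cr_smul (hc : σ c = c) (a b : K) : cr σ a (c * b) = c * cr σ a b := by asimp; simp only [hc]; ring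
theorem tr_cr (a b c : K) : tr σ (a * cr σ b c) = tr σ (b * cr σ a c) := by asimp; ring
theorem tr_mul_sh (a : K) : tr σ (a * sh σ a) = 3 * nm σ a := by asimp; ring
@[simp] theorem nm_eq_zero : nm σ a = 0 ↔ a = 0 := by simp [nm]
@[simp] theorem sh_eq_zero : sh σ a = 0 ↔ a = 0 := by simp [sh]
theorem nm_fx (hc : σ c = c) : nm σ c = c ^ 3 := by simp only [nm, hc]; ring
theorem sh_fx (hc : σ c = c) : sh σ c = c ^ 2 := by simp only [sh, hc]; ring

theorem orderOf_σe : orderOf (σe σ) = 3 := by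
  obtain ⟨t, ht⟩ := T.ne
  exact orderOf_eq_prime (RingEquiv.ext fun x => σ3 x) fun e => ht (congrArg (fun f : K ≃+* K => f t) e)

theorem fixF_eq : CL.FieldAut.fixF (σe σ) = Fx σ := by ext; exact CL.FieldAut.mem_fixF

theorem finrank_K : Module.finrank (Fx σ) K = 3 := by rw [← fixF_eq, CL.FieldAut.finrank_fixF, orderOf_σe]

theorem card_K : Nat.card K = Nat.card (Fx σ) ^ 3 := by rw [← fixF_eq, ← CL.FieldAut.card_fixF_pow (σe σ), orderOf_σe]

theorem two_le_card : 2 ≤ Nat.card (Fx σ) := Finite.one_lt_card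

/-- Dedekind -/
theorem ded (h : ∀ x, a * x + b * σ x + c * σ (σ x) = 0) : a = 0 ∧ b = 0 ∧ c = 0 := by
  obtain ⟨t, ht⟩ := T.ne
  have h1 : σ (σ t) ≠ σ t := fun e => ht (σ.injective e)
  have h2 : σ (σ t) ≠ t := fun e => ht (by simpa using (congrArg σ e).symm)
  have e0 := h 1
  have e1 := h t
  have e2 := h (t * t)
  simp only [map_one, map_mul] at e0 e2
  grind

theorem tr_nondeg (h : ∀ s, tr σ (r * s) = 0) : r = 0 :=
  (ded (a := r) (b := σ r) (c := σ (σ r)) fun x => by simpa only [tr, map_mul] using h x).1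

theorem exists_tr_mul (hr : r ≠ 0) (hc : σ c = c) : ∃ s, tr σ (s * r) = c := by
  obtain ⟨s, hs⟩ := not_forall.1 (mt (tr_nondeg (σ := σ)) hr)
  exact ⟨c / tr σ (r * s) * s, by rw [mul_assoc, tr_smul (by simp [hc]), mul_comm s, div_mul_cancel₀ _ hs]⟩

theorem nm_surj (hc : σ c = c) : ∃ d, nm σ d = c := by
  obtain ⟨d, hd⟩ := CL.FieldAut.exists_nrm_eq (σ := σe σ) hc
  rw [orderOf_σe] at hd
  exact ⟨d, by simpa [CL.FieldAut.nrm, Finset.prod_range_succ, pow_succ, nm] using hd⟩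

theorem exists_nm_one : ∃ d : K, d ≠ 0 ∧ d ≠ 1 ∧ nm σ d = 1 ∧ sh σ d ≠ 1 := by
  obtain ⟨t, ht⟩ := T.ne
  have h0 : t ≠ 0 := by rintro rfl; simp at ht
  have h1 : nm σ (σ t / t) = 1 := by asimp; field_simp [h0]
  have h2 : σ t / t ≠ 1 := fun e => ht ((div_eq_one_iff_eq h0).1 e)
  exact ⟨_, by simp [h0], h2, h1, fun e => h2 (by rw [← h1, ← mul_sh, e, mul_one])⟩

theorem cr_all_zero (h : ∀ t, cr σ s t = 0) : s = 0 := by
  simpa using (ded (a := 0) (b := σ (σ s)) (c := σ s) fun x => by have := h x; simp only [cr] at this; linear_combination this).2.2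

theorem cr_inj (h2 : (2 : K) ≠ 0) (h : cr σ s t = 0) : s = 0 ∨ t = 0 := by
  have h1 := congrArg σ h
  have h3 := congrArg σ h1
  asimp at h h1 h3
  have : 2 * (s * σ s * σ (σ t)) = 0 := by linear_combination s * h + σ s * h1 - σ (σ s) * h3
  simpa [h2] using this

theorem cr_surj (h2 : (2 : K) ≠ 0) (hs : s ≠ 0) (r : K) : ∃ t, cr σ s t = r :=
  (Finite.injective_iff_surjective (f := cr σ s)).1 (fun a b e =>
    sub_eq_zero.1 ((cr_inj (σ := σ) h2 (by rw [cr_sub, e, sub_self])).resolve_left hs)) r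

theorem cr_eq_zero_two (h2 : (2 : K) = 0) (hs : s ≠ 0) : cr σ s t = 0 ↔ ∃ c, σ c = c ∧ t = c * s := by
  refine ⟨fun h => ⟨t / s, ?_, by field_simp⟩, by rintro ⟨c, hc, rfl⟩; rw [cr_smul hc, cr_self, h2]; simp⟩
  have h3 := congrArg σ (congrArg σ h)
  have : σ s ≠ 0 := by simpa using hs
  asimp at h3 ⊢
  field_simp
  linear_combination h3 - (σ s * t) * h2

/-- `a, b` are linearly independent over `F` -/
def Ind (σ : K →+* K) (a b : K) : Prop := ∀ x y, σ x = x → σ y = y → x * a + y * b = 0 → x = 0 ∧ y = 0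

theorem Ind.symm (h : Ind σ a b) : Ind σ b a := fun x y hx hy e => (h y x hy hx (by rw [add_comm, e])).symm

theorem Ind.ne_left (h : Ind σ a b) : a ≠ 0 := fun e => one_ne_zero (h 1 0 (map_one _) (map_zero _) (by simp [e])).1

theorem Ind.ne_right (h : Ind σ a b) : b ≠ 0 := h.symm.ne_left

theorem ind_iff (ha : a ≠ 0) : Ind σ a b ↔ ¬ ∃ c, σ c = c ∧ b = c * a := by
  refine ⟨fun h ⟨c, hc, e⟩ => ?_, fun h x y hx hy e => ?_⟩
  · simpa using (h c (-1) hc (by simp) (by simp [e])).2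
  · have : y = 0 := by_contra fun hy0 => h ⟨-x / y, by simp [hx, hy], by field_simp; linear_combination e⟩
    simpa [this, ha] using e

theorem not_ind (h : ¬ Ind σ a b) : ∃ τ x y, σ x = x ∧ σ y = y ∧ a = x * τ ∧ b = y * τ := by
  by_cases ha : a = 0
  · exact ⟨b, 0, 1, map_zero _, map_one _, by simp [ha], by simp⟩
  · obtain ⟨c, hc, e⟩ := not_not.1 (mt (ind_iff ha).2 h)
    exact ⟨a, 1, c, map_one _, hc, by simp, e⟩

theorem Ind.cr_ne (h : Ind σ a b) : σ a * σ (σ b) - σ (σ a) * σ b ≠ 0 := fun e => by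
  have h1 := congrArg σ (congrArg σ e)
  asimp at h1
  refine (ind_iff h.ne_left).1 h ⟨b / a, ?_, by field_simp [h.ne_left]⟩
  have := h.ne_left
  have : σ a ≠ 0 := by simpa
  rw [map_div₀]; field_simp; linear_combination h1

/-- `a^#, a × b, b^#` are independent -/
theorem Ind.ind3 (h : Ind σ a b) {z : K} (hx : σ x = x) (hy : σ y = y) (hz : σ z = z)
    (e : x * sh σ a + y * cr σ a b + z * sh σ b = 0) : x = 0 ∧ y = 0 ∧ z = 0 := by
  have k0 := h.cr_ne
  have k1 := (map_ne_zero σ).2 k0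
  have k2 := (map_ne_zero σ).2 k1
  have e1 := congrArg σ e
  have e2 := congrArg σ e1
  asimp at e e1 e2 k1 k2
  simp only [hx, hy, hz] at e1 e2
  grind

/-- `a^#, a × b, b^#` span -/
theorem Ind.span3 (h : Ind σ a b) (e1 : tr σ (t * sh σ a) = 0) (e2 : tr σ (t * cr σ a b) = 0) (e3 : tr σ (t * sh σ b) = 0) : t = 0 := by
  have k0 := h.cr_ne
  have k1 := (map_ne_zero σ).2 k0
  have k2 := (map_ne_zero σ).2 k1
  asimp at e1 e2 e3 k1 k2
  grind

/-- the nonzero vector orthogonal to `a` and `b` -/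
def wd (σ : K →+* K) (a b : K) : K := σ a * σ (σ b) - σ (σ a) * σ b

theorem tr_wd_left (a b : K) : tr σ (wd σ a b * a) = 0 := by simp only [wd]; asimp; ring
theorem tr_wd_right (a b : K) : tr σ (wd σ a b * b) = 0 := by simp only [wd]; asimp; ring

theorem Ind.perp2 (h : Ind σ a b) (e1 : tr σ (r * a) = 0) (e2 : tr σ (r * b) = 0) : ∃ c, σ c = c ∧ r = c * wd σ a b := by
  have k0 := h.cr_ne
  have k1 := (map_ne_zero σ).2 k0
  refine ⟨r / wd σ a b, ?_, by field_simp [show wd σ a b ≠ 0 from k0]⟩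
  simp only [wd]
  rw [map_div₀, div_eq_div_iff k1 k0]
  asimp at e1 e2 ⊢
  linear_combination σ (σ b) * e1 - σ (σ a) * e2

theorem exists_ind (ha : a ≠ 0) : ∃ b, Ind σ a b := by
  obtain ⟨t, ht⟩ := T.ne
  exact ⟨t * a, (ind_iff ha).2 fun ⟨c, hc, e⟩ => ht (by rwa [mul_right_cancel₀ ha e])⟩

theorem exists_perp2 (a b : K) : ∃ t, t ≠ 0 ∧ tr σ (t * a) = 0 ∧ tr σ (t * b) = 0 := by
  by_cases h : Ind σ a b
  · exact ⟨_, h.cr_ne, tr_wd_left a b, tr_wd_right a b⟩
  obtain ⟨τ, x, y, hx, hy, rfl, rfl⟩ := not_ind h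
  by_cases h0 : τ = 0
  · exact ⟨1, one_ne_zero, by simp [h0], by simp [h0]⟩
  obtain ⟨b, hb⟩ := exists_ind (σ := σ) h0
  refine ⟨_, hb.cr_ne, ?_, ?_⟩ <;> rw [mul_left_comm, tr_smul ‹_›] <;> exact mul_eq_zero_of_right _ (tr_wd_left τ b)

theorem perp_perp1 {τ : K} (hτ : τ ≠ 0) (h : ∀ r, tr σ (r * τ) = 0 → tr σ (r * s) = 0) : ∃ c, σ c = c ∧ s = c * τ := by
  obtain ⟨e, he⟩ := exists_tr_mul (σ := σ) hτ (map_one σ)
  refine ⟨tr σ (e * s), σ_tr _, sub_eq_zero.1 (tr_nondeg (σ := σ) fun r => ?_)⟩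
  have := h (r - tr σ (r * τ) * e) (by rw [sub_mul, tr_sub, mul_assoc, tr_smul (σ_tr _), he]; ring)
  rw [sub_mul, tr_sub, mul_assoc, tr_smul (σ_tr _)] at this
  rw [sub_mul, tr_sub, mul_assoc, tr_smul (σ_tr _), mul_comm s, mul_comm τ]
  linear_combination this

/-- prescribed traces -/
theorem Ind.exists_tr2 (h : Ind σ a b) (hx : σ x = x) (hy : σ y = y) : ∃ r, tr σ (r * a) = x ∧ tr σ (r * b) = y := by
  have key : ∀ {a b : K}, Ind σ a b → ∀ {y}, σ y = y → ∃ r, tr σ (r * a) = 0 ∧ tr σ (r * b) = y := fun {a b} h y hy => by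
    obtain ⟨r, h1, h2⟩ : ∃ r, tr σ (r * a) = 0 ∧ tr σ (r * b) ≠ 0 := by
      by_contra! k
      exact (ind_iff h.ne_left).1 h (perp_perp1 h.ne_left k)
    refine ⟨y / tr σ (r * b) * r, ?_, ?_⟩ <;> rw [mul_assoc, tr_smul (by simp [hy])]
    · rw [h1, mul_zero]
    · exact div_mul_cancel₀ _ h2
  obtain ⟨r, h1, h2⟩ := key h hy
  obtain ⟨r', h3, h4⟩ := key h.symm hx
  exact ⟨r + r', by rw [add_mul, tr_add, h1, h4, zero_add], by rw [add_mul, tr_add, h2, h3, add_zero]⟩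

theorem Ind.perp_perp2 (h : Ind σ a b) (k : ∀ r, tr σ (r * a) = 0 → tr σ (r * b) = 0 → tr σ (r * s) = 0) :
    ∃ x y, σ x = x ∧ σ y = y ∧ s = x * a + y * b := by
  obtain ⟨e, e1, e2⟩ := h.exists_tr2 (map_one σ) (map_zero σ)
  obtain ⟨f, f1, f2⟩ := h.exists_tr2 (map_zero σ) (map_one σ)
  refine ⟨tr σ (e * s), tr σ (f * s), σ_tr _, σ_tr _, sub_eq_zero.1 (tr_nondeg (σ := σ) fun r => ?_)⟩
  have := k (r - tr σ (r * a) * e - tr σ (r * b) * f)
    (by simp only [sub_mul, tr_sub, mul_assoc, tr_smul (σ_tr _), e1, f1]; ring)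
    (by simp only [sub_mul, tr_sub, mul_assoc, tr_smul (σ_tr _), e2, f2]; ring)
  simp only [sub_mul, tr_sub, mul_assoc, tr_smul (σ_tr _)] at this
  simp only [sub_mul, add_mul, tr_sub, tr_add, mul_assoc, tr_smul (σ_tr _), mul_comm s, mul_comm a, mul_comm b]
  linear_combination this

theorem cr_range_two (h2 : (2 : K) = 0) (hs : s ≠ 0) (h : tr σ (s * r) = 0) : ∃ t, cr σ s t = r := by
  have k1 : σ s ≠ 0 := by simpa
  have k2 : σ (σ s) ≠ 0 := by simpa
  refine ⟨s * (s * r) / nm σ s, ?_⟩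
  asimp at h ⊢
  field_simp
  linear_combination h - (s * r) * h2

/-- an additive map killing all cross products is zero -/
theorem eq_zero_of_cr {M : Type*} [AddCommGroup M] (φ : K →+ M) (h : ∀ s t, φ (cr σ s t) = 0) (x : K) : φ x = 0 := by
  by_cases h2 : (2 : K) = 0
  swap
  · obtain ⟨t, rfl⟩ := cr_surj (σ := σ) h2 one_ne_zero x; exact h _ _
  obtain ⟨s, hs, e, -⟩ := exists_perp2 (σ := σ) x x
  obtain ⟨t, rfl⟩ := cr_range_two h2 hs e
  exact h _ _

/-- `d ↦ d^# c` is not additive -/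
theorem eq_zero_of_sh (φ : K →+ K) (h : ∀ d s, d ≠ 0 → φ (d * s) = sh σ d * φ s) (s : K) : φ s = 0 := by
  have h' : ∀ d, φ (d * s) = sh σ d * φ s := fun d => by by_cases hd : d = 0 <;> simp [hd, h, sh]
  by_contra k
  refine one_ne_zero (cr_all_zero (σ := σ) fun t => mul_right_cancel₀ k ?_)
  have := h' (1 + t)
  rw [add_mul, map_add, h', h', sh_add] at this
  linear_combination -this

/-- the maps `L_1⁻¹ L_α` do not commute -/
theorem fx_of_field (h2 : (2 : K) ≠ 0) (h : ∀ α β x₁ x₂, cr σ 1 x₁ = cr σ α x → cr σ 1 x₂ = cr σ β x → cr σ β x₁ = cr σ α x₂) :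
    σ x = x := by
  have L : ∀ y, cr σ 1 (tr σ y / 2 - y) = y := fun y => by asimp; field_simp; ring
  obtain ⟨t, ht⟩ := T.ne
  have k := (ded (σ := σ) (a := (σ x - σ (σ x)) * (σ t - σ (σ t))) (b := (σ x - σ (σ x)) * (σ (σ t) - t))
    (c := (σ x - σ (σ x)) * (t - σ t)) fun β => by
      have := h t β _ _ (L _) (L _)
      asimp at this
      field_simp at this
      linear_combination this).2.2
  exact (σ.injective (sub_eq_zero.1 ((mul_eq_zero.1 k).resolve_right (sub_ne_zero.2 ht.symm)))).symm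

theorem exists_σ_pow : ∃ m : ℕ, ∀ x, σ x = x ^ m := by
  obtain ⟨p, hp⟩ := CharP.exists K
  have : Fact p.Prime := ⟨CharP.char_is_prime K p⟩
  obtain ⟨k, hk⟩ := CL.FieldAut.exists_apply_eq_pow p (σe σ)
  exact ⟨_, hk⟩

/-- the torus is generated by the coroot elements `h_a(c) = (N(c)⁻¹, c²)`, `h_b(e) = (e², e⁻¹)` -/
theorem tor_split {d : K} (h : Ok σ a d) : ∃ c e, c ≠ 0 ∧ e ≠ 0 ∧ σ e = e ∧ a = (nm σ c)⁻¹ * e ^ 2 ∧ d = c ^ 2 * e⁻¹ := by
  obtain ⟨m, hm⟩ := exists_σ_pow (σ := σ)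
  obtain ⟨k, hk⟩ := Nat.even_mul_succ_self m
  have h1 : (d ^ k) ^ 2 = sh σ d := by rw [sh, hm, hm, ← pow_mul, ← pow_mul, ← pow_add]; congr 1; linarith
  generalize d ^ k = f at h1
  have a0 := h.a0
  have d0 := h.d0
  have n0 : nm σ d ≠ 0 := by simpa
  have f0 : f ≠ 0 := fun e => d0 (sh_eq_zero.1 (by rw [← h1, e]; simp))
  have h2 : nm σ f ^ 2 = (nm σ d) ^ 2 := by rw [pow_two, ← nm_mul, ← pow_two, h1]; asimp; ring
  obtain ⟨f, f0, h1, h3⟩ : ∃ f, f ≠ 0 ∧ f ^ 2 = sh σ d ∧ nm σ f = nm σ d := by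
    rcases sq_eq_sq_iff_eq_or_eq_neg.1 h2 with e | e
    · exact ⟨f, f0, h1, e⟩
    · exact ⟨-f, by simpa, by simpa, by rw [← neg_neg (nm σ d), ← e]; asimp; ring⟩
  refine ⟨a * d * f, a ^ 2 * nm σ d, by simp [*], by simp [*], by simp [h.fx], ?_, ?_⟩
  · rw [nm_mul, nm_mul, h3, nm_fx h.fx]; field_simp
  · rw [mul_pow, h1, ← mul_sh]; field_simp [show sh σ d ≠ 0 by simpa]

theorem cube_or : (∀ c, σ c = c → ∃ e, σ e = e ∧ e ^ 3 = c) ∨ ∃ ω, σ ω = ω ∧ ω ≠ 1 ∧ ω ^ 3 = 1 := by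
  by_contra! k
  obtain ⟨⟨c, hc, h⟩, k⟩ := k
  obtain ⟨e, he⟩ := (Finite.injective_iff_surjective (f := fun x : Fx σ => x ^ 3)).1 (fun x y e => by
    by_cases hy : y = 0
    · simpa [hy] using e
    by_contra hn
    exact k (x / y : Fx σ) (x / y).2 (fun e => hn (by simpa [div_eq_one_iff_eq, hy] using e))
      (congrArg Subtype.val (show (x / y) ^ 3 = 1 by rw [div_pow, show x ^ 3 = y ^ 3 from e, div_self (pow_ne_zero _ hy)]))) ⟨c, hc⟩
  exact h e e.2 (congrArg Subtype.val he)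

theorem exists_root (p : ℕ) [Fact p.Prime] [CharP K p] (hc : σ c = c) : ∃ e, σ e = e ∧ e ^ p = c := by
  obtain ⟨e, he⟩ := (Finite.injective_iff_surjective (f := frobenius K p)).1 (frobenius K p).injective c
  exact ⟨e, (frobenius K p).injective (by rw [frobenius_def, ← map_pow, ← frobenius_def, he, hc]), he⟩

theorem exists_ne_one (hq : Nat.card (Fx σ) ≠ 2) : ∃ c, σ c = c ∧ c ≠ 0 ∧ c ≠ 1 := by
  have := two_le_card (σ := σ)
  have := Fintype.ofFinite (Fx σ)
  by_contra! k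
  refine absurd (Fintype.two_lt_card_iff.1 (by rw [← Nat.card_eq_fintype_card (α := Fx σ)]; omega)) ?_
  rintro ⟨x, y, z, h1, h2, h3⟩
  have e : ∀ x : Fx σ, x = 0 ∨ x = 1 := fun x => or_iff_not_imp_left.2 fun h => Subtype.ext (k x x.2 fun e => h (Subtype.ext e))
  rcases e x with rfl | rfl <;> rcases e y with rfl | rfl <;> rcases e z with rfl | rfl <;> simp at h1 h2 h3

theorem exists_sq_ne_one (hq : 3 < Nat.card (Fx σ)) : ∃ c, σ c = c ∧ c ≠ 0 ∧ c ^ 2 ≠ 1 := by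
  classical
  by_contra! k
  have : Nat.card (Fx σ) ≤ ({0, 1, -1} : Finset (Fx σ)).card := by
    have := Fintype.ofFinite (Fx σ)
    rw [Nat.card_eq_fintype_card]
    refine Finset.card_le_card fun x _ => ?_
    have := k x x.2
    simp only [Finset.mem_insert, Finset.mem_singleton, Subtype.ext_iff] at *
    by_cases h : (x : K) = 0
    · exact Or.inl h
    · exact Or.inr (sq_eq_one_iff.1 (this h))
  have := this.trans Finset.card_le_three
  omega

theorem fx_two (hq : Nat.card (Fx σ) = 2) (hc : σ c = c) : c = 0 ∨ c = 1 := by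
  have := Fintype.ofFinite (Fx σ)
  by_contra! k
  have := Fintype.two_lt_card_iff.2 ⟨(⟨c, hc⟩ : Fx σ), 0, 1, by simpa [Subtype.ext_iff] using k.1, by simpa [Subtype.ext_iff] using k.2,
    zero_ne_one⟩
  rw [← Nat.card_eq_fintype_card] at this; omega

/-- an `F`-automorphism fixing an element outside `F` is trivial -/
theorem eq_one_of_fix {ρ : RingAut K} (h : ∀ c, σ c = c → ρ c = c) (hx : σ x ≠ x) (e : ρ x = x) : ρ = 1 := by
  have i : Ind σ 1 x := (ind_iff one_ne_zero).2 fun ⟨c, hc, e⟩ => hx (by rw [e, mul_one, hc])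
  have k : ∀ y, σ (ρ y) = ρ (σ y) := σ_map ρ
  refine RingEquiv.ext fun y => sub_eq_zero.1 (i.span3 ?_ ?_ ?_) <;> rw [sub_mul, tr_sub, sub_eq_zero, RingAut.one_apply]
  · rw [← h _ (σ_tr (y * _)), map_tr, map_mul, map_sh, map_one]
  · rw [← h _ (σ_tr (y * _)), map_tr, map_mul, map_cr, map_one, e]
  · rw [← h _ (σ_tr (y * _)), map_tr, map_mul, map_sh, e]

theorem eq_one_of_sq {ρ : RingAut K} (h : ∀ c, σ c = c → ρ c = c) (e : ∀ x, ρ (ρ x) = x) : ρ = 1 := by
  by_contra k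
  obtain ⟨t, ht⟩ := T.ne
  have h1 : σ (t + ρ t) = t + ρ t := by_contra fun n => k (eq_one_of_fix h n (by rw [map_add, e, add_comm]))
  have h2 : σ (t * ρ t) = t * ρ t := by_contra fun n => k (eq_one_of_fix h n (by rw [map_mul, e, mul_comm]))
  have h3 := congrArg σ h1
  have h4 := congrArg σ h2
  have n1 : σ (σ t) ≠ σ t := fun e => ht (σ.injective e)
  have n2 : σ (σ t) ≠ t := fun e => ht (by simpa using (congrArg σ e).symm)
  simp only [map_add, map_mul] at h1 h2 h3 h4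
  grind

/-! `F`-subspaces -/

/-- the orthogonal complement for the trace form -/
def perp (σ : K →+* K) [Tri σ] (M : Set K) : Submodule (Fx σ) K where
  carrier := {r | ∀ m ∈ M, tr σ (r * m) = 0}
  add_mem' ha hb m hm := by rw [add_mul, tr_add, ha m hm, hb m hm, add_zero]
  zero_mem' m _ := by simp
  smul_mem' c r h m hm := by
    rw [show c • r = (c : K) * r from rfl, mul_assoc, tr_smul c.2, h m hm, mul_zero]

theorem mem_perp {M : Set K} : r ∈ perp σ M ↔ ∀ m ∈ M, tr σ (r * m) = 0 := Iff.rfl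

theorem mul_mem_sub {M : Submodule (Fx σ) K} (hc : σ c = c) (hx : x ∈ M) : c * x ∈ M := M.smul_mem (⟨c, hc⟩ : Fx σ) hx

/-- the four kinds of subspaces, with their orders and orthogonal complements -/
theorem sub_cases (M : Submodule (Fx σ) K) : M = ⊥ ∨ (∃ τ, τ ≠ 0 ∧ ∀ x, x ∈ M ↔ ∃ c, σ c = c ∧ x = c * τ) ∨
    (∃ a b, Ind σ a b ∧ (∀ x, x ∈ M ↔ ∃ c e, σ c = c ∧ σ e = e ∧ x = c * a + e * b) ∧
      ∀ r, r ∈ perp σ M ↔ ∃ c, σ c = c ∧ r = c * wd σ a b) ∨ M = ⊤ := by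
  by_cases h0 : M = ⊥
  · exact Or.inl h0
  obtain ⟨a, ha, a0⟩ := (Submodule.ne_bot_iff _).1 h0
  by_cases h1 : ∀ x ∈ M, ∃ c, σ c = c ∧ x = c * a
  · exact Or.inr (Or.inl ⟨a, a0, fun x => ⟨h1 x, by rintro ⟨c, hc, rfl⟩; exact mul_mem_sub hc ha⟩⟩)
  obtain ⟨b, hb, i⟩ : ∃ b ∈ M, Ind σ a b := by
    by_contra! k
    exact h1 fun x hx => not_not.1 (mt (ind_iff a0).2 (k x hx))
  by_cases h2 : ∀ x ∈ M, tr σ (wd σ a b * x) = 0
  · refine Or.inr (Or.inr (Or.inl ⟨a, b, i, fun x => ⟨fun hx => i.perp_perp2 fun r e1 e2 => ?_, ?_⟩,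
      fun r => ⟨fun h => i.perp2 (h a ha) (h b hb), ?_⟩⟩))
    · obtain ⟨c, hc, rfl⟩ := i.perp2 e1 e2
      rw [mul_assoc, tr_smul hc, h2 x hx, mul_zero]
    · rintro ⟨c, e, hc, he, rfl⟩; exact add_mem (mul_mem_sub hc ha) (mul_mem_sub he hb)
    · rintro ⟨c, hc, rfl⟩; exact mul_mem_sub hc h2
  push Not at h2
  obtain ⟨z, hz, k⟩ := h2
  refine Or.inr (Or.inr (Or.inr (eq_top_iff.2 fun x _ => ?_)))
  obtain ⟨c, e, hc, he, h⟩ := i.perp_perp2 (s := x - tr σ (wd σ a b * x) / tr σ (wd σ a b * z) * z) fun r e1 e2 => by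
    obtain ⟨c, hc, rfl⟩ := i.perp2 e1 e2
    rw [mul_assoc, tr_smul hc, mul_sub, tr_sub, mul_left_comm (wd σ a b),
      tr_smul (c := tr σ (wd σ a b * x) / tr σ (wd σ a b * z)) (by simp), div_mul_cancel₀ _ k, sub_self, mul_zero]
  rw [sub_eq_iff_eq_add.1 h]
  exact add_mem (add_mem (mul_mem_sub hc ha) (mul_mem_sub he hb)) (mul_mem_sub (by simp) hz)

theorem perp_perp (M : Submodule (Fx σ) K) : perp σ (perp σ (M : Set K)) = M := by
  refine le_antisymm (fun x hx => ?_) fun x hx r hr => by rw [mul_comm]; exact hr x hx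
  rcases sub_cases M with rfl | ⟨τ, h0, h⟩ | ⟨a, b, i, h, -⟩ | rfl
  · exact tr_nondeg fun s => hx s fun m hm => by simp [show m = 0 from hm]
  · refine (h x).2 (perp_perp1 h0 fun r e => mul_comm x r ▸ hx r fun m hm => ?_)
    obtain ⟨c, hc, rfl⟩ := (h m).1 hm
    rw [mul_left_comm, tr_smul hc, e, mul_zero]
  · refine (h x).2 (i.perp_perp2 fun r e1 e2 => mul_comm x r ▸ hx r fun m hm => ?_)
    obtain ⟨c, e, hc, he, rfl⟩ := (h m).1 hm
    rw [mul_add, tr_add, mul_left_comm, tr_smul hc, mul_left_comm, tr_smul he, e1, e2]; simp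
  · trivial

theorem perp_span (M : Set K) : perp σ (Submodule.span (Fx σ) M : Set K) = perp σ M :=
  le_antisymm (fun _ h m hm => h m (Submodule.subset_span hm)) fun r h m hm => by
    have : Submodule.span (Fx σ) M ≤ perp σ {r} := Submodule.span_le.2 fun m hm _ e => by rw [e, mul_comm]; exact h m hm
    rw [mul_comm]; exact this hm r rfl

/-- the trace form -/
def trB (σ : K →+* K) [Tri σ] : LinearMap.BilinForm (Fx σ) K :=
  LinearMap.mk₂ (Fx σ) (fun a b => ⟨tr σ (a * b), σ_tr _⟩) (fun _ _ _ => Subtype.ext (by simp [add_mul, tr_add]))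
    (fun c a b => Subtype.ext (by rw [show c • a = (c : K) * a from rfl, mul_assoc]; exact tr_smul c.2 _))
    (fun _ _ _ => Subtype.ext (by simp [mul_add, tr_add]))
    fun c a b => Subtype.ext (by rw [show c • b = (c : K) * b from rfl, mul_left_comm]; exact tr_smul c.2 _)

theorem finrank_perp (M : Submodule (Fx σ) K) : Module.finrank (Fx σ) M + Module.finrank (Fx σ) (perp σ (M : Set K)) = 3 := by
  have e : perp σ (M : Set K) = (trB σ).orthogonal M := by
    ext r; exact forall₂_congr fun m _ => by rw [mul_comm]; exact (Subtype.ext_iff (a1 := trB σ m r) (a2 := 0)).symm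
  have hr : (trB σ).IsRefl := fun a b h => Subtype.ext (by rw [← congrArg Subtype.val h]; exact congrArg (tr σ) (mul_comm b a))
  rw [e, LinearMap.BilinForm.finrank_add_finrank_orthogonal hr, finrank_K, LinearMap.BilinForm.orthogonal_top_eq_bot
    (hr.nondegenerate_iff_separatingLeft.2 fun r h => tr_nondeg fun s => congrArg Subtype.val (h s))]
  simp

theorem card_perp (M : Submodule (Fx σ) K) : Nat.card M * Nat.card (perp σ (M : Set K)) = Nat.card K := by
  rw [Module.natCard_eq_pow_finrank (K := Fx σ), Module.natCard_eq_pow_finrank (K := Fx σ) (V := perp σ (M : Set K)), ← pow_add,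
    finrank_perp, card_K (σ := σ)]

end CL.D3
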