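/-
S5261: the abstract context of an essential subgroup `E` of a `p`-group `P` (any prime `p`). `A` is a group of automorphisms of `E` (as functions),
`H` its strongly `p`-embedded subgroup. `f1`: elements of `N_P(E)` stabilising an invariant chain lie in `E`; `ff1`, `ff2`: an offender on an
invariant section is a full Sylow subgroup of an `SL₂` acting naturally. `Iv Ivs St Ch Au Zn` are those of `FUS/RF4/Cx`.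
-/
import Cfsg.Agent.FUS.RF4.Cx

set_option autoImplicit false

namespace CL.D3

open CL.Fus CL.RF4 Subgroup
open scoped commutatorElement

variable {Ω : Type*} [Group Ω] {p : ℕ} {P E B C D G M : Subgroup Ω} {A H : Set (Ω → Ω)} {X Y : Set Ω} {g : Ω}

theorem br_mem {x y : Ω} (hx : x ∈ P) (hy : y ∈ P) : ⁅x, y⁆ ∈ P :=
  mul_mem (mul_mem (mul_mem hx hy) (inv_mem hx)) (inv_mem hy)

theorem br_symm {x y : Ω} (h : ⁅x, y⁆ ∈ P) : ⁅y, x⁆ ∈ P := by rw [← commutatorElement_inv]; exact inv_mem h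

/-- `Ω₁ Z(E)` -/
def Omp (p : ℕ) (E : Subgroup Ω) : Subgroup Ω where
  carrier := {m | m ∈ E ∧ m ^ p = 1 ∧ ∀ y ∈ E, m * y = y * m}
  one_mem' := ⟨one_mem _, one_pow _, fun y _ => by simp⟩
  mul_mem' {a b} ha hb := ⟨mul_mem ha.1 hb.1, by rw [Commute.mul_pow (ha.2.2 b hb.1), ha.2.1, hb.2.1, mul_one],
    fun y hy => by rw [mul_assoc, hb.2.2 y hy, ← mul_assoc, ha.2.2 y hy, mul_assoc]⟩
  inv_mem' {a} ha := ⟨inv_mem ha.1, by rw [inv_pow, ha.2.1, inv_one],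
    fun y hy => by rw [inv_mul_eq_iff_eq_mul, ← mul_assoc, ha.2.2 y hy, mul_inv_cancel_right]⟩

theorem mem_Omp : g ∈ Omp p E ↔ g ∈ E ∧ g ^ p = 1 ∧ ∀ y ∈ E, g * y = y * g := Iff.rfl

/-- the preimage of `Z(E / B)` -/
def Zq (E B : Subgroup Ω) (hB : ∀ y ∈ E, ∀ b ∈ B, y * b * y⁻¹ ∈ B) : Subgroup Ω where
  carrier := {m | m ∈ E ∧ ∀ y ∈ E, ⁅m, y⁆ ∈ B}
  one_mem' := ⟨one_mem _, fun y _ => by simp⟩
  mul_mem' {a b} ha hb := ⟨mul_mem ha.1 hb.1, fun y hy => by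
      rw [show ⁅a * b, y⁆ = a * ⁅b, y⁆ * a⁻¹ * ⁅a, y⁆ by simp only [commutatorElement_def]; group]
      exact mul_mem (hB a ha.1 _ (hb.2 y hy)) (ha.2 y hy)⟩
  inv_mem' {a} ha := ⟨inv_mem ha.1, fun y hy => by
    rw [show ⁅a⁻¹, y⁆ = a⁻¹ * ⁅a, y⁆⁻¹ * a⁻¹⁻¹ by simp only [commutatorElement_def]; group]
    exact hB _ (inv_mem ha.1) _ (inv_mem (ha.2 y hy))⟩

theorem mem_Zq {hB : ∀ y ∈ E, ∀ b ∈ B, y * b * y⁻¹ ∈ B} : g ∈ Zq E B hB ↔ g ∈ E ∧ ∀ y ∈ E, ⁅g, y⁆ ∈ B := Iff.rfl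

theorem mul_pow_mem (hB : ∀ y ∈ E, ∀ b ∈ B, y * b * y⁻¹ ∈ B) {a b : Ω} (ha : a ∈ E) (hb : b ∈ Zq E B hB) (n : ℕ) :
    (a * b) ^ n * (a ^ n * b ^ n)⁻¹ ∈ B := by
  induction n with
  | zero => simp
  | succ n ih =>
    have h1 := hB _ (pow_mem ha n) _ ((pow_mem hb n).2 a ha)
    convert mul_mem ih h1 using 1
    simp only [commutatorElement_def, pow_succ' b, pow_succ a, pow_succ (a * b), mul_inv_rev, mul_assoc, inv_mul_cancel_left]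
    rw [← mul_assoc (b ^ n)⁻¹ b⁻¹, ← mul_inv_rev, ← pow_succ', pow_succ b n, mul_inv_rev, mul_assoc b⁻¹, mul_inv_cancel_left]

/-- the preimage of `Ω₁ Z(E / B)` -/
def Omq (p : ℕ) (E B : Subgroup Ω) (hB : ∀ y ∈ E, ∀ b ∈ B, y * b * y⁻¹ ∈ B) : Subgroup Ω where
  carrier := {m | m ∈ E ∧ m ^ p ∈ B ∧ ∀ y ∈ E, ⁅m, y⁆ ∈ B}
  one_mem' := ⟨one_mem _, by simp, fun y _ => by simp⟩
  mul_mem' {a b} ha hb := ⟨mul_mem ha.1 hb.1, by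
    have := mul_mem (mul_pow_mem hB ha.1 ⟨hb.1, hb.2.2⟩ p) (mul_mem ha.2.1 hb.2.1)
    rwa [inv_mul_cancel_right] at this,
    ((Zq E B hB).mul_mem ⟨ha.1, ha.2.2⟩ ⟨hb.1, hb.2.2⟩).2⟩
  inv_mem' {a} ha := ⟨inv_mem ha.1, by rw [inv_pow]; exact inv_mem ha.2.1,
    ((Zq E B hB).inv_mem ⟨ha.1, ha.2.2⟩).2⟩

theorem mem_Omq {hB : ∀ y ∈ E, ∀ b ∈ B, y * b * y⁻¹ ∈ B} : g ∈ Omq p E B hB ↔ g ∈ E ∧ g ^ p ∈ B ∧ ∀ y ∈ E, ⁅g, y⁆ ∈ B := Iff.rfl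

theorem Omp_conj : ∀ y ∈ E, ∀ b ∈ Omp p E, y * b * y⁻¹ ∈ Omp p E := fun y hy b hb => by
  rwa [← hb.2.2 y hy, mul_inv_cancel_right]

theorem iv_pow (hA : Au E A) (n : ℕ) (hY : Iv E A Y) : Iv E A {g | g ^ n ∈ Y} := fun α hα y hy h => by
  rw [Set.mem_ofPred_eq, ← (hA.hom α hα).map_pow hy]; exact hY α hα _ (pow_mem hy n) h

theorem iv_pows (hA : Au E A) (n : ℕ) (hX : Iv E A X) : Iv E A {z | ∃ x ∈ E, x ∈ X ∧ z = x ^ n} := by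
  rintro α hα _ _ ⟨x, h1, h2, rfl⟩
  exact ⟨_, hA.maps α hα x h1, hX α hα x h1 h2, (hA.hom α hα).map_pow h1 n⟩

theorem iv_Omp (hA : Au E A) : Ivs E A (Omp p E) :=
  (hA.iv_Zn.inter (iv_pow hA p hA.iv_bot)).congr
    (fun _ _ => ⟨fun h => ⟨h.1.1, h.2, h.1.2⟩, fun h => ⟨⟨h.1, h.2.2⟩, h.2.1⟩⟩) hA

theorem iv_Zq (hA : Au E A) (hB : ∀ y ∈ E, ∀ b ∈ B, y * b * y⁻¹ ∈ B) (h : Ivs E A B) : Ivs E A (Zq E B hB) :=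
  (hA.iv_comm hA.iv_self h).congr (fun _ hy => ⟨fun h => ⟨hy, fun x hx => h x hx hx⟩, fun h x hx _ => h.2 x hx⟩) hA

theorem iv_Omq (hA : Au E A) (hB : ∀ y ∈ E, ∀ b ∈ B, y * b * y⁻¹ ∈ B) (h : Ivs E A B) : Ivs E A (Omq p E B hB) :=
  ((iv_pow hA p h).inter (hA.iv_comm hA.iv_self h)).congr
    (fun _ hy => ⟨fun h => ⟨hy, h.1, fun x hx => h.2 x hx hx⟩, fun h => ⟨h.2.1, fun x hx _ => h.2.2 x hx⟩⟩) hA

/-- `{z | ∀ y ∈ X, ∃ x ∈ Y, z = [y, x]}` -/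
theorem iv_all_brk (hA : Au E A) (hX : Iv E A X) (hY : Iv E A Y) :
    Iv E A {z | ∀ y ∈ E, y ∈ X → ∃ x ∈ E, x ∈ Y ∧ z = ⁅y, x⁆} := fun α hα z _ h y hy hy' => by
  obtain ⟨y, h1, h2, rfl⟩ := hA.surj' hX hα hy hy'
  obtain ⟨x, h3, h4, rfl⟩ := h y h1 h2
  exact ⟨_, hA.maps α hα x h3, hY α hα x h3 h4, (hA.hom α hα).map_commutator h1 h3⟩

/-- all of `G` acts trivially on `(C ∩ E) / (B ∩ E)`, both invariant -/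
def Sts (E : Subgroup Ω) (A : Set (Ω → Ω)) (G B C : Subgroup Ω) : Prop :=
  Ivs E A B ∧ Ivs E A C ∧ ∀ g ∈ G, ∀ y ∈ E, y ∈ C → ⁅g, y⁆ ∈ B

/-- `G` stabilises an invariant chain from `B` to `C` -/
abbrev Chs (E : Subgroup Ω) (A : Set (Ω → Ω)) (G B C : Subgroup Ω) : Prop := Relation.ReflTransGen (Sts E A G) B C

/-- `W = C / B` is an invariant elementary abelian section centralised by `E`, `G E / E ≠ 1` is elementary abelian,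
`M / B = C_W(G)`, `|W : C_W(G)| ≤ |G E / E|` -/
structure Sec (p : ℕ) (P E : Subgroup Ω) (A : Set (Ω → Ω)) (G B C M : Subgroup Ω) : Prop where
  le : B ≤ C
  le' : C ≤ E
  ivB : Ivs E A B
  ivC : Ivs E A C
  cen : ∀ x ∈ E, ∀ y ∈ C, ⁅x, y⁆ ∈ B
  exp : ∀ y ∈ C, y ^ p ∈ B
  GP : G ≤ P
  Gn : ∀ g ∈ G, ∀ y ∈ E, ⁅g, y⁆ ∈ E
  Gc : ∀ g ∈ G, ∀ g' ∈ G, ⁅g, g'⁆ ∈ E
  Gp : ∀ g ∈ G, g ^ p ∈ E
  ne : ¬ G ≤ E
  hM : ∀ w ∈ C, w ∈ M ↔ ∀ g ∈ G, ⁅g, w⁆ ∈ B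
  idx : M.relIndex C ≤ E.relIndex G

/-- the consequences of `⟨G^A⟩` inducing `SL₂(|G E / E|)` on `W`, `W / C_W` natural -/
structure FF (p : ℕ) (P E : Subgroup Ω) (A H : Set (Ω → Ω)) (G B C M : Subgroup Ω) : Prop where
  eq : M.relIndex C = E.relIndex G
  e2 : ∀ g ∈ G, g ∉ E → ∀ w ∈ C, ⁅g, w⁆ ∈ B → w ∈ M
  e3 : ∀ g ∈ P, (∀ y ∈ E, ⁅g, y⁆ ∈ E) → ∃ a ∈ G, a⁻¹ * g ∈ E
  e4 : p ≠ 2 → ∀ a ∈ G, ∀ b ∈ G, ∀ c ∈ G, c ∉ E → ∀ w ∈ C, ∀ w₁ ∈ C, ∀ w₂ ∈ C,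
    ⁅c, w₁⁆⁻¹ * ⁅a, w⁆ ∈ B → ⁅c, w₂⁆⁻¹ * ⁅b, w⁆ ∈ B → ⁅b, w₁⁆⁻¹ * ⁅a, w₂⁆ ∈ B
  e5 : p ≠ 2 → ∃ h ∈ H, h ∈ A ∧ (∀ w ∈ C, w * h w ∈ M) ∧ (∀ g ∈ G, ∀ w ∈ C, ⁅g, w⁆ * h ⁅g, w⁆ ∈ B) ∧
    (∀ D, B ≤ D → (∀ g ∈ G, ∀ w ∈ C, ⁅g, w⁆ ∈ D) → ∀ m ∈ C, m ∈ M → m⁻¹ * h m ∈ D) ∧
    ∀ D₁ D₂, Sts E A G D₁ D₂ → ∀ y ∈ E, y ∈ D₂ → y⁻¹ * h y ∈ D₁

/-- the context -/
structure Cx (p : ℕ) (P E : Subgroup Ω) (A H : Set (Ω → Ω)) : Prop extends Au E A where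
  le : E ≤ P
  f1 : ∀ g ∈ P, g ∈ normalizer (E : Set Ω) → Ch E A g ⊥ ⊤ → g ∈ E
  ff1 : ∀ G B C M, Sec p P E A G B C M → Chs E A G ⊥ B → Chs E A G C ⊤ → FF p P E A H G B C M
  ff2 : ∀ G B C M, Sec p P E A G B C M → (∀ g ∈ P, (∀ y ∈ E, ⁅g, y⁆ ∈ E) → (∀ w ∈ C, ⁅g, w⁆ ∈ B) → g ∈ E) →
    p < E.relIndex G → FF p P E A H G B C M

theorem Chs.step (h : Chs E A G B C) (hC : Ivs E A C) (hD : Ivs E A D) (e : ∀ g ∈ G, ∀ y ∈ E, y ∈ D → ⁅g, y⁆ ∈ C) : Chs E A G B D :=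
  h.tail ⟨hC, hD, e⟩

theorem Chs.one (hB : Ivs E A B) (hC : Ivs E A C) (e : ∀ g ∈ G, ∀ y ∈ E, y ∈ C → ⁅g, y⁆ ∈ B) : Chs E A G B C := .single ⟨hB, hC, e⟩

theorem Chs.base (hA : Au E A) (hD : Ivs E A D) (e : ∀ g ∈ G, ∀ y ∈ E, y ∈ D → g * y = y * g) : Chs E A G ⊥ D :=
  .one hA.iv_bot hD fun g hg y hy h => mem_bot.2 (commutatorElement_eq_one_iff_mul_comm.2 (e g hg y hy h))

theorem Chs.top (hC : Ivs E A C) (e : ∀ g ∈ G, ∀ y ∈ E, ⁅g, y⁆ ∈ C) : Chs E A G C ⊤ := .one hC Iv.top fun g hg y hy _ => e g hg y hy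

namespace Cx

variable [Finite Ω] (h : Cx p P E A H)
include h

/-- the last step of a chain -/
theorem mem_of_ch (hg : g ∈ P) (hc : Ch E A g ⊥ B) (hB : Ivs E A B) (e : ∀ y ∈ E, ⁅g, y⁆ ∈ B) (e' : ∀ y ∈ E, ⁅g, y⁆ ∈ E) : g ∈ E :=
  h.f1 g hg (mem_normalizer_of_comm e') (hc.step hB Iv.top fun y hy _ => e y hy)

theorem mem1 (hg : g ∈ P) (e : ∀ y ∈ E, g * y = y * g) : g ∈ E :=
  have e' := fun y hy => commutatorElement_eq_one_iff_mul_comm.2 (e y hy)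
  h.mem_of_ch hg .refl h.iv_bot (fun y hy => mem_bot.2 (e' y hy)) fun y hy => e' y hy ▸ one_mem _

/-- the chain `1 < B < E`; `D` is any subgroup of `B ⊓ E` containing `[g, E]` -/
theorem mem2 (hg : g ∈ P) (hB : Ivs E A B) (e1 : ∀ y ∈ E, y ∈ B → g * y = y * g) (hD : D ≤ B) (hD' : D ≤ E)
    (e2 : ∀ y ∈ E, ⁅g, y⁆ ∈ D) : g ∈ E :=
  h.mem_of_ch hg (Ch.base h.toAu hB e1) hB (fun y hy => hD (e2 y hy)) fun y hy => hD' (e2 y hy)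

/-- the chain `1 < B < C < E`; `D` is any subgroup of `C ⊓ E` containing `[g, E]` -/
theorem mem3 (hg : g ∈ P) (hB : Ivs E A B) (hC : Ivs E A C) (e1 : ∀ y ∈ E, y ∈ B → g * y = y * g)
    (e2 : ∀ y ∈ E, y ∈ C → ⁅g, y⁆ ∈ B) (hD : D ≤ C) (hD' : D ≤ E) (e3 : ∀ y ∈ E, ⁅g, y⁆ ∈ D) : g ∈ E :=
  h.mem_of_ch hg ((Ch.base h.toAu hB e1).step hB hC e2) hC (fun y hy => hD (e3 y hy)) fun y hy => hD' (e3 y hy)

end Cx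

/-! index bounds -/

theorem relIndex_le_card {κ : Type*} [Finite κ] (φ : Ω → κ) (h : ∀ m ∈ C, ∀ m' ∈ C, φ m = φ m' → m⁻¹ * m' ∈ M) :
    M.relIndex C ≤ Nat.card κ :=
  Nat.card_le_card_of_injective (fun x : C ⧸ M.subgroupOf C => φ x.out) fun x y e => by
    rw [← x.out_eq, ← y.out_eq]; exact QuotientGroup.eq.2 (h _ x.out.2 _ y.out.2 e)

theorem card_le_relIndex [Finite Ω] {κ : Type*} (ψ : κ → Ω) (h1 : ∀ i, ψ i ∈ G) (h2 : ∀ i j, (ψ i)⁻¹ * ψ j ∈ E → i = j) :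
    Nat.card κ ≤ E.relIndex G :=
  Nat.card_le_card_of_injective (fun i => (QuotientGroup.mk ⟨ψ i, h1 i⟩ : G ⧸ E.subgroupOf G)) fun i j e =>
    h2 i j ((QuotientGroup.eq (s := E.subgroupOf G)).1 e)

/-- if `|C : M| ≥ |κ|` and `φ : C → κ` separates the cosets of `M` exactly, it is onto -/
theorem surj_of_relIndex {κ : Type*} [Finite κ] (φ : Ω → κ) (h : ∀ m ∈ C, ∀ m' ∈ C, φ m = φ m' → m⁻¹ * m' ∈ M)
    (hc : Nat.card κ ≤ M.relIndex C) (k : κ) : ∃ m ∈ C, φ m = k := by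
  have i : Function.Injective fun x : C ⧸ M.subgroupOf C => φ x.out := fun x y e => by
    rw [← x.out_eq, ← y.out_eq]; exact QuotientGroup.eq.2 (h _ x.out.2 _ y.out.2 e)
  obtain ⟨x, hx⟩ := (i.bijective_of_nat_card_le hc).2 k
  exact ⟨_, x.out.2, hx⟩

/-- the index of the kernel of a coordinate map is the size of its image -/
theorem relIndex_eq_ncard {κ : Type*} (φ : Ω → κ) (h : ∀ m ∈ C, ∀ m' ∈ C, φ m = φ m' ↔ m⁻¹ * m' ∈ M) :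
    M.relIndex C = (φ '' C).ncard :=
  Nat.card_congr (Equiv.ofBijective (fun x : C ⧸ M.subgroupOf C => (⟨φ x.out, _, x.out.2, rfl⟩ : φ '' C)) ⟨fun x y e => by
    rw [← x.out_eq, ← y.out_eq]; exact QuotientGroup.eq.2 ((h _ x.out.2 _ y.out.2).1 (congrArg Subtype.val e)), by
    rintro ⟨_, m, hm, rfl⟩
    exact ⟨QuotientGroup.mk ⟨m, hm⟩, Subtype.ext ((h _ (Quotient.out _ : C).2 _ hm).2
      ((QuotientGroup.eq (s := M.subgroupOf C)).1 (Quotient.out_eq' (QuotientGroup.mk ⟨m, hm⟩ : C ⧸ M.subgroupOf C))))⟩⟩)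

end CL.D3
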