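/-
S5261: similarities of the cubic norm structure are `t ↦ d ρ(t)`.
-/
import Cfsg.Agent.FUS.D3.Alg
import Cfsg.Agent.CHEV.TB.Hua

set_option autoImplicit false
set_option linter.unusedSimpArgs false
set_option linter.unusedSectionVars false

namespace CL.D3

variable {K : Type*} [Field K] [Finite K] {σ : K →+* K} [T : Tri σ]

namespace HuaA

theorem hua' (δ g : K ≃+ K) {l : K} (hl : l ≠ 0) (h : ∀ t, t ≠ 0 → g t⁻¹ * δ t = l) : ∃ ρ : RingAut K, ∀ t, δ t = δ 1 * ρ t := by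
  have n : δ 1 ≠ 0 := by simp
  have m := CL.TB.hua ((AddMonoidHom.mulRight (δ 1)⁻¹).comp δ.toAddMonoidHom) ((AddMonoidHom.mulRight (δ 1 / l)).comp g.toAddMonoidHom)
    (by simp) fun t ht => by
      have := h t ht
      constructor <;> simp only [AddMonoidHom.comp_apply, AddMonoidHom.mulRight_apply, AddEquiv.coe_toAddMonoidHom] <;> field_simp <;>
        simpa [mul_comm] using this
  exact ⟨⟨⟨fun t => δ t * (δ 1)⁻¹, fun t => δ.symm (t * δ 1), fun t => by simp [n], fun t => by simp [n]⟩, m,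
    fun t u => by simp [add_mul]⟩, fun t => by change _ = _ * (δ t * _); field_simp⟩

theorem smul (δ g : K ≃+ K) (β : K → K) (h2 : ∀ r t, β (tr σ (r * t)) = tr σ (g r * δ t)) {c c' : K}
    (h : ∀ t, δ (c * t) = c' * δ t) (r : K) : g (c * r) = c' * g r := sub_eq_zero.1 (tr_nondeg (σ := σ) fun s => by
  obtain ⟨t, rfl⟩ := δ.surjective s
  rw [sub_mul, tr_sub, ← h2, mul_comm c', mul_assoc (g r), ← h, ← h2, mul_comm c, mul_assoc, sub_self])

end HuaA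

/-- Hua. Normalise `δ₁ = δ / δ 1`, `g₁ = g · δ 1`, so `g₁ t⁻¹ = (δ₁ t)⁻¹`, `δ₁ t⁻¹ = (g₁ t)⁻¹`, `δ₁ 1 = g₁ 1 = 1`. From `a - a b a = (a⁻¹ + (b⁻¹ - a)⁻¹)⁻¹` (`a, b ≠ 0`, `a b ≠ 1`): `δ₁ (a² b) = (δ₁ a)² g₁ b` (also for `a b = 1`, `a b = 0`).
`a = 1`: `g₁ = δ₁`; `b = 1`: `δ₁ a² = (δ₁ a)²`. If `2 ≠ 0` polarise; if `2 = 0` every element is a square (`frobenius` is injective, so onto): `δ₁ (a² b) = δ₁ (a²) δ₁ b`. -/
theorem hua (δ g : K ≃+ K) (h : ∀ t, g t⁻¹ = (δ t)⁻¹) : ∃ ρ : RingAut K, ∀ t, δ t = δ 1 * ρ t :=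
  HuaA.hua' δ g one_ne_zero fun t ht => by rw [h, inv_mul_cancel₀ (by simpa using ht)]

/-- Proof. Choose `ρ₀ c` from `hs`. `g (c r) = ρ₀ c * g r` (`h2` for `(c r, t)` and `(r, c t)`, `tr_smul`, `tr_nondeg`, `δ` onto). For `t ≠ 0`: `t⁻¹ = N(t)⁻¹ t^#`, so `g t⁻¹ = λ(t) (δ t)⁻¹`, `λ(t) = a N(δ t) ρ₀(N(t)⁻¹) ∈ F`. It suffices that `λ` is constant (`hua` with `g / λ`).
If `3 ≠ 0`: `β (T 1) = T(g t⁻¹ δ t) = 3 λ(t)`. If `3 = 0` (so `2 ≠ 0`): `Δ(x, y, z) = T(x · wd y z)` is alternating `F`-trilinear, `Δ(t × x, t × y, t × z) = 2 N(t) Δ(x, y, z)` (`ring`). Take a basis `e₁ = a', e₂ = b', e₃` (`Ind a' b'`, `Δ(e₃, a', b') ≠ 0`; every `x` is an `F`-combination, cf. the end of `sub_cases`).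
For additive `ρ₀`-semilinear `φ` (`ρ₀` is additive and multiplicative on `F`: cancel `δ 1`): `Δ(φ x, φ y, φ z) = ρ₀(Δ(x,y,z) / Δ(e)) Δ(φ e)` (expand `x, y, z` in the basis). Polarising `h1`: `g (t × s) = a δ t × δ s`. So `ρ₀(2 N t) Δ(g e) = a³ 2 N(δ t) Δ(δ e)`, and `Δ(δ e) ≠ 0` (else `Δ(δ x, δ y, δ z) = 0` for all `x y z`). -/
theorem exists_form (δ g : K ≃+ K) {a : K} (ha : σ a = a) (a0 : a ≠ 0) (β : K → K)
    (hs : ∀ c, σ c = c → ∃ c', σ c' = c' ∧ ∀ t, δ (c * t) = c' * δ t) (h1 : ∀ t, g (sh σ t) = a * sh σ (δ t))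
    (h2 : ∀ r t, β (tr σ (r * t)) = tr σ (g r * δ t)) : ∃ ρ : RingAut K, ∀ t, δ t = δ 1 * ρ t := by
  obtain ⟨l, hl⟩ : ∃ l : K → K, ∀ r, l r = g r * δ r⁻¹ := ⟨_, fun _ => rfl⟩
  have l0 : ∀ r, r ≠ 0 → l r ≠ 0 := fun r hr => by simp [hl, hr]
  have k : ∀ r, r ≠ 0 → σ (l r) = l r ∧ δ (sh σ r) = (a * l r)⁻¹ * sh σ (g r) := fun r hr => by
    obtain ⟨c, hc, e⟩ := hs _ (σ_nm r)
    have n1 := (map_ne_zero σ).2 hr
    have n2 := (map_ne_zero σ).2 n1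
    have e1 := HuaA.smul δ g β h2 e (sh σ r⁻¹)
    have e2 := e r⁻¹
    rw [show nm σ r * sh σ r⁻¹ = r by asimp; field_simp, h1] at e1
    rw [show nm σ r * r⁻¹ = sh σ r by asimp; field_simp] at e2
    have e3 : l r = c * a * nm σ (δ r⁻¹) := by rw [hl, e1, ← mul_sh]; ring
    refine ⟨by simp [e3, hc, ha], ?_⟩
    rw [eq_inv_mul_iff_mul_eq₀ (mul_ne_zero a0 (l0 r hr)), e2, e3, e1, sh_mul, sh_mul, sh_sh, sh_fx hc, sh_fx ha]; ring
  refine HuaA.hua' δ g (l0 (g.symm 1) (by simp)) fun t ht => ?_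
  rw [show g t⁻¹ * δ t = l t⁻¹ by rw [hl, inv_inv]]
  have ht' := inv_ne_zero ht
  generalize t⁻¹ = r at ht'
  by_cases h3 : (3 : K) = 0
  · have h2' : (2 : K) ≠ 0 := fun e => one_ne_zero (by linear_combination h3 - e : (1 : K) = 0)
    have i : ∀ r r', Ind σ (g r) (g r') → l r = l r' := fun r r' i => by
      have n1 : r ≠ 0 := by simpa using i.ne_left
      have n2 : r' ≠ 0 := by simpa using i.ne_right
      have n3 : r + r' ≠ 0 := fun e => one_ne_zero (i 1 1 (map_one σ) (map_one σ) (by rw [one_mul, one_mul, ← map_add, e, map_zero])).1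
      have n4 : r - r' ≠ 0 := fun e => one_ne_zero (i 1 (-1) (map_one σ) (by simp) (by rw [sub_eq_zero.1 e]; ring)).1
      have e := congrArg δ (show sh σ (r + r') + sh σ (r - r') = sh σ r + sh σ r + (sh σ r' + sh σ r') by asimp; ring)
      simp only [map_add, map_sub, (k _ n1).2, (k _ n2).2, (k _ n3).2, (k _ n4).2] at e
      obtain ⟨e1, -, e2⟩ := i.ind3 (x := (a * l (r + r'))⁻¹ + (a * l (r - r'))⁻¹ - 2 * (a * l r)⁻¹)
        (y := (a * l (r + r'))⁻¹ - (a * l (r - r'))⁻¹) (z := (a * l (r + r'))⁻¹ + (a * l (r - r'))⁻¹ - 2 * (a * l r')⁻¹)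
        (by simp [ha, k, n1, n3, n4, map_ofNat]) (by simp [ha, k, n3, n4]) (by simp [ha, k, n2, n3, n4, map_ofNat]) (by
          simp only [sh, cr, map_add, map_sub] at e ⊢; linear_combination e)
      exact mul_left_cancel₀ a0 (inv_injective (mul_left_cancel₀ h2' (by linear_combination e2 - e1)))
    by_cases j : Ind σ 1 (g r)
    · exact (i _ _ (by rwa [g.apply_symm_apply])).symm
    obtain ⟨c, hc, e⟩ := not_not.1 (mt (ind_iff one_ne_zero).2 j)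
    obtain ⟨b, hb⟩ := exists_ind (σ := σ) (one_ne_zero (α := K))
    have c0 : c ≠ 0 := by rintro rfl; simp [ht'] at e
    rw [i r (g.symm b) fun x y hx hy e' => (hb (x * c) y (by rw [map_mul, hx, hc]) hy (by simpa [e] using e')).imp_left
      fun h => (mul_eq_zero.1 h).resolve_right c0, i (g.symm 1) (g.symm b) (by simpa using hb)]
  · have e : ∀ r, r ≠ 0 → β (tr σ 1) = 3 * l r := fun r hr => by
      rw [← mul_inv_cancel₀ hr, h2, ← hl, tr, (k r hr).1, (k r hr).1]; ring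
    exact mul_left_cancel₀ h3 ((e r ht').symm.trans (e _ (by simp)))

end CL.D3
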