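/-
S5261: the automorphisms of `U σ`.
-/
import Cfsg.Agent.FUS.D3.Hua
import Cfsg.Agent.FUS.D3.Cx

set_option autoImplicit false
set_option linter.unusedSimpArgs false
set_option linter.unusedSectionVars false

namespace CL.D3

open CL.Fus CL.RF4 Subgroup
open scoped commutatorElement

variable {K : Type*} [Field K] [Finite K] {σ : K →+* K} [T : Tri σ]

/-- `α` and `β` agree on the factors of `1 < Z < V < A₀ < R₀ < S` -/
def Sm (α β : U σ → U σ) : Prop := ∀ g, (α g).u = (β g).u ∧ (α g).t = (β g).t ∧ (g ∈ sR → (α g).s = (β g).s) ∧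
  (g ∈ sA → (α g).r = (β g).r) ∧ (g ∈ sV → (α g).w = (β g).w) ∧ (g ∈ sZ → (α g).v = (β g).v)

namespace AutA

variable {g h : U σ}

theorem key {G : Type*} [Group G] (α : MulAut G) {B C D : Subgroup G} (hB : ∀ g, α g ∈ B ↔ g ∈ B) (hD : ∀ g, α g ∈ D ↔ g ∈ D)
    (h : ∀ g, g ∈ C ↔ ∀ x ∈ D, ⁅g, x⁆ ∈ B) (g : G) : α g ∈ C ↔ g ∈ C := by
  rw [h, h, α.surjective.forall]; simp only [hD, ← map_commutatorElement, hB]

theorem br_R (g : U σ) (hh : h ∈ sR) : ⁅g, h⁆ ∈ sA ∧ ⁅g, h⁆.r = cr σ h.s g.t :=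
  ⟨⟨br_u .., by simp [br_s, hh.1, hh.2], br_t ..⟩, by simp [br_r, hh.1, hh.2, cr]⟩

theorem br_A (g : U σ) (hh : h ∈ sA) : ⁅g, h⁆ ∈ sV ∧ ⁅g, h⁆.w = tr σ (h.r * g.t) :=
  have k := br_R g (sA_le_sR hh)
  ⟨⟨k.1.1, k.1.2.1, by simp [k.2, hh.2.1, cr], k.1.2.2⟩, by simp [br_w, hh.1, hh.2.1, hh.2.2, sh, nm]⟩

theorem br_V' (g : U σ) (hh : h ∈ sV) : ⁅g, h⁆ ∈ sZ := br_V g hh ▸ ⟨rfl, rfl, rfl, rfl, rfl⟩

theorem cR (k : ∀ x : U σ, ⁅g, x⁆ ∈ sA) : g ∈ sR :=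
  ⟨by simpa [br_s] using (k (y6 1)).2.1, by simpa [br_s] using (k (y1 1 (map_one σ))).2.1⟩

theorem cA (k : ∀ x : U σ, ⁅g, x⁆ ∈ sV) : g ∈ sA :=
  have h1 := cR fun x => sV_le_sA (k x)
  ⟨h1.1, cr_all_zero (σ := σ) fun t => (br_R (y6 t) h1).2.symm.trans (br_symm (k _)).2.2.1, h1.2⟩

theorem cV (k : ∀ x : U σ, ⁅g, x⁆ ∈ sZ) : g ∈ sV :=
  have h1 := cA fun x => sZ_le_sV (k x)
  ⟨h1.1, h1.2.1, tr_nondeg (σ := σ) fun t => (br_A (y6 t) h1).2.symm.trans (br_symm (k _)).2.2.2.1, h1.2.2⟩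

theorem cZ (k : ∀ x : U σ, ⁅g, x⁆ ∈ (⊥ : Subgroup (U σ))) : g ∈ sZ :=
  have h1 := cV fun x => bot_le (a := sZ) (k x)
  ⟨h1.1, h1.2.1, h1.2.2.1, by simpa [br_V _ h1] using congrArg U.v (mem_bot.1 (br_symm (k (y1 1 (map_one σ))))), h1.2.2.2⟩

end AutA
open AutA

/-- Upper central series: `Z = Z(S)`, `V = {y | [y, S] ≤ Z}`, `A₀ = {y | [y, S] ≤ V}`, `R₀ = {y | [y, S] ≤ A₀}` (test against `y1 1`, `y6 t`; `cr_all_zero`, `tr_nondeg`), `Q = {g | [g, A₀] ≤ Z}`, `Q' = C(V)`. (`Au.iv_comm`, `iv_cent`, `Iv.congr` with `A = {α, α.symm}`, or directly.) -/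
theorem map_mem (α : MulAut (U σ)) (g : U σ) : (α g ∈ sZ ↔ g ∈ sZ) ∧ (α g ∈ sV ↔ g ∈ sV) ∧ (α g ∈ sA ↔ g ∈ sA) ∧ (α g ∈ sR ↔ g ∈ sR) ∧
    (α g ∈ Q ↔ g ∈ Q) ∧ (α g ∈ Q' ↔ g ∈ Q') := by
  have h0 : ∀ g, α g ∈ (⊥ : Subgroup (U σ)) ↔ g ∈ (⊥ : Subgroup (U σ)) := by simp
  have h1 : ∀ g, α g ∈ (⊤ : Subgroup (U σ)) ↔ g ∈ (⊤ : Subgroup (U σ)) := by simp
  have hZ := key α (C := sZ) h0 h1 fun g => ⟨fun k x _ => mem_bot.2 (commutatorElement_eq_one_iff_mul_comm.2 (comm_Z x k).symm),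
    fun k => cZ fun x => k x trivial⟩
  have hV := key α (C := sV) hZ h1 fun g => ⟨fun k x _ => br_symm (br_V' x k), fun k => cV fun x => k x trivial⟩
  have hA := key α (C := sA) hV h1 fun g => ⟨fun k x _ => br_symm (br_A x k).1, fun k => cA fun x => k x trivial⟩
  exact ⟨hZ g, hV g, hA g, key α hA h1 (fun g => ⟨fun k x _ => br_symm (br_R x k).1, fun k => cR fun x => k x trivial⟩) g,
    key α hZ hA (fun g => ⟨fun k x hx => br_Q k (sR_le_Q (sA_le_sR hx)) ▸ ⟨rfl, rfl, rfl, rfl, rfl⟩, fun k => tr_nondeg (σ := σ) fun r => by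
      rw [mul_comm]; exact (br_A g (h := y4 r) ⟨rfl, rfl, rfl⟩).2.symm.trans (k _ ⟨rfl, rfl, rfl⟩).2.2.2.1⟩) g,
    key α h0 hV (fun g => ⟨fun k x hx => mem_bot.2 (commutatorElement_eq_one_iff_mul_comm.2 (comm_V k hx)), fun k => by
      have h5 : (y5 1 (map_one σ) : U σ) ∈ sV := ⟨rfl, rfl, rfl, rfl⟩
      simpa [br_V _ h5, mem_Q'] using congrArg U.v (mem_bot.1 (k _ h5))⟩) g⟩

/-- a coordinate map induced on a section (copy `CL.RF4.exists_crd`, FUS/RF4/BigA) -/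
theorem exists_crd {Ω : Type*} [Group Ω] {Y : Subgroup Ω} {f : Ω → Ω} (hf : IsHomOn Y f) (iY : ∀ y ∈ Y, f y ∈ Y) (κ : Ω → K)
    (hκ : ∀ x ∈ Y, ∀ y ∈ Y, κ (x * y) = κ x + κ y) (s : ∀ a, ∃ y ∈ Y, κ y = a) (iX : ∀ y ∈ Y, κ (f y) = 0 ↔ κ y = 0) :
    ∃ φ : K ≃+ K, ∀ y ∈ Y, κ (f y) = φ (κ y) := by
  choose s s1 s2 using s
  have key : ∀ y ∈ Y, κ (f y) = κ (f (s (κ y))) := fun y hy => by
    have h1 := mul_mem (inv_mem (s1 (κ y))) hy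
    have e := hκ _ (s1 (κ y)) _ h1
    rw [mul_inv_cancel_left, s2, left_eq_add] at e
    conv_lhs => rw [← mul_inv_cancel_left (s (κ y)) y, hf (s1 _) h1, hκ _ (iY _ (s1 _)) _ (iY _ h1), (iX _ h1).2 e, add_zero]
  let φ : K →+ K := AddMonoidHom.mk' (fun a => κ (f (s a))) fun a b => by
    have := key _ (mul_mem (s1 a) (s1 b))
    rw [hκ _ (s1 a) _ (s1 b), s2, s2, hf (s1 a) (s1 b), hκ _ (iY _ (s1 a)) _ (iY _ (s1 b))] at this
    exact this.symm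
  exact ⟨AddEquiv.ofBijective φ (Finite.injective_iff_bijective.1 ((injective_iff_map_eq_zero φ).2 fun a ha =>
    (s2 a).symm.trans ((iX _ (s1 a)).1 ha))), key⟩

theorem exists_delta (α : MulAut (U σ)) : ∃ δ : K ≃+ K, ∀ g, (α g).t = δ g.t :=
  let ⟨δ, h⟩ := exists_crd (Y := ⊤) (f := α) (fun x _ y _ => map_mul α x y) (fun _ _ => trivial) U.t (fun _ _ _ _ => rfl)
    (fun a => ⟨y6 a, trivial, rfl⟩) fun y _ => (map_mem α y).2.2.2.2.1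
  ⟨δ, fun g => h g trivial⟩

namespace AutA

variable (α : MulAut (U σ)) {g h : U σ}

theorem mZ (k : g ∈ sZ) : α g ∈ sZ := (map_mem α g).1.2 k
theorem mV (k : g ∈ sV) : α g ∈ sV := (map_mem α g).2.1.2 k
theorem mA (k : g ∈ sA) : α g ∈ sA := (map_mem α g).2.2.1.2 k
theorem mR (k : g ∈ sR) : α g ∈ sR := (map_mem α g).2.2.2.1.2 k
theorem mQ (k : g ∈ Q) : α g ∈ Q := (map_mem α g).2.2.2.2.1.2 k
theorem mQ' (k : g ∈ Q') : α g ∈ Q' := (map_mem α g).2.2.2.2.2.2 k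

theorem dZ (k : g * h⁻¹ ∈ sZ) : (α g).w = (α h).w := (div_mem_sZ.1 (by simpa using mZ α k)).2.2.2.1
theorem dV (k : g * h⁻¹ ∈ sV) : (α g).r = (α h).r := (div_mem_sV.1 (by simpa using mV α k)).2.2.1
theorem dA (k : g * h⁻¹ ∈ sA) : (α g).s = (α h).s := (div_mem_sA.1 (by simpa using mA α k)).2.1
theorem dQ' (k : g * h⁻¹ ∈ Q') : (α g).u = (α h).u := div_mem_Q'.1 (by simpa using mQ' α k)

theorem eq_Z (hg : g ∈ sV) (hh : h ∈ sV) (e : g.w = h.w) : g * h⁻¹ ∈ sZ :=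
  div_mem_sZ.2 ⟨hg.1.trans hh.1.symm, hg.2.1.trans hh.2.1.symm, hg.2.2.1.trans hh.2.2.1.symm, e, hg.2.2.2.trans hh.2.2.2.symm⟩

theorem eq_V (hg : g ∈ sA) (hh : h ∈ sA) (e : g.r = h.r) : g * h⁻¹ ∈ sV :=
  div_mem_sV.2 ⟨hg.1.trans hh.1.symm, hg.2.1.trans hh.2.1.symm, e, hg.2.2.trans hh.2.2.symm⟩

theorem mul_r_A (hg : g ∈ sR) (hh : h ∈ sR) : (g * h).r = g.r + h.r := by simp [U.mul_r, hg.2, hh.1, cr]

theorem sm {α β : MulAut (U σ)} (e : ∀ g, (α g).u = (β g).u ∧ (α g).t = (β g).t) : Sm α β := by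
  have es : ∀ g ∈ sR, (α g).s = (β g).s := fun g hg => by
    have k : g * ⁅(y6 g.s : U σ), y1 1 (map_one σ)⁆⁻¹ ∈ sA := div_mem_sA.2 ⟨by rw [hg.1, br_u], by simp [br_s], by rw [hg.2, br_t]⟩
    rw [dA α k, dA β k, map_commutatorElement, map_commutatorElement]
    simp only [br_s, e]
  have y4A : ∀ r, (y4 r : U σ) ∈ sA := fun r => ⟨rfl, rfl, rfl⟩
  have er : ∀ g ∈ sA, (α g).r = (β g).r := fun g hg => by
    have k := eq_V hg (y4A g.r) rfl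
    rw [dV α k, dV β k, ← sub_eq_zero]
    refine eq_zero_of_cr (σ := σ) (AddMonoidHom.mk' (fun r => (α (y4 r)).r - (β (y4 r)).r) fun r r' => ?_) (fun s t => ?_) _
    · rw [show (y4 (r + r') : U σ) = y4 r * y4 r' by usimp, map_mul, map_mul, mul_r_A (sA_le_sR (mA α (y4A _))) (sA_le_sR (mA α (y4A _))),
        mul_r_A (sA_le_sR (mA β (y4A _))) (sA_le_sR (mA β (y4A _)))]
      ring
    · have k1 : (y2 s : U σ) ∈ sR := ⟨rfl, rfl⟩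
      have k2 := eq_V (y4A (cr σ s t)) (br_R (y6 t) k1).1 (br_R (y6 t) k1).2.symm
      change (α _).r - (β _).r = 0
      rw [dV α k2, dV β k2, map_commutatorElement, map_commutatorElement, (br_R _ (mR α k1)).2, (br_R _ (mR β k1)).2, es _ k1, (e _).2,
        sub_self]
  have ew : ∀ g ∈ sV, (α g).w = (β g).w := fun g hg => by
    obtain ⟨r, hr⟩ := exists_tr_mul (σ := σ) one_ne_zero g.hw
    have k := eq_Z hg (br_A (y6 1) (y4A r)).1 (hr.symm.trans (br_A (y6 1) (y4A r)).2.symm)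
    rw [dZ α k, dZ β k, map_commutatorElement, map_commutatorElement, (br_A _ (mA α (y4A r))).2, (br_A _ (mA β (y4A r))).2,
      er _ (y4A r), (e _).2]
  refine fun g => ⟨(e g).1, (e g).2, es g, er g, ew g, fun hg => ?_⟩
  have k : (y5 g.v g.hv : U σ) ∈ sV := ⟨rfl, rfl, rfl, rfl⟩
  rw [show g = ⁅y1 1 (map_one σ), y5 g.v g.hv⁆ by rw [br_V _ k]; msimp at hg; usimp; simp [hg], map_commutatorElement,
    map_commutatorElement, br_V _ (mV α k), br_V _ (mV β k), y3_v, y3_v, ew _ k, (e _).1]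

end AutA

/-- Proof. Replace `α` by `β = (dd a d ρ h)⁻¹ * α`, which fixes the coordinates `u`, `t`. `s` on `R₀`: `g ≡ ⁅y6 g.s, y1 1⁆` modulo `A₀`, `br_s`. `r` on `A₀`: `r ↦ (β (y4 r)).r - r` is additive, kills all `s × t` (`⁅y6 t, y2 s⁆`, `br_r`), `eq_zero_of_cr`.
`w` on `V`: `⁅y6 t, y4 r⁆` (`br_Q'A`, `exists_tr_mul`). `v` on `Z`: `⁅y1 1, y5 v⁆` (`br_V`). -/
theorem sm_of_ut (α : MulAut (U σ)) {a d : K} {ρ : RingAut K} (h : Ok σ a d) (e : ∀ g, (α g).u = a * ρ g.u ∧ (α g).t = d * ρ g.t) :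
    Sm α (dd a d ρ h) := sm e

/-- Proof. `δ` on `t`, `f` on `s` (`R₀`), `g` on `r` (`A₀`) by `exists_crd`; `a = (α (y1 1)).u ≠ 0`; `β c = (α (y5 c)).w`. `⁅y6 t, y1 c⁆.s = c t`: `f (c t) = (α (y1 c)).u δ t`, so `f = a δ` and `δ (c t) = ρ₀(c) δ t`, `ρ₀ c = (α (y1 c)).u / a`.
`⁅y6 t, y2 s⁆.r = s × t`: `g (s × t) = f s × δ t`. `⁅y6 t, y4 r⁆`: `β (T(r t)) = T(g r δ t)` (`w` of `α v` depends only on `v.w` for `v ∈ V`), hence `g (c r) = ρ₀(c) g r`. Need `D t := g t^# - a (δ t)^# = 0`. `2 ≠ 0`: `t × t = 2 t^#`.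
`2 = 0`: `λ s = (α (y2 s)).r`, `μ c = (α (y1 c)).s`; `⁅y6 t, y1 c⁆ ∈ y2 (c t) y4 (c t^#) V` gives `λ (c t) + g (c t^#) = μ c × δ t + a ρ₀(c) (δ t)^#`. Fix `c ≠ 0, 1` in `F` (`exists_ne_one`), `c' = ρ₀ c ≠ 0, 1`; compare with the identity for `(1, c t)`:
`(c'² - c') D t = ν × δ t`, `ν = c' μ 1 - μ c` independent of `t`. Replace `t` by `c t`: the left side is multiplied by `c'²`, the right side by `c'`; so `D t = 0`.
`exists_form`: `δ = d ρ`; then `ρ₀ = ρ` on `F`; `(α g).u` depends only on `g.u`; `sm_of_ut`. -/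
theorem aut_form (hq : Nat.card (Fx σ) ≠ 2) (α : MulAut (U σ)) : ∃ a d ρ h, Sm α (dd (σ := σ) a d ρ h) := by
  classical
  have hm : IsHomOn ⊤ α := fun x _ y _ => map_mul α x y
  obtain ⟨δ, eδ⟩ := exists_delta α
  obtain ⟨f, ef⟩ := exists_crd (hm.mono le_top) (fun y => mR α) U.s (fun x hx y hy => by simp [U.mul_s, hy.1])
    (fun a => ⟨y2 a, ⟨rfl, rfl⟩, rfl⟩) fun y hy => by
      simpa [mem_sA, hy.1, hy.2, (mR α hy).1, (mR α hy).2] using (map_mem α y).2.2.1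
  obtain ⟨γ, eγ⟩ := exists_crd (hm.mono le_top) (fun y => mA α) U.r (fun x hx y hy => mul_r_A (sA_le_sR hx) (sA_le_sR hy))
    (fun a => ⟨y4 a, ⟨rfl, rfl, rfl⟩, rfl⟩) fun y hy => by
      simpa [mem_sV, hy.1, hy.2.1, hy.2.2, (mA α hy).1, (mA α hy).2.1, (mA α hy).2.2] using (map_mem α y).2.1
  have u6 : ∀ t, (α (y6 t)).u = 0 := fun t => mQ' α (g := y6 t) rfl
  have e1 : ∀ c hc t, f (c * t) = (α (y1 c hc)).u * δ t := fun c hc t => by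
    have := ef ⁅y6 t, y1 c hc⁆ ⟨br_u .., br_t ..⟩
    rw [map_commutatorElement] at this
    simpa [br_s, eδ, u6] using this.symm
  obtain ⟨a, ha⟩ : ∃ a, a = (α (y1 1 (map_one σ))).u := ⟨_, rfl⟩
  have fa : σ a = a := ha ▸ U.hu _
  have a0 : a ≠ 0 := fun e => one_ne_zero (show (y1 1 (map_one σ) : U σ) ∈ Q' from (map_mem α _).2.2.2.2.2.1 (ha.symm.trans e))
  have e2 : ∀ t, f t = a * δ t := fun t => by rw [ha, ← e1, one_mul]
  have e3 : ∀ c hc t, δ (c * t) = (α (y1 c hc)).u / a * δ t := fun c hc t => by rw [div_mul_eq_mul_div, ← e1, e2]; field_simp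
  have y4A : ∀ r, (y4 r : U σ) ∈ sA := fun r => ⟨rfl, rfl, rfl⟩
  obtain ⟨β, hβ⟩ : ∃ β : K → K, ∀ c h, β c = (α (y5 c h)).w := ⟨fun c => if h : σ c = c then (α (y5 c h)).w else 0, fun c h => dif_pos h⟩
  have e4 : ∀ r t, β (tr σ (r * t)) = tr σ (γ r * δ t) := fun r t => by
    rw [hβ _ (σ_tr _), dZ α (eq_Z (g := y5 (tr σ (r * t)) (σ_tr _)) ⟨rfl, rfl, rfl, rfl⟩ (br_A (y6 t) (y4A r)).1 (br_A (y6 t) (y4A r)).2.symm),
      map_commutatorElement, (br_A _ (mA α (y4A r))).2, eγ _ (y4A r), eδ]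
    rfl
  have e5 : ∀ c hc t, (α (y2 (c * t))).r + γ (c * sh σ t) = cr σ (α (y1 c hc)).s (δ t) + (α (y1 c hc)).u * sh σ (δ t) := fun c hc t => by
    have := dV α (g := y2 (c * t) * y4 (c * sh σ t)) (h := ⁅y6 t, y1 c hc⁆) (div_mem_sV.2 (by
      rw [br_u, br_s, br_r, br_t]; usimp))
    rw [map_mul, map_commutatorElement, mul_r_A (mR α ⟨rfl, rfl⟩) (sA_le_sR (mA α (y4A _))), eγ _ (y4A _), br_r] at this
    simpa [eδ, u6, cr] using this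
  obtain ⟨c, hc, c0, c1⟩ := exists_ne_one hq
  obtain ⟨c', hc'⟩ : ∃ c', c' = (α (y1 c hc)).u / a := ⟨_, rfl⟩
  have fc : σ c' = c' := by simp [hc', fa]
  have e6 := e3 c hc
  rw [← hc'] at e6
  have e7 := HuaA.smul δ γ _ e4 e6
  have e8 : ∀ t, (c' ^ 2 - c') * (γ (sh σ t) - a * sh σ (δ t)) =
      cr σ (c' * (α (y1 1 (map_one σ))).s - (α (y1 c hc)).s) (δ t) := fun t => by
    have k1 := e5 c hc t
    have k2 := e5 1 (map_one σ) (c * t)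
    rw [e7, show (α (y1 c hc)).u = c' * a by rw [hc', div_mul_cancel₀ _ a0]] at k1
    rw [one_mul, one_mul, sh_mul, sh_fx hc, sq, mul_assoc, e7, e7, e6, ← ha, sh_mul, sh_fx fc] at k2
    simp only [cr, map_sub, map_mul, fc] at k1 k2 ⊢
    linear_combination k2 - k1
  have n : c' ^ 2 - c' ≠ 0 := by
    rw [sq, ← mul_sub_one]
    refine mul_ne_zero (fun e => c0 ?_) fun e => c1 ?_
    · simpa [e] using e6 1
    · simpa [sub_eq_zero.1 e] using e6 1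
  obtain ⟨ρ, hρ⟩ := exists_form δ γ fa a0 _ (fun c hc => ⟨_, by simp [fa], e3 c hc⟩) (fun t => by
    have k := e8 (c * t)
    rw [e6, cr_smul fc, ← e8, sh_mul, sh_fx hc, sq c, mul_assoc c, e7, e7, sh_mul, sh_fx fc] at k
    exact sub_eq_zero.1 (mul_left_cancel₀ (mul_ne_zero n n) (by linear_combination k))) e4
  have d0 : δ 1 ≠ 0 := by simp
  refine ⟨a, δ 1, ρ, ⟨fa, a0, d0⟩, sm_of_ut α _ fun g => ⟨?_, by rw [eδ, hρ]⟩⟩
  have := e3 g.u g.hu 1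
  rw [mul_one, hρ, mul_comm, mul_left_inj' d0] at this
  rw [dQ' α (g := g) (h := y1 g.u g.hu) (div_mem_Q'.2 rfl), this, mul_div_cancel₀ _ a0]

end CL.D3
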