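/-
S5261: an offender in a group with a strongly `p`-embedded subgroup acting faithfully (from `TECH/BHS11`; see `S2789.lean` for the usage).
-/
import Cfsg.Agent.TECH.BHS11
import Cfsg.Agent.SIG.PElt

set_option autoImplicit false

namespace CL.D3

open CL.BHS CL.MSS Subgroup Cfsg
open scoped commutatorElement

/-- Proof. `H₁ = pElementClosure p H` (normal in `H`, contains `T`, generated by its `p`-elements), `M₁ = M ⊓ H₁`. `M₁ < H₁`: else `H₁ ≤ M` and Frattini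
`H = H₁ N_H(T)`, `N_H(T) ≤ M` (`se T`). `exists_mo` gives `A' ∈ MO p V H₁`, `A' ≤ A`; `spe_dm`, `spe_line` for `H₁, T, M₁`: `A₁, B₁ ∈ MO`, `Line V A₁ B₁`, `A₁ ⊔ B₁ = H₁`;
`exists_field`, `exists_natL`: `ρ : H₁ ≃ SL₂(k)`, `|k| = |A₁|`; `natL_memA`: `A₁ ↔ uGrp k`, a Sylow `p`-subgroup of `SL₂(k)` (order `|k|(|k|²-1)`; or: a `p`-subgroup containing `A₁`
properly normalises..., simply compare `p`-parts). So `T = g A₁ g⁻¹`, `g ∈ H₁`; replace `A₁, B₁` by their conjugates (`Line.cj`, `DS.cj`) BEFORE `exists_natL`: `A₁ = T`, `TI p V T`.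
`TI p V A'` (`DS.ti`): `|A'| |C_V(A')| = |V| = |T| |C_V(T)|` and `C_V(A') = C_V(T)` by `TI.fix` for `T`; so `A' = A = T`.
`p ≠ 2`: `z ∈ H₁` with `ρ z = -1`; `z` is central in `H₁`, `z² = 1` (`ρ` injective), normalises `T`, so `z ∈ M`. `z ∈ H₁ = T ⊔ B₁ ≤ L` since `B₁` is conjugate to `T = A` (`Line.conj`).
`ψ (z w z⁻¹) = -ψ w`, so `w · z w z⁻¹ ∈ ker ψ = C_V(H₁) ≤ C(A)`. `z [a, w] z⁻¹ = [a, z w z⁻¹] = [a, w⁻¹ c] = [a, w]⁻¹` (`c ∈ C_V(H₁)`, `V` abelian, `w ↦ [a, w]` a homomorphism).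
An `x ∈ V` inverted by `z` with `ψ x = 0` is centralised by `z`, so `x² = 1`, `x = 1` (odd exponent); the elements inverted by `z` form a subgroup on which `ψ` is injective.
`ρ a = !![1, λ a; 0, 1]`, `ψ [a, w] = ![λ a * ψ w 1, 0]`: the field property is `λ_c y₁ = λ_a y`, `λ_c y₂ = λ_b y`, `λ_c ≠ 0` ⇒ `λ_b y₁ = λ_a y₂`.
Last: `m ∈ C_V(A)`, `x = m⁻¹ z m z⁻¹` is inverted by `z`, `ψ x = ![μ, 0]` (`memA`); take `a ≠ 1` and `w` with `ψ w = ![0, μ / λ a]` (`surj`). -/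
theorem ff0 {G : Type*} [Group G] [Finite G] {p : ℕ} [Fact p.Prime] {V H T M A : Subgroup G} (hV : IsElementaryAbelian p V)
    (hHV : H ≤ normalizer (V : Set G)) (hf : H ⊓ centralizer (V : Set G) = ⊥) (hT : SylIn p T H) (hTM : T ≤ M) (hMH : M < H)
    (se : ∀ Q ≤ M, IsPGroup p Q → Q ≠ ⊥ → H ⊓ normalizer (Q : Set G) ≤ M) (hA : A ≤ T) (hAe : IsElementaryAbelian p A) (h1 : A ≠ ⊥)
    (hc : Nat.card V ≤ Nat.card A * Nat.card (V ⊓ centralizer (A : Set G) : Subgroup G)) :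
    A = T ∧ TI p V A ∧ (p ≠ 2 →
      (∀ a ∈ A, ∀ b ∈ A, ∀ c ∈ A, c ≠ 1 → ∀ w ∈ V, ∀ w₁ ∈ V, ∀ w₂ ∈ V, ⁅c, w₁⁆ = ⁅a, w⁆ → ⁅c, w₂⁆ = ⁅b, w⁆ → ⁅b, w₁⁆ = ⁅a, w₂⁆) ∧
      ∃ z ∈ M, (∀ L : Subgroup G, (∀ g ∈ H, ∀ a ∈ A, g * a * g⁻¹ ∈ L) → z ∈ L) ∧
        (∀ w ∈ V, w * (z * w * z⁻¹) ∈ centralizer (A : Set G)) ∧ (∀ a ∈ A, ∀ w ∈ V, ⁅a, w⁆ * (z * ⁅a, w⁆ * z⁻¹) = 1) ∧
        ∀ m ∈ V, m ∈ centralizer (A : Set G) → ∃ a ∈ A, ∃ w ∈ V, m⁻¹ * (z * m * z⁻¹) = ⁅a, w⁆) := by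
  open CL.PComp CL.Push CL.Th CL.Dickson in
  obtain ⟨H₁, e₁⟩ : ∃ K, K = pElementClosure p H := ⟨_, rfl⟩
  have l1 : H₁ ≤ H := e₁ ▸ pElementClosure_le p H
  have l2 : T ≤ H₁ := e₁ ▸ le_pElementClosure_of_isPGroup hT.le hT.pgroup
  have T1 : T ≠ ⊥ := fun e => h1 (eq_bot_iff.2 (e ▸ hA))
  have hT₁ := hT.of_le l2 l1
  have hM₁ : M ⊓ H₁ < H₁ := lt_of_le_of_ne inf_le_right fun e => hMH.not_ge (by
    rw [← hT₁.frattini_sup l1 (e₁ ▸ le_normalizer_pElementClosure p H)]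
    exact sup_le (e ▸ inf_le_left) (se T hTM hT.pgroup T1))
  have hV₁ := l1.trans hHV
  have hf₁ : H₁ ⊓ centralizer (V : Set G) = ⊥ := eq_bot_iff.2 (hf ▸ inf_le_inf_right _ l1)
  have se₁ : ∀ Q ≤ M ⊓ H₁, IsPGroup p Q → Q ≠ ⊥ → H₁ ⊓ normalizer (Q : Set G) ≤ M ⊓ H₁ := fun Q hQ hp h =>
    le_inf ((inf_le_inf_right _ l1).trans (se Q (hQ.trans inf_le_left) hp h)) inf_le_left
  obtain ⟨A', hA', lA, -⟩ := exists_mo (V := V) (hA.trans l2) hAe h1 hc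
  have h := (spe_dm hV hV₁ hf₁ hT₁ (le_inf hTM l2) hM₁ se₁ hA').toDS
  obtain ⟨A₁, hA₁, B₁, hB₁, l₁, e⟩ := spe_line hV hV₁ hf₁ hT₁ (le_inf hTM l2) hM₁ se₁ (by rw [e₁, pElementClosure_idem]) hA'
  obtain ⟨g, hg, rfl⟩ := (e ▸ h.line_syl hA₁ hB₁ l₁).exists_conj hT₁
  have l := l₁.cj (hV₁ hg)
  have mT := h.cj _ hA₁ g hg
  have mB := h.cj _ hB₁ g hg
  have e' : g •ᶜ A₁ ⊔ g •ᶜ B₁ = H₁ := by rw [← cj_sup, e, cj_eq_of_mem hg]
  generalize g •ᶜ A₁ = T at *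
  generalize g •ᶜ B₁ = B at *
  have t := h.ti _ mT
  have t' := h.ti _ hA'
  obtain rfl : A = T := by
    obtain ⟨a, ha, a1⟩ := t'.exists_ne
    have k : Cv[V, A'] = Cv[V, T] := le_antisymm
      (fun v hv => ⟨hv.1, t.fix a (hA (lA ha)) a1 v hv.1 (commutatorElement_eq_one_iff_mul_comm.2 (hv.2 a ha).symm)⟩)
      (inf_le_inf_left _ (centralizer_le (lA.trans hA)))
    have k' := t'.card.trans t.card.symm
    rw [k] at k'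
    exact le_antisymm hA ((eq_of_le_of_card_ge (lA.trans hA) (Nat.eq_of_mul_eq_mul_right Nat.card_pos k').ge).ge.trans lA)
  refine ⟨rfl, t, fun hp => ?_⟩
  obtain ⟨n, F, _, _, -, -, hF⟩ := h.exists_field mT
  obtain ⟨ρ, ψ, N⟩ := h.exists_natL mT mB l F hF
  obtain ⟨z, hz⟩ := N.bij.2 (-1)
  have cV : ∀ x ∈ V, ∀ y ∈ V, x * y = y * x := fun x hx y hy => congrArg Subtype.val (hV.1.1.1 ⟨x, hx⟩ ⟨y, hy⟩)
  have zc : ∀ a ∈ A ⊔ B, a * z = z * a := fun a ha =>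
    congrArg Subtype.val (N.bij.1 (show ρ (⟨a, ha⟩ * z) = ρ (z * ⟨a, ha⟩) by simp [hz]))
  have zV : ∀ w ∈ V, z * w * (z : G)⁻¹ ∈ V := fun w hw => N.toNatD.conj_mem z hw
  have ψz : ∀ w ∈ V, ψ (z * w * (z : G)⁻¹) = -ψ w := fun w hw => by
    rw [N.act z w hw, hz]; ext i; fin_cases i <;> simp [CL.Quad.smul_fin_two]
  have k1 : ∀ w ∈ V, w * (z * w * (z : G)⁻¹) ∈ centralizer ((A ⊔ B : Subgroup G) : Set G) := fun w hw =>
    ((N.ker _ (mul_mem hw (zV w hw))).1 (by rw [N.add _ hw _ (zV w hw), ψz w hw, add_neg_cancel])).2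
  have bV : ∀ a ∈ A, ∀ w ∈ V, ⁅a, w⁆ ∈ V := fun a ha w hw => mul_mem (N.toNatD.conj_mem ⟨a, mem_sup_left ha⟩ hw) (inv_mem hw)
  have k2 : ∀ a ∈ A, ∀ w ∈ V, ⁅a, w⁆ * (z * ⁅a, w⁆ * (z : G)⁻¹) = 1 := fun a ha w hw => by
    have e1 : z * ⁅a, w⁆ * (z : G)⁻¹ = ⁅a, z * w * (z : G)⁻¹⁆ := by
      rw [← cj_comm_elt, ← zc a (mem_sup_left ha), mul_inv_cancel_right]
    have e2 := cV _ (bV a ha _ (zV w hw)) _ (inv_mem hw)
    rw [e1, ← commutatorElement_eq_one_iff_mul_comm.2 (k1 w hw a (mem_sup_left ha))]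
    generalize z * w * (z : G)⁻¹ = y at e2 ⊢
    rw [commutatorElement_def a w, mul_assoc, ← e2]
    simp only [commutatorElement_def]; group
  have inj : ∀ x ∈ V, ∀ y ∈ V, x * (z * x * (z : G)⁻¹) = 1 → y * (z * y * (z : G)⁻¹) = 1 → ψ x = ψ y → x = y :=
    fun x hx y hy e1 e2 e3 => by
      have d := (N.toNatD.eq_iff hx hy).1 e3
      have d1 : (x⁻¹ * y) ^ 2 = 1 := by
        have : z * (x⁻¹ * y) * (z : G)⁻¹ = x⁻¹ * y := by rw [d.2 z z.2, mul_inv_cancel_right]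
        rw [pow_two]
        nth_rewrite 2 [← this]
        rw [show z * (x⁻¹ * y) * (z : G)⁻¹ = (z * x * (z : G)⁻¹)⁻¹ * (z * y * (z : G)⁻¹) by group, eq_inv_of_mul_eq_one_right e1,
          eq_inv_of_mul_eq_one_right e2, inv_inv, cV x hx _ (inv_mem hy)]
        group
      have := Nat.dvd_gcd (orderOf_dvd_of_pow_eq_one d1) (orderOf_dvd_of_pow_eq_one (hV.2 _ d.1))
      rw [(Nat.coprime_primes Nat.prime_two Fact.out).2 hp.symm, Nat.dvd_one, orderOf_eq_one_iff] at this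
      exact inv_mul_eq_one.1 this
  have lam : ∀ a ∈ A, ∃ c : F, (a ≠ 1 → c ≠ 0) ∧ ∀ w ∈ V, ψ ⁅a, w⁆ = ![c * ψ w 1, 0] := fun a ha => by
    obtain ⟨c, hc⟩ := (h.natL_memA mT N (by rw [hF, Nat.card_eq_fintype_card]) ⟨a, mem_sup_left ha⟩).1 ha
    refine ⟨c, fun a1 c0 => a1 (congrArg Subtype.val (N.bij.1 (show ρ ⟨a, mem_sup_left ha⟩ = ρ 1 by rw [← hc, c0, u_zero, map_one]))),
      fun w hw => ?_⟩
    have := N.toNatD.comm ⟨a, mem_sup_left ha⟩ hw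
    rw [← commutatorElement_inv, N.toNatD.inv (by rw [← commutatorElement_inv]; exact inv_mem (bV a ha w hw)), this, ← hc]
    ext i; rw [Pi.neg_apply, Pi.sub_apply, CL.Quad.smul_fin_two]; fin_cases i <;> simp [u]
  have zH : (z : G) ∈ H := l1 (e' ▸ z.2)
  refine ⟨fun a ha b hb c hc c1 w hw w₁ h₁ w₂ h₂ e1 e2 => ?_, z, se A hTM hT.pgroup T1 ⟨zH, centralizer_le_normalizer _
    fun a ha => zc a (mem_sup_left ha)⟩, fun L hL => ?_, fun w hw a ha => k1 w hw a (mem_sup_left ha), k2, fun m hm hm' => ?_⟩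
  · obtain ⟨x, -, hx⟩ := lam a ha
    obtain ⟨y, -, hy⟩ := lam b hb
    obtain ⟨d, d0, hd⟩ := lam c hc
    have f1 := congrFun (congrArg ψ e1) 0
    have f2 := congrFun (congrArg ψ e2) 0
    rw [hd _ h₁, hx _ hw] at f1
    rw [hd _ h₂, hy _ hw] at f2
    refine inj _ (bV b hb _ h₁) _ (bV a ha _ h₂) (k2 b hb _ h₁) (k2 a ha _ h₂) ?_
    rw [hy _ h₁, hx _ h₂, show y * ψ w₁ 1 = x * ψ w₂ 1 from mul_left_cancel₀ (d0 c1) (by
      simp only [Matrix.cons_val_zero] at f1 f2; linear_combination y * f1 - x * f2)]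
  · obtain ⟨k, hk, ek⟩ := l.conj
    exact (show A ⊔ B ≤ L from sup_le (fun a ha => by simpa using hL 1 (one_mem _) a ha)
      (ek ▸ cj_le_iff_forall.2 (hL k (l1 (e' ▸ hk))))) z.2
  · obtain ⟨a, ha, a1⟩ := t.exists_ne
    obtain ⟨c, c0, hc⟩ := lam a ha
    obtain ⟨w, hw, ew⟩ := N.surj ![0, -2 * ψ m 0 / c]
    have z2 : (z : G) * z = 1 := congrArg Subtype.val (N.bij.1 (show ρ (z * z) = ρ 1 by simp [hz]))
    refine ⟨a, ha, w, hw, inj _ (mul_mem (inv_mem hm) (zV m hm)) _ (bV a ha w hw) ?_ (k2 a ha w hw) ?_⟩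
    · rw [show z * (m⁻¹ * (z * m * (z : G)⁻¹)) * (z : G)⁻¹ = (z * m * (z : G)⁻¹)⁻¹ * (z * z * m * ((z : G) * z)⁻¹) by group, z2]
      group
    · rw [N.add _ (inv_mem hm) _ (zV m hm), N.toNatD.inv hm, ψz m hm, hc w hw, ew]
      ext i; fin_cases i
      · have := c0 a1
        simp; field_simp; ring
      · simp [(N.memA m hm).1 hm']

end CL.D3
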