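/-
S5261: the context of an essential subgroup. General `p`-groups.
-/
import Cfsg.Agent.FUS.D3.Cx
import Cfsg.Agent.FUS.D3.FF0
import Cfsg.Agent.FUS.U5.Gen
import Cfsg.Agent.FUS.TransvSPE
import Cfsg.Agent.SOLV.CoprimeGen

set_option autoImplicit false
set_option linter.unusedSectionVars false
set_option linter.unusedVariables false

namespace CL.D3

open CL.Fus CL.RF4 Subgroup Cfsg Cfsg.FusionSystem
open scoped commutatorElement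

universe u

variable {Ω : Type*} [Group Ω] [Finite Ω] {p : ℕ} [Fact p.Prime] {S E G B C M : Subgroup Ω} {N H : Subgroup (MulAut E)}

/-- a group of automorphisms as a set of functions (`CxF.au_of N : Au E (fn N)`) -/
abbrev fn (N : Subgroup (MulAut E)) : Set (Ω → Ω) := {f | ∃ α ∈ N, f = autFun α}

namespace CF

/-- the elements of `N` acting trivially on the invariant sections `D₂ / D₁` with `R D₁ D₂` -/
def Tv (N : Subgroup (MulAut E)) (R : Subgroup Ω → Subgroup Ω → Prop) : Subgroup (MulAut E) where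
  carrier := {α | α ∈ N ∧ ∀ D₁ D₂, R D₁ D₂ → Ivs E (fn N) D₁ → Ivs E (fn N) D₂ → ∀ y ∈ E, y ∈ D₂ → y⁻¹ * autFun α y ∈ D₁}
  one_mem' := ⟨one_mem _, fun _ _ _ _ _ y hy _ => by simp [autFun_one hy]⟩
  mul_mem' {a b} ha hb := ⟨mul_mem ha.1 hb.1, fun D₁ D₂ r i1 i2 y hy k => by
    simpa [autFun_mul _ _ hy, mul_assoc] using mul_mem (hb.2 _ _ r i1 i2 y hy k)
      (ha.2 _ _ r i1 i2 _ (autFun_mem b hy) (i2 _ ⟨b, hb.1, rfl⟩ y hy k))⟩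
  inv_mem' {a} ha := ⟨inv_mem ha.1, fun D₁ D₂ r i1 i2 y hy k => by
    simpa [autFun_autFun_inv a hy] using inv_mem (ha.2 _ _ r i1 i2 _ (autFun_mem a⁻¹ hy) (i2 _ ⟨_, inv_mem ha.1, rfl⟩ y hy k))⟩

variable {R : Subgroup Ω → Subgroup Ω → Prop} {α γ : MulAut E}

theorem Tv_conj (hγ : γ ∈ N) (hα : α ∈ Tv N R) : γ * α * γ⁻¹ ∈ Tv N R :=
  ⟨mul_mem (mul_mem hγ hα.1) (inv_mem hγ), fun D₁ D₂ r i1 i2 y hy k => by
    have y1 := autFun_mem γ⁻¹ hy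
    have := i1 _ ⟨γ, hγ, rfl⟩ _ (mul_mem (inv_mem y1) (autFun_mem α y1)) (hα.2 _ _ r i1 i2 _ y1 (i2 _ ⟨_, inv_mem hγ, rfl⟩ y hy k))
    rwa [isHomOn_autFun γ (inv_mem y1) (autFun_mem α y1), (isHomOn_autFun γ).map_inv y1, autFun_autFun_inv γ hy,
      ← autFun_mul _ _ y1, ← autFun_mul _ _ hy] at this⟩

theorem cj_br {g y : Ω} {D : Subgroup Ω} : y * cj g y⁻¹ ∈ D ↔ ⁅g, y⁆ ∈ D := by
  rw [← inv_mem_iff]; simp [cj, commutatorElement_def, mul_assoc]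

theorem cj_Tv {g : Ω} (hg : g ∈ G) (hn : g ∈ normalizer (E : Set Ω)) (h : cjAut E g hn ∈ N) : cjAut E g hn ∈ Tv N (Sts E (fn N) G) :=
  ⟨h, fun _ _ r _ _ y hy k => by
    rw [autFun_cjAut hn hy, ← inv_inv y, inv_inv y⁻¹, cj_br]; exact r.2.2 g hg _ (inv_mem hy) (inv_mem k)⟩

theorem mem_K (h : Sec p S E (fn N) G B C M) :
    α ∈ Tv N (fun D₁ D₂ => D₁ = B ∧ D₂ = C) ↔ α ∈ N ∧ ∀ w ∈ C, w⁻¹ * autFun α w ∈ B :=
  and_congr_right fun _ => ⟨fun k w hw => k B C ⟨rfl, rfl⟩ h.ivB h.ivC w (h.le' hw) hw, by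
    rintro k _ _ ⟨rfl, rfl⟩ - - w - hw; exact k w hw⟩

/-- `W ⋊ Aut W`, `W = C / B` -/
theorem model {Ω : Type u} [Group Ω] [Finite Ω] {S E G B C M : Subgroup Ω} {N : Subgroup (MulAut E)} (h : Sec p S E (fn N) G B C M) :
    ∃ (Γ : Type u) (_ : Group Γ) (_ : Finite Γ) (ι : C →* Γ) (f : N →* Γ), (∀ w, ι w = 1 ↔ w.1 ∈ B) ∧
      (∀ α w (w' : C), w'.1 = autFun α.1 w.1 → f α * ι w * (f α)⁻¹ = ι w') ∧ ∀ α, (∀ w, f α * ι w * (f α)⁻¹ = ι w) → f α = 1 := by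
  have : (B.subgroupOf C).Normal := ⟨fun b hb y => by
    simpa [mem_subgroupOf, commutatorElement_def] using mul_mem (h.cen y (h.le' y.2) b b.2) hb⟩
  let r : N → C →* C := fun α => MonoidHom.mk' (fun w => ⟨autFun α.1 w, h.ivC _ ⟨_, α.2, rfl⟩ _ (h.le' w.2) w.2⟩)
    fun x y => Subtype.ext (isHomOn_autFun α.1 (h.le' x.2) (h.le' y.2))
  let q : N → C ⧸ B.subgroupOf C →* C ⧸ B.subgroupOf C := fun α =>
    QuotientGroup.map _ _ (r α) fun w hw => h.ivB _ ⟨_, α.2, rfl⟩ _ (h.le' w.2) hw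
  have q1 : q 1 = MonoidHom.id _ := QuotientGroup.monoidHom_ext _ (MonoidHom.ext fun w =>
    congrArg QuotientGroup.mk (Subtype.ext (autFun_one (h.le' w.2))))
  have q2 : ∀ α β, q (α * β) = (q α).comp (q β) := fun α β => QuotientGroup.monoidHom_ext _ (MonoidHom.ext fun w =>
    congrArg QuotientGroup.mk (Subtype.ext (autFun_mul _ _ (h.le' w.2))))
  let π : N →* MulAut (C ⧸ B.subgroupOf C) := MonoidHom.mk' (fun α => MonoidHom.toMulEquiv (q α) (q α⁻¹)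
    (by rw [← q2, inv_mul_cancel, q1]) (by rw [← q2, mul_inv_cancel, q1])) fun α β => MulEquiv.ext fun w => DFunLike.congr_fun (q2 α β) w
  have e : ∀ a w, SemidirectProduct.inr a * SemidirectProduct.inl w * (SemidirectProduct.inr a)⁻¹ =
      SemidirectProduct.inl (φ := MonoidHom.id (MulAut (C ⧸ B.subgroupOf C))) (a w) := fun a w => by
    rw [← map_inv, ← SemidirectProduct.inl_aut]; rfl
  have : Finite (MulAut (C ⧸ B.subgroupOf C)) := Finite.of_injective _ DFunLike.coe_injective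
  refine ⟨_ ⋊[MonoidHom.id _] MulAut (C ⧸ B.subgroupOf C), inferInstance, Finite.of_equiv _ SemidirectProduct.equivProd.symm,
    SemidirectProduct.inl.comp (QuotientGroup.mk' _), SemidirectProduct.inr.comp π, fun w => ?_, fun α w w' k => ?_, fun α k => ?_⟩
  · exact (map_eq_one_iff _ SemidirectProduct.inl_injective).trans (QuotientGroup.eq_one_iff _)
  · exact (e _ _).trans (congrArg _ (congrArg QuotientGroup.mk (Subtype.ext k.symm)))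
  · rw [MonoidHom.comp_apply, show π α = 1 from MulEquiv.ext fun w => by
      obtain ⟨w, rfl⟩ := QuotientGroup.mk_surjective w
      exact SemidirectProduct.inl_injective ((e _ _).symm.trans (k w)), map_one]

theorem se {X Γ : Type*} [Group X] [Finite X] [Group Γ] (f : X →* Γ) {T H : Subgroup X} (hT : SylIn p T ⊤) (hTH : T ≤ H)
    (spe : ∀ s ∈ T, f s ≠ 1 → ∀ g, g * s * g⁻¹ ∈ H → g ∈ H) (hK : f.ker ≤ H) (Q : Subgroup Γ) (h1 : Q ≤ H.map f) (h2 : IsPGroup p Q)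
    (h3 : Q ≠ ⊥) : f.range ⊓ normalizer (Q : Set Γ) ≤ H.map f := by
  rintro _ ⟨⟨x, rfl⟩, hx⟩
  have hQ : Q.comap f ≤ H := (comap_mono h1).trans (comap_map_eq_self hK).le
  obtain ⟨R, hR, -⟩ := exists_sylIn_ge (bot_le (a := Q.comap f)) (IsPGroup.of_bot (p := p))
  have := hR.map f
  rw [map_comap_eq_self (h1.trans (map_le_range f H))] at this
  obtain ⟨⟨_, k⟩, n⟩ := ne_bot_iff_exists_ne_one.1 (this.eq_of_le le_rfl h2 this.le ▸ h3)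
  obtain ⟨r, hr, rfl⟩ := k
  obtain ⟨b, hb, e⟩ := (hT.of_le hTH le_top).exists_conj_le (hR.le.trans hQ) hR.isPGroup
  refine mem_map_of_mem f ((H.mul_mem_cancel_right (inv_mem hb)).1 (spe _ (e r hr) (fun k => n (Subtype.ext (by simpa using k))) _
    (hQ ?_)))
  simpa [mem_comap, mul_assoc] using (mem_normalizer_iff.1 hx _).1 (hR.le hr)

theorem FF.mono {A H H' : Set (Ω → Ω)} (h : FF p S E A H G B C M) (k : H ⊆ H') : FF p S E A H' G B C M :=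
  ⟨h.eq, h.e2, h.e3, h.e4, fun hp => let ⟨z, h1, h2⟩ := h.e5 hp; ⟨z, k h1, h2⟩⟩

end CF
open CF

/-- The core. `hK`, `hK'`: the kernel `K` of the action of `N` on `W = C / B` lies in `H` and meets `T = Aut_S(E)` in `Inn E`.
Proof. `B' = B.subgroupOf C` is normal in `C` (`cen`), `W = C ⧸ B'`, `π : N →* MulAut W` (restrict `autFun α` to `C`, `ivC`, `ivB`; `QuotientGroup.map`/`congr`), `Γ = W ⋊[MonoidHom.id _] MulAut W`,
`V = inl.range`, `f = inr.comp π`, `H₀ = f.range`, `T₀ = f(T)`, `M₀ = f(H)`, `A₀ = f({c_g | g ∈ G})`; `inr α * inl w * (inr α)⁻¹ = inl (α w)` (`SemidirectProduct.inl_aut`). `ker f = K ⊇ Inn E`.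
Hypotheses of `ff0`: `T₀` is Sylow in `H₀` (image of a Sylow subgroup; `CL.Fus.SylIn.not_dvd_relIndex`, `relIndex` of images divides); `M₀ < H₀` as `K ≤ H < N`;
`se`: `Q₀ ≤ M₀` a nontrivial `p`-group normalised by `f x`; `Q = f⁻¹(Q₀) ≤ H`, `x` normalises `Q`; `R` Sylow in `Q`; some `h ∈ H` has `h R h⁻¹ ≤ T` (`T` Sylow in `H`), and `x R x⁻¹ = k R k⁻¹`, `k ∈ Q`; take `r ∈ R ∖ K`
(exists: else `|Q₀| = |Q : K|` is prime to `p`): `s = h r h⁻¹ ∈ T ∖ Inn`, `(x h⁻¹) s (x h⁻¹)⁻¹ = x r x⁻¹ ∈ Q ≤ H`, so `x h⁻¹ ∈ H` by `RelSPE.mem_of_conj_mem'` (FUS/TransvSPE; no Frattini needed).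
`|A₀| = |G : G ⊓ E|` (`c_g ∈ K ↔ c_g ∈ Inn ↔ g ∈ E`, `cjAut_mem_inn_iff`), `|V| = |C : B|`, `|C_V(A₀)| = |M ⊓ C : B|`.
Translate back: `⁅f c_g, inl w̄⁆ = inl ⁅g, w⁆‾`. `e3`: `f c_g ∈ T₀ = A₀`, so `c_{a⁻¹ g} ∈ K ⊓ T`. `e5`: let `Y ≤ N` be the subgroup of all `α ∈ N` acting trivially on every invariant section `D₂ / D₁` with
`Sts E (fn N) G D₁ D₂` (normal in `N`, contains the `c_g`: `y⁻¹ g y g⁻¹ = ⁅g, y⁻¹⁆⁻¹`...); `z ∈ L = f(Y)`, `z = f h`, `h ∈ Y`, and `h ∈ H` since `z ∈ M₀`, `K ≤ H`. -/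
theorem ff_core (hS : IsPGroup p S) (hE : E ≤ S) (hc : centralizerIn S E ≤ E) (hT : SylIn p (autInducedBy S E) N)
    (hH : RelSPE (Inn E) (autInducedBy S E) N H) (h : Sec p S E (fn N) G B C M)
    (hK : ∀ α ∈ N, (∀ w ∈ C, w⁻¹ * autFun α w ∈ B) → α ∈ H)
    (hK' : ∀ α ∈ autInducedBy S E, (∀ w ∈ C, w⁻¹ * autFun α w ∈ B) → α ∈ Inn E) : FF p S E (fn N) (fn H) G B C M := by
  obtain ⟨Γ, _, _, ι, f, r1, r2, r3⟩ := model h
  have : Finite (MulAut E) := Finite.of_injective _ DFunLike.coe_injective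
  have iC : ∀ α : N, ∀ w ∈ C, autFun α.1 w ∈ C := fun α w hw => h.ivC _ ⟨_, α.2, rfl⟩ w (h.le' hw) hw
  have r1' : ∀ w w', ι w = ι w' ↔ w.1⁻¹ * w'.1 ∈ B := fun w w' => by rw [← inv_mul_eq_one, ← map_inv, ← map_mul, r1]; rfl
  have kf : ∀ α, f α = 1 ↔ ∀ w ∈ C, w⁻¹ * autFun α.1 w ∈ B := fun α => ⟨fun e w hw => (r1' ⟨w, hw⟩ ⟨_, iC α w hw⟩).1 (by
    rw [← r2 α ⟨w, hw⟩ ⟨_, iC α w hw⟩ rfl, e]; simp), fun e => r3 α fun w => (r2 α w ⟨_, iC α w w.2⟩ rfl).trans ((r1' _ _).2 (e w w.2)).symm⟩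
  have kH : f.ker ≤ H.subgroupOf N := fun α hα => hK _ α.2 ((kf α).1 hα)
  obtain ⟨φ, kφ, cφ, tφ⟩ : ∃ φ : normalizerIn S E →* N, (∀ g, f (φ g) = 1 ↔ g.1 ∈ E) ∧ (∀ g, (φ g).1 = cjAut E g.1 g.2.2) ∧
      φ.range = (autInducedBy S E).subgroupOf N := ⟨MonoidHom.mk' (fun g => ⟨cjAut E g.1 g.2.2, hT.le (cjAut_mem_autInducedBy g.2.1 _)⟩)
    fun a b => Subtype.ext (cjAut_mul a.2.2 b.2.2), fun g => (kf _).trans ⟨fun e => (cjAut_mem_inn_iff hE hc g.2.1 g.2.2).1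
      (hK' _ (cjAut_mem_autInducedBy g.2.1 _) e), fun e w hw => by
        change _ * autFun (cjAut E g.1 g.2.2) w ∈ B
        rw [autFun_cjAut _ (h.le' hw), ← inv_inv w, inv_inv w⁻¹, cj_br]; exact h.cen _ e _ (inv_mem hw)⟩, fun _ => rfl,
    le_antisymm (by rintro _ ⟨g, rfl⟩; exact cjAut_mem_autInducedBy g.2.1 g.2.2) fun α hα => by
      obtain ⟨g, h1, h2, e⟩ := mem_autInducedBy_iff_cjAut.1 hα
      exact ⟨⟨g, h1, h2⟩, Subtype.ext e⟩⟩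
  have GD : G ≤ normalizerIn S E := fun g hg => ⟨h.GP hg, mem_normalizer_of_comm (h.Gn g hg)⟩
  obtain ⟨a, ha⟩ : ∃ a : G →* Γ, ∀ g, a g = f (φ ⟨g, GD g.2⟩) := ⟨f.comp (φ.comp (inclusion GD)), fun _ => rfl⟩
  have ka : ∀ g, a g = 1 ↔ g.1 ∈ E := fun g => by rw [ha, kφ]
  have bC : ∀ g ∈ G, ∀ w ∈ C, ⁅g, w⁆ ∈ C := fun g hg w hw => by
    have := iC (φ ⟨g, GD hg⟩) w hw
    rw [cφ, autFun_cjAut _ (h.le' hw)] at this
    exact mul_mem this (inv_mem hw)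
  have ca : ∀ g w, ⁅a g, ι w⁆ = ι ⟨⁅g.1, w.1⁆, bC _ g.2 _ w.2⟩ := fun g w => by
    rw [commutatorElement_def, ha, r2 _ w ⟨_, iC _ w w.2⟩ rfl, ← map_inv, ← map_mul]
    exact congrArg ι (Subtype.ext (by simp [cφ, autFun_cjAut _ (h.le' w.2), cj, commutatorElement_def]))
  have cM : ∀ w, ι w ∈ centralizer (a.range : Set Γ) ↔ w.1 ∈ M := fun w => by
    rw [h.hM _ w.2, mem_centralizer_iff]
    exact ⟨fun k g hg => (r1 ⟨_, bC g hg _ w.2⟩).1 ((ca ⟨g, hg⟩ w).symm.trans (commutatorElement_eq_one_iff_mul_comm.2 (k _ ⟨_, rfl⟩))),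
      by rintro k _ ⟨g, rfl⟩; exact commutatorElement_eq_one_iff_mul_comm.1 ((ca g w).trans ((r1 _).2 (k _ g.2)))⟩
  have n1 : Nat.card a.range = E.relIndex G := by
    rw [← index_ker, show a.ker = E.subgroupOf G from Subgroup.ext ka]; rfl
  have n2 : Nat.card (ι.range ⊓ centralizer (a.range : Set Γ) : Subgroup Γ) * M.relIndex C = Nat.card ι.range := by
    rw [← CxF.card_rel (inf_le_left (a := ι.range) (b := centralizer (a.range : Set Γ))), inf_relIndex_left, ← index_comap,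
      show comap ι (centralizer (a.range : Set Γ)) = M.subgroupOf C from Subgroup.ext cM]; rfl
  obtain ⟨-, R, hR⟩ := sylIn_iff_exists_sylow.1 hT
  have hT' : SylIn p ((autInducedBy S E).subgroupOf N) ⊤ := hR ▸ sylIn_top R
  have tH : (autInducedBy S E).subgroupOf N ≤ H.subgroupOf N := fun _ k => hH.le hT.le k
  obtain ⟨e1, e2, e3⟩ := ff0 (p := p) (V := ι.range) (H := f.range) (T := ((autInducedBy S E).subgroupOf N).map f)
    (M := (H.subgroupOf N).map f) (A := a.range) ⟨⟨⟨by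
      rintro ⟨_, x, rfl⟩ ⟨_, y, rfl⟩
      exact Subtype.ext (commutatorElement_eq_one_iff_mul_comm.1 ((map_commutatorElement ι x y).symm.trans
        ((r1 _).2 (h.cen _ (h.le' x.2) _ y.2))))⟩⟩, by rintro _ ⟨x, rfl⟩; rw [← map_pow]; exact (r1 _).2 (h.exp _ x.2)⟩
    (le_normalizer_iff.2 (by rintro _ ⟨α, rfl⟩ _ ⟨w, rfl⟩; exact ⟨_, (r2 α w ⟨_, iC α w w.2⟩ rfl).symm⟩))
    (eq_bot_iff.2 (by rintro _ ⟨⟨α, rfl⟩, k⟩; exact r3 α fun w => by rw [← k _ ⟨w, rfl⟩, mul_inv_cancel_right]))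
    ⟨map_le_range _ _, (hT'.map f).isPGroup, fun Q k1 k2 k3 => (hT'.map f).eq_of_le (f.range_eq_map ▸ k3) k1 k2⟩ (map_mono tH) (lt_of_le_not_ge (map_le_range _ _) fun k => hH.2.1.not_ge fun x hx =>
      (comap_map_eq_self kH).le (k ⟨⟨x, hx⟩, rfl⟩))
    (se f hT' tH (fun s hs k g e => hH.mem_of_conj_mem' hT le_normalizer_of_normal hs (fun k' => k (by
      obtain ⟨g, rfl⟩ := tφ.ge hs
      exact (kφ g).2 ((cjAut_mem_inn_iff hE hc g.2.1 g.2.2).1 (cφ g ▸ k')))) g.2 e) kH)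
    (by rintro _ ⟨g, rfl⟩; exact ⟨_, tφ.le ⟨_, rfl⟩, (ha g).symm⟩) ⟨⟨⟨by
      rintro ⟨_, x, rfl⟩ ⟨_, y, rfl⟩
      exact Subtype.ext (commutatorElement_eq_one_iff_mul_comm.1 ((map_commutatorElement a x y).symm.trans
        ((ka _).2 (h.Gc _ x.2 _ y.2))))⟩⟩, by rintro _ ⟨x, rfl⟩; rw [← map_pow]; exact (ka _).2 (h.Gp _ x.2)⟩
    (fun e => h.ne fun g hg => (ka ⟨g, hg⟩).1 (e.le ⟨_, rfl⟩)) (by rw [← n2, n1, mul_comm]; exact Nat.mul_le_mul_right _ h.idx)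
  have eqv : ∀ g w g' w', ⁅a g, ι w⁆ = ⁅a g', ι w'⁆ ↔ ⁅g.1, w.1⁆⁻¹ * ⁅g'.1, w'.1⁆ ∈ B := fun g w g' w' => by rw [ca, ca, r1']
  refine ⟨?_, fun g hg n w hw k => (cM ⟨w, hw⟩).1 (e2.fix _ ⟨⟨g, hg⟩, rfl⟩ (mt (ka _).1 n) _ ⟨_, rfl⟩ (by
    rw [← commutatorElement_inv, ca, (r1 _).2 k, inv_one])), fun g hg k => ?_, fun hp x hx y hy z hz n w hw w₁ h1 w₂ h2 k1 k2 =>
    (eqv ⟨y, hy⟩ ⟨w₁, h1⟩ ⟨x, hx⟩ ⟨w₂, h2⟩).1 ((e3 hp).1 _ ⟨_, rfl⟩ _ ⟨_, rfl⟩ _ ⟨⟨z, hz⟩, rfl⟩ (mt (ka _).1 n) _ ⟨⟨w, hw⟩, rfl⟩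
      _ ⟨_, rfl⟩ _ ⟨_, rfl⟩ ((eqv _ _ _ _).2 k1) ((eqv _ _ _ _).2 k2)), fun hp => ?_⟩
  · exact Nat.eq_of_mul_eq_mul_left Nat.card_pos (n2.trans (e2.card.symm.trans (by rw [n1, mul_comm])))
  · obtain ⟨x, e⟩ := e1.ge ⟨φ ⟨g, hg, mem_normalizer_of_comm k⟩, tφ.le ⟨_, rfl⟩, rfl⟩
    exact ⟨x, x.2, (kφ ((⟨x, GD x.2⟩ : normalizerIn S E)⁻¹ * ⟨g, hg, mem_normalizer_of_comm k⟩)).1 (by
      rw [map_mul, map_mul, map_inv, map_inv, ← ha, e, inv_mul_cancel])⟩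
  obtain ⟨z, hz, z1, z2, z3, z4⟩ := (e3 hp).2
  obtain ⟨y, hy, rfl⟩ := z1 (((Tv N (Sts E (fn N) G)).subgroupOf N).map f) (by
    rintro _ ⟨γ, rfl⟩ _ ⟨g, rfl⟩
    exact ⟨γ * φ ⟨g, GD g.2⟩ * γ⁻¹, Tv_conj γ.2 (cφ _ ▸ cj_Tv g.2 _ (hT.le (cjAut_mem_autInducedBy (h.GP g.2) _))), by simp [ha]⟩)
  refine ⟨_, ⟨y.1, (comap_map_eq_self kH).le hz, rfl⟩, ⟨y.1, y.2, rfl⟩, fun w hw => (cM (⟨w, hw⟩ * ⟨_, iC y w hw⟩)).1 ?_,
    fun g hg w hw => (r1 (⟨_, bC g hg w hw⟩ * ⟨_, iC y _ (bC g hg w hw)⟩)).1 ?_, fun D h1 h2 m hm hm' => ?_,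
    fun D₁ D₂ k => hy.2 D₁ D₂ k k.1 k.2.1⟩
  · rw [map_mul, ← r2 y ⟨w, hw⟩ ⟨_, iC y w hw⟩ rfl]; exact z2 _ ⟨_, rfl⟩
  · rw [map_mul, ← r2 y ⟨_, bC g hg w hw⟩ ⟨_, iC y _ (bC g hg w hw)⟩ rfl, ← ca ⟨g, hg⟩ ⟨w, hw⟩]; exact z3 _ ⟨_, rfl⟩ _ ⟨_, rfl⟩
  · obtain ⟨_, ⟨g, rfl⟩, _, ⟨w, rfl⟩, e⟩ := z4 _ ⟨⟨m, hm⟩, rfl⟩ ((cM _).2 hm')
    rw [r2 y ⟨m, hm⟩ ⟨_, iC y m hm⟩ rfl, ← map_inv, ← map_mul, ca, eq_comm, r1'] at e
    exact (D.mul_mem_cancel_left (inv_mem (h2 g g.2 w w.2))).1 (h1 e)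

/-- Version 1. `K` the kernel on `W` (normal in `N`), `Y` as in `ff_core`. `K ⊓ Y` acts trivially on all factors of the chain `⊥ ⋯ B ≤ C ⋯ ⊤`, so lies in `O_p(N) = Inn E`
(`mem_pCore_of_chain` with the first alternative of `StabStep`, `RelSPE.map_pCore_eq`). Hence `[K, Y] ≤ K ⊓ Y ≤ Inn E`. For `κ ∈ K`, `g ∈ G ∖ E`: `κ c_g κ⁻¹ ∈ Inn · c_g ≤ T`, so `κ ∈ H` (`RelSPE.mem_of_conj_mem`).
If `α ∈ K ⊓ T ∖ Inn` then likewise `Y ≤ H`; for `x ∈ N`, `x c_g x⁻¹ ∈ Y ≤ H` gives `x ∈ H` (`mem_of_conj_mem'`), against `H < N`. -/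
theorem ff_one (hS : IsPGroup p S) (hE : E ≤ S) (hc : centralizerIn S E ≤ E) (hT : SylIn p (autInducedBy S E) N)
    (hH : RelSPE (Inn E) (autInducedBy S E) N H) (h : Sec p S E (fn N) G B C M) (h1 : Chs E (fn N) G ⊥ B) (h2 : Chs E (fn N) G C ⊤) :
    FF p S E (fn N) (fn H) G B C M := by
  have : Finite (MulAut E) := Finite.of_injective _ DFunLike.coe_injective
  have hI : N ≤ normalizer (Inn E : Set (MulAut E)) := le_normalizer_of_normal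
  have iv : ∀ {D}, Ivs E (fn N) D → AutInv N D := fun k α hα => k _ ⟨α, hα, rfl⟩
  have k : ∀ κ ∈ Tv N (fun D₁ D₂ => D₁ = B ∧ D₂ = C), ∀ y ∈ Tv N (Sts E (fn N) G), κ * y * κ⁻¹ * y⁻¹ ∈ Inn E := fun κ hκ y hy => by
    have k1 := mul_mem (Tv_conj hκ.1 hy) (inv_mem hy)
    have k2 := mul_mem hκ (Tv_conj hy.1 (inv_mem hκ))
    simp only [← mul_assoc] at k2
    have st := fun {D D'} (r : Chs E (fn N) G D D') => Relation.ReflTransGen.mono (p := StabStep p N (κ * y * κ⁻¹ * y⁻¹))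
      (fun _ _ r => .inl ⟨iv r.1, iv r.2.1, k1.2 _ _ r r.1 r.2.1⟩) _ _ r
    exact hH.map_pCore_eq hT hI ▸ mem_pCore_of_chain (hS.to_le hE) k1.1 le_top
      (((st h1).tail (.inl ⟨iv h.ivB, iv h.ivC, k2.2 B C ⟨rfl, rfl⟩ h.ivB h.ivC⟩)).trans (st h2))
  obtain ⟨g, hg, n⟩ := SetLike.not_le_iff_exists.1 h.ne
  have hn := mem_normalizer_of_comm (h.Gn g hg)
  have c1 := cjAut_mem_autInducedBy (h.GP hg) hn
  have c2 := mt (cjAut_mem_inn_iff hE hc (h.GP hg) hn).1 n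
  have c3 := cj_Tv hg hn (hT.le c1)
  refine ff_core hS hE hc hT hH h (fun α hα e => hH.mem_of_conj_mem hT hI hα c1 c2 ?_) fun α hα e => by_contra fun n' => ?_
  · simpa [cj] using mul_mem (hH.1.le (k α ((mem_K h).2 ⟨hα, e⟩) _ c3)) c1
  refine hH.2.1.not_ge fun x hx => hH.mem_of_conj_mem' hT hI c1 c2 hx (hH.mem_of_conj_mem hT hI (Tv_conj hx c3).1 hα n' ?_)
  have := mul_mem (inv_mem (hH.1.le (k α ((mem_K h).2 ⟨hT.le hα, e⟩) _ (Tv_conj hx c3)))) hα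
  generalize x * _ * x⁻¹ = y at this
  simpa [cj, mul_assoc] using this

/-- Version 2. `hK'` is `h1`. In `N̄ = N / Inn` the image `K̄` of the kernel is a normal `p'`-subgroup (`K ⊓ T = Inn` is Sylow in the normal subgroup `K`), the image `Ā` of `{c_g | g ∈ G}` is
elementary abelian of order `|G : G ⊓ E| > p`, so not cyclic; `CL.coprime_iSup_centralizer_noncyclic` (or `coprime_le_of_forall_centralizer_le`): `K̄` is generated by the `C_K̄(ā)`, `ā ≠ 1`, and these lie in `H̄` (`mem_of_conj_mem`). -/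
theorem ff_two (hS : IsPGroup p S) (hE : E ≤ S) (hc : centralizerIn S E ≤ E) (hT : SylIn p (autInducedBy S E) N)
    (hH : RelSPE (Inn E) (autInducedBy S E) N H) (h : Sec p S E (fn N) G B C M)
    (h1 : ∀ g ∈ S, (∀ y ∈ E, ⁅g, y⁆ ∈ E) → (∀ w ∈ C, ⁅g, w⁆ ∈ B) → g ∈ E) (h2 : p < E.relIndex G) :
    FF p S E (fn N) (fn H) G B C M := by
  have : Finite (MulAut E) := Finite.of_injective _ DFunLike.coe_injective
  have hI : N ≤ normalizer (Inn E : Set (MulAut E)) := le_normalizer_of_normal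
  have k : ∀ α ∈ autInducedBy S E, (∀ w ∈ C, w⁻¹ * autFun α w ∈ B) → α ∈ Inn E := fun α hα e => by
    obtain ⟨g, hg, hn, rfl⟩ := mem_autInducedBy_iff_cjAut.1 hα
    refine (cjAut_mem_inn_iff hE hc hg hn).2 (h1 g hg (fun y hy => mul_mem ((mem_normalizer_iff.1 hn y).1 hy) (inv_mem hy)) fun w hw => ?_)
    have := e _ (inv_mem hw)
    rwa [autFun_cjAut hn (inv_mem (h.le' hw)), inv_inv, cj_br] at this
  refine ff_core hS hE hc hT hH h (fun α hα e => ?_) k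
  set K := Tv N fun D₁ D₂ => D₁ = B ∧ D₂ = C
  have hn := fun g : G => mem_normalizer_of_comm (h.Gn g g.2)
  have c1 := fun g : G => cjAut_mem_autInducedBy (h.GP g.2) (hn g)
  obtain ⟨a, ha⟩ : ∃ a : G →* MulAut E ⧸ Inn E, ∀ g, a g = QuotientGroup.mk' _ (cjAut E g (hn g)) :=
    ⟨(QuotientGroup.mk' _).comp (MonoidHom.mk' _ fun x y => cjAut_mul (hn x) (hn y)), fun _ => rfl⟩
  have ka : ∀ g, a g = 1 ↔ g.1 ∈ E := fun g => by
    rw [ha, QuotientGroup.mk'_apply, QuotientGroup.eq_one_iff, cjAut_mem_inn_iff hE hc (h.GP g.2)]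
  have ex : ∀ x : a.range, x ^ p = 1 := by rintro ⟨_, x, rfl⟩; exact Subtype.ext ((map_pow a x p).symm.trans ((ka _).2 (h.Gp _ x.2)))
  have : IsMulCommutative a.range := ⟨⟨by
    rintro ⟨_, x, rfl⟩ ⟨_, y, rfl⟩
    exact Subtype.ext (commutatorElement_eq_one_iff_mul_comm.1 ((map_commutatorElement a x y).symm.trans
      ((ka _).2 (h.Gc _ x.2 _ y.2))))⟩⟩
  have s := ((hT.inf_normal (C := K) (fun _ k => k.1) (le_normalizer_iff.2 fun _ h1 _ => Tv_conj h1)).map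
    (QuotientGroup.mk' (Inn E))).not_dvd_relIndex
  rw [(map_eq_bot_iff (f := QuotientGroup.mk' (Inn E)) (autInducedBy S E ⊓ K)).2 fun β hβ =>
    (QuotientGroup.eq_one_iff β).2 (k β hβ.1 ((mem_K h).1 hβ.2).2), relIndex_bot_left] at s
  obtain ⟨n, hn'⟩ := IsPGroup.iff_card.1 (show IsPGroup p a.range from fun x => ⟨1, by rw [pow_one, ex]⟩)
  refine (comap_map_eq_self (f := QuotientGroup.mk' (Inn E)) ((QuotientGroup.ker_mk' _).le.trans (hH.1.le.trans (hH.le hT.le)))).le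
    (coprime_le_of_forall_centralizer_le a.range (K.map (QuotientGroup.mk' (Inn E))) (H.map (QuotientGroup.mk' (Inn E))) (fun hcy => h2.not_ge ?_)
      (le_normalizer_iff.2 ?_) (hn' ▸ ((Nat.Prime.coprime_iff_not_dvd Fact.out).2 s).pow_left n) ?_ ⟨α, (mem_K h).2 ⟨hα, e⟩, rfl⟩)
  · rw [show E.relIndex G = Nat.card a.range by rw [← index_ker, show a.ker = E.subgroupOf G from Subgroup.ext ka]; rfl,
      ← IsCyclic.exponent_eq_card]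
    exact Nat.le_of_dvd (Fact.out : p.Prime).pos (Monoid.exponent_dvd_of_forall_pow_eq_one ex)
  · rintro _ ⟨g, rfl⟩ _ ⟨κ, hκ, rfl⟩
    exact ⟨_, Tv_conj (hT.le (c1 g)) hκ, by simp [ha]⟩
  rintro _ ⟨g, rfl⟩ n _ ⟨⟨κ, hκ, rfl⟩, e⟩
  refine mem_map_of_mem _ (hH.mem_of_conj_mem hT hI hκ.1 (c1 g) (fun k => n ((ha g).trans ((QuotientGroup.eq_one_iff _).2 k))) ?_)
  have : κ * cjAut E g (hn g) * κ⁻¹ * (cjAut E g (hn g))⁻¹ ∈ Inn E := (QuotientGroup.eq_one_iff _).1 (by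
    rw [← QuotientGroup.mk'_apply, map_mul, map_mul, map_mul, map_inv, map_inv, ← ha, mem_centralizer_singleton_iff.1 e]; simp)
  simpa [cj] using mul_mem (hH.1.le this) (c1 g)

/-- as `CL.RF4.Ch.stabStep` -/
theorem stabStep {g : Ω} (hn : g ∈ normalizer (E : Set Ω)) (h : Ch E (fn N) g B C) :
    Relation.ReflTransGen (StabStep p N (cjAut E g hn)) B C := CL.U5.stabStep p hn h

variable {F : FusionSystem S}

/-- Proof. `RelSPE Inn T N (extAut ⊓ N)` from `relSPE_extAut_of_essential`; `SylIn.of_le`; `f1`: `mem_pCore_of_chain`, `RelSPE.map_pCore_eq`, `cjAut_mem_inn_iff`; in `e5` enlarge `fn (extAut ⊓ N)` to `fn extAut`. -/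
theorem cx_of (hS : IsPGroup p S) (hF : F.IsSaturated p) (hE : F.IsEssential p E) (h1 : autInducedBy S E ≤ N) (h2 : N ≤ F.autGroup E)
    (h3 : ¬ N ≤ extAut F E) : Cx p S E (fn N) (fn (extAut F E)) := by
  have hES : E ≤ S := hE.1.1
  have hc := centralizerIn_le_of_isCentric hE.1
  have h0 := relSPE_extAut_of_essential hS hF hE
  have hH : RelSPE (Inn E) (autInducedBy S E) N (extAut F E ⊓ N) :=
    ⟨h0.1, inf_lt_right.2 h3, fun X k1 k2 α hα => ⟨h0.2.2 X k1 k2 ⟨h2 hα.1, hα.2⟩, hα.1⟩⟩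
  have hT := (sylIn_of_fullyNormalized hS hF hE.2.1).of_le h1 h2
  have m : fn (extAut F E ⊓ N) ⊆ fn (extAut F E) := fun _ ⟨α, hα, e⟩ => ⟨α, hα.1, e⟩
  exact ⟨CxF.au_of N, hES, fun g hg hn k => (cjAut_mem_inn_iff hES hc hg hn).1 (hH.map_pCore_eq hT le_normalizer_of_normal ▸
    mem_pCore_of_chain (hS.to_le hES) (h1 (cjAut_mem_autInducedBy hg hn)) le_top (stabStep hn k)),
    fun G B C M k k1 k2 => FF.mono (ff_one hS hES hc hT hH k k1 k2) m, fun G B C M k k1 k2 => FF.mono (ff_two hS hES hc hT hH k k1 k2) m⟩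

theorem cx_of_essential (hS : IsPGroup p S) (hF : F.IsSaturated p) (hE : F.IsEssential p E) :
    Cx p S E (fn (F.autGroup E)) (fn (extAut F E)) :=
  cx_of hS hF hE (sylIn_of_fullyNormalized hS hF hE.2.1).le le_rfl (extAut_lt_of_essential hS hF hE).not_ge

/-- copy `CL.RF4.ext_of_chain` with `p` for `2` -/
theorem ext_of_chain {P : Subgroup Ω} (hS : IsPGroup p S) (hF : F.IsSaturated p) (hP : F.IsCentric P) (hn : S ≤ normalizer (P : Set Ω))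
    {X : Subgroup Ω} (hX : S ≤ normalizer (X : Set Ω))
    (h : ∀ A, Au P A → Iv P A X → ∀ s ∈ S, Ch P A s ⊥ ⊤) {f : Ω → Ω} (hf : Mor F P f) (h1 : ∀ x ∈ P, f x ∈ P)
    (h2 : ∀ x ∈ P, x ∈ X → f x ∈ X) : ∃ g, Mor F S g ∧ Set.EqOn g f P := CL.U5.ext_of_chain hS hF hP hn hX h hf h1 h2

/-- copy `CL.RF4.exists_norm` (FUS/RF4/BigA) -/
theorem exists_norm (hΩ : IsPGroup p Ω) {D : Subgroup (MulAut Ω)} (hD : (Nat.card D).Coprime p) {P : Subgroup Ω}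
    (hP : ∀ α ∈ D, ∀ g ∈ P, α g ∈ P) {w w' : Ω → Ω} (h : IsoOn P P w w')
    (hs : ∀ α ∈ D, ∃ u ∈ P, ∃ β ∈ D, ∀ g ∈ P, w (α g) = cj u (β (w g))) :
    ∃ u ∈ P, ∀ α ∈ D, ∃ β ∈ D, ∀ g ∈ P, cj u (w (α g)) = β (cj u (w g)) := by
  have : Finite (MulAut Ω) := Finite.of_injective _ DFunLike.coe_injective
  obtain ⟨u, hu, e⟩ := CL.U5.exists_norm D.subtype ⊤ (by rw [card_top]; exact (Nat.Prime.coprime_iff_not_dvd Fact.out).1 hD.symm)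
    (hΩ.to_subgroup P) (fun x => hP x x.2) h fun x _ => let ⟨u, hu, β, hβ, e⟩ := hs x x.2; ⟨u, hu, ⟨β, hβ⟩, trivial, e⟩
  exact ⟨u, hu, fun α hα => let ⟨β, _, k⟩ := e ⟨α, hα⟩ trivial; ⟨β, β.2, k⟩⟩

end CL.D3
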