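/-
S5261: essential subgroups inside a special group `R` with `R / V₀` a symplectic space.
-/
import Cfsg.Agent.FUS.D3.Cx

set_option autoImplicit false

namespace CL.D3

open CL.Fus CL.RF4 Subgroup
open scoped commutatorElement

/-- Proof. `V₀` is central in `R` (`br`, `πk`), `V₀ ≤ O := Omp p E` (`pw`, `κ 0 = 0` from `κs` with `c = 0`). A `g ∈ R` centralising `O` lies in `E` (`Cx.mem2` with `B = O`, `D = Z₀`). So `g ∈ R` is in `E` iff
`π g ∈ Ē := (span π(O))^⊥`, a subspace. If `Z₀` is invariant then every `g ∈ R` stabilises `1 < Z₀ < E`, so `R ≤ E`. If `b x y ≠ 0` for some `x, y ∈ Ē` then `Z₀ ∩ E` is the set of commutators of elements of `E` (scale `x`):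
invariant (`Au.iv_brk`, `Iv.congr`). If `κ x ≠ 0` for some `x ∈ Ē` then `Z₀` is the set of `p`-th powers (`iv_pows`; `c ↦ c ^ p` is onto). Otherwise `E` is elementary abelian, `O = E`, `Ē = Ē^⊥`, so
`2 dim Ē = dim W` (`LinearMap.BilinForm.finrank_add_finrank_orthogonal`), `dim Ē ≥ 2`, `|E : V₀| = |Ē| = |W| / |Ē| = |R : E|` (`relIndex_eq_ncard` with `π`, resp. `Ē.mkQ ∘ π`). If `¬ R ≤ E` use `ff1` with `G = R`, `B = ⊥`, `C = E`, `M = V₀` (`nd`; chains `.refl`, `Chs.top`).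
`e2`: take `a ∈ R ∖ E`; the functional `b (π a) ·` on `Ē` has a nonzero kernel element `π w`; `[a, w] = 1` gives `w ∈ V₀`, contradiction. -/
theorem es {Ω : Type*} [Group Ω] [Finite Ω] {p : ℕ} [Fact p.Prime] {P E R V₀ Z₀ : Subgroup Ω} {A H : Set (Ω → Ω)} (h : Cx p P E A H)
    {k W : Type*} [Field k] [Finite k] [CharP k p] [AddCommGroup W] [Module k W] [Finite W] (hR : R ≤ P) (hE : E ≤ R) (hV : V₀ ≤ E)
    (hVR : V₀ ≤ R) (hZ : Z₀ ≤ V₀) (π : Ω → W) (πm : ∀ g ∈ R, ∀ g' ∈ R, π (g * g') = π g + π g') (πs : ∀ x, ∃ g ∈ R, π g = x)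
    (πk : ∀ g ∈ R, π g = 0 ↔ g ∈ V₀) (b : LinearMap.BilinForm k W) (alt : ∀ x, b x x = 0) (nd : ∀ x, (∀ y, b x y = 0) → x = 0)
    (z : k → Ω) (z1 : ∀ c, z c = 1 ↔ c = 0) (zZ : ∀ g, g ∈ Z₀ ↔ ∃ c, g = z c) (br : ∀ g ∈ R, ∀ g' ∈ R, ⁅g, g'⁆ = z (b (π g) (π g')))
    (κ : W → k) (pw : ∀ g ∈ R, g ^ p = z (κ (π g))) (κs : ∀ c x, κ (c • x) = c ^ p * κ x) (dim : 2 < Module.finrank k W) : E = R := by
  have z0 : z 0 = 1 := (z1 0).2 rfl
  have zm : ∀ c, z c ∈ Z₀ := fun c => (zZ _).2 ⟨c, rfl⟩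
  have cm : ∀ g ∈ R, ∀ g' ∈ R, g * g' = g' * g ↔ b (π g) (π g') = 0 := fun g hg g' hg' => by
    rw [← commutatorElement_eq_one_iff_mul_comm, br g hg g' hg', z1]
  have cV : ∀ g ∈ R, ∀ v ∈ V₀, g * v = v * g := fun g hg v hv => (cm g hg v (hVR hv)).2 (by rw [(πk v (hVR hv)).2 hv, map_zero])
  have κ0 : κ 0 = 0 := by simpa [(Fact.out : p.Prime).ne_zero] using κs 0 0
  have VO : V₀ ≤ Omp p E := fun v hv => ⟨hV hv, by rw [pw v (hVR hv), (πk v (hVR hv)).2 hv, κ0, z0], fun y hy => (cV y (hE hy) v hv).symm⟩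
  have bZ : ∀ g ∈ R, ∀ y ∈ R, ⁅g, y⁆ ∈ Z₀ := fun g hg y hy => br g hg y hy ▸ zm _
  have key : Ivs E A Z₀ → E = R := fun i => le_antisymm hE fun g hg =>
    h.mem2 (hR hg) i (fun y _ hy => cV g hg y (hZ hy)) le_rfl (hZ.trans hV) fun y hy => bZ g hg y (hE hy)
  let Eb : Submodule k W :=
    { carrier := {x | ∀ y ∈ Omp p E, b x (π y) = 0}
      add_mem' := fun ha hb y hy => by rw [map_add, LinearMap.add_apply, ha y hy, hb y hy, add_zero]
      zero_mem' := fun y _ => by simp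
      smul_mem' := fun c x hx y hy => by rw [map_smul, LinearMap.smul_apply, hx y hy, smul_zero] }
  have mE : ∀ g ∈ R, g ∈ E ↔ π g ∈ Eb := fun g hg =>
    ⟨fun e y hy => (cm g hg y (hE hy.1)).1 (hy.2.2 g e).symm, fun e =>
      h.mem2 (hR hg) (iv_Omp h.toAu) (fun y hy hy' => (cm g hg y (hE hy)).2 (e y hy')) (hZ.trans VO) (hZ.trans hV)
        fun y hy => bZ g hg y (hE hy)⟩
  have ex : ∀ x ∈ Eb, ∃ g ∈ E, π g = x := fun x hx => let ⟨g, hg, e⟩ := πs x; ⟨g, (mE g hg).2 (e ▸ hx), e⟩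
  by_cases c1 : ∃ x ∈ Eb, ∃ y ∈ Eb, b x y ≠ 0
  · obtain ⟨x, hx, y, hy, n⟩ := c1
    refine key ((h.iv_brk h.iv_self h.iv_self).congr (fun w _ => ⟨?_, fun hw => ?_⟩) h.toAu)
    · rintro ⟨x, hx, -, y, hy, -, rfl⟩; exact bZ x (hE hx) y (hE hy)
    · obtain ⟨c, rfl⟩ := (zZ w).1 hw
      obtain ⟨g, hg, e⟩ := ex _ (Eb.smul_mem (c / b x y) hx)
      obtain ⟨g', hg', e'⟩ := ex _ hy
      refine ⟨g, hg, hg, g', hg', hg', ?_⟩
      rw [br g (hE hg) g' (hE hg'), e, e', map_smul, LinearMap.smul_apply, smul_eq_mul, div_mul_cancel₀ _ n]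
  by_cases c2 : ∃ x ∈ Eb, κ x ≠ 0
  · obtain ⟨x, hx, n⟩ := c2
    refine key ((iv_pows h.toAu p h.iv_self).congr (fun w _ => ⟨?_, fun hw => ?_⟩) h.toAu)
    · rintro ⟨x, hx, -, rfl⟩; rw [pw x (hE hx)]; exact zm _
    · obtain ⟨c, rfl⟩ := (zZ w).1 hw
      obtain ⟨e, he⟩ := (Finite.injective_iff_surjective (f := frobenius k p)).1 (frobenius k p).injective (c / κ x)
      obtain ⟨g, hg, e'⟩ := ex _ (Eb.smul_mem e hx)
      refine ⟨g, hg, hg, ?_⟩
      rw [pw g (hE hg), e', κs, ← frobenius_def, he, div_mul_cancel₀ _ n]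
  push Not at c1 c2
  refine le_antisymm hE (by_contra fun ne => ?_)
  have π1 : π 1 = 0 := (πk 1 (one_mem _)).2 (one_mem _)
  have πd : ∀ g ∈ R, ∀ g' ∈ R, π (g⁻¹ * g') = π g' - π g := fun g hg g' hg' => by
    have := πm g hg _ (mul_mem (inv_mem hg) hg')
    rw [mul_inv_cancel_left] at this; rw [this]; abel
  have cE : ∀ x ∈ E, ∀ y ∈ E, x * y = y * x := fun x hx y hy =>
    (cm x (hE hx) y (hE hy)).2 (c1 _ ((mE x (hE hx)).1 hx) _ ((mE y (hE hy)).1 hy))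
  have rf : b.IsRefl := LinearMap.IsAlt.isRefl alt
  have : Module.Finite k W := Module.Finite.of_finite
  have oe : b.orthogonal Eb = Eb := by
    ext x
    exact ⟨fun hx y hy => rf _ _ (hx _ ((mE y (hE hy.1)).1 hy.1)), fun hx y hy => c1 y hy x hx⟩
  have fr : Module.finrank k Eb + Module.finrank k Eb = Module.finrank k W := by
    have := LinearMap.BilinForm.finrank_add_finrank_orthogonal rf Eb
    rwa [oe, LinearMap.BilinForm.orthogonal_top_eq_bot (rf.nondegenerate_iff_separatingLeft.2 nd), inf_bot_eq, finrank_bot, add_zero] at this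
  have fq := Submodule.finrank_quotient_add_finrank Eb
  have i1 : V₀.relIndex E ≤ Nat.card Eb := by
    rw [relIndex_eq_ncard π fun m hm m' hm' => by
      rw [← πk _ (mul_mem (inv_mem (hE hm)) (hE hm')), πd _ (hE hm) _ (hE hm'), sub_eq_zero, eq_comm]]
    exact Set.ncard_le_ncard (by rintro _ ⟨g, hg, rfl⟩; exact (mE g (hE hg)).1 hg) (Set.toFinite _)
  have i2 : Nat.card (W ⧸ Eb) ≤ E.relIndex R := by
    choose ψ h1 h2 using πs
    refine card_le_relIndex (fun i : W ⧸ Eb => ψ i.out) (fun i => h1 _) fun i j e => ?_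
    rw [mE _ (mul_mem (inv_mem (h1 _)) (h1 _)), πd _ (h1 _) _ (h1 _), h2, h2] at e
    rw [← i.out_eq, ← j.out_eq]
    exact ((Submodule.Quotient.eq Eb).2 e).symm
  have i3 : Nat.card Eb = Nat.card (W ⧸ Eb) := by
    rw [Module.natCard_eq_pow_finrank (K := k), Module.natCard_eq_pow_finrank (K := k) (V := W ⧸ Eb)]; congr 1; omega
  have F := h.ff1 R ⊥ E V₀
    { le := bot_le, le' := le_rfl, ivB := h.iv_bot, ivC := h.iv_self
      cen := fun x hx y hy => mem_bot.2 (commutatorElement_eq_one_iff_mul_comm.2 (cE x hx y hy))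
      exp := fun y hy => mem_bot.2 (by rw [pw y (hE hy), c2 _ ((mE y (hE hy)).1 hy), z0])
      GP := hR
      Gn := fun g hg y hy => hV (hZ (bZ g hg y (hE hy)))
      Gc := fun g hg y hy => hV (hZ (bZ g hg y hy))
      Gp := fun g hg => pw g hg ▸ hV (hZ (zm _))
      ne := ne
      hM := fun w hw => ⟨fun e g hg => mem_bot.2 (commutatorElement_eq_one_iff_mul_comm.2 (cV g hg w e)), fun e =>
        (πk w (hE hw)).1 (nd _ fun y => by
          obtain ⟨g, hg, rfl⟩ := πs y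
          exact rf _ _ ((cm g hg w (hE hw)).1 (commutatorElement_eq_one_iff_mul_comm.1 (mem_bot.1 (e g hg)))))⟩
      idx := i1.trans (i3 ▸ i2) } .refl (Chs.top h.iv_self fun g hg y hy => hV (hZ (bZ g hg y (hE hy))))
  obtain ⟨a, ha, na⟩ := SetLike.not_le_iff_exists.1 ne
  obtain ⟨x, hx, x0⟩ := (Submodule.ne_bot_iff _).1
    (LinearMap.ker_ne_bot_of_finrank_lt (f := (b (π a)).domRestrict Eb) (by rw [Module.finrank_self]; omega))
  obtain ⟨w, hw, e⟩ := ex x x.2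
  have := F.e2 a ha na w hw (mem_bot.2 (commutatorElement_eq_one_iff_mul_comm.2 ((cm a ha w (hE hw)).2 (e ▸ hx))))
  exact x0 (Subtype.ext (e ▸ (πk w (hE hw)).2 this))

end CL.D3
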