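/-
S5261: the context for subgroups of `U σ`, closed under conjugation.
-/
import Cfsg.Agent.FUS.D3.Cx
import Cfsg.Agent.FUS.D3.Alg

set_option autoImplicit false
set_option linter.unusedSimpArgs false
set_option linter.unusedSectionVars false

namespace CL.D3

open CL.Fus CL.RF4 Subgroup
open scoped commutatorElement

variable {K : Type*} [Field K] [Finite K] {σ : K →+* K} [T : Tri σ] {p : ℕ} {P : Subgroup (U σ)} {A H : Set (U σ → U σ)} {g x : U σ}

/-- the context with the extension property -/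
structure Cy (p : ℕ) (P : Subgroup (U σ)) (A H : Set (U σ → U σ)) : Prop extends Cx p ⊤ P A H where
  ne : P ≠ ⊤
  ext : ¬ P ≤ Q → ¬ P ≤ Q' → ∀ h ∈ H, ∃ α : MulAut (U σ), ∀ y ∈ P, h y = α y

/-- all conjugates of `P` have a context -/
def Es (p : ℕ) (P : Subgroup (U σ)) : Prop := ∀ g, ∃ A H, Cy p (img (cj g) P) A H

theorem mem_img_cj : x ∈ img (cj g) P ↔ cj g⁻¹ x ∈ P := by
  rw [(isHomOn_cj P g).mem_img]
  exact ⟨by rintro ⟨y, hy, rfl⟩; rwa [cj_inv_cj], fun h => ⟨_, h, cj_cj_inv _ _⟩⟩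

theorem cj_mem_img : cj g x ∈ img (cj g) P ↔ x ∈ P := by rw [mem_img_cj, cj_inv_cj]

theorem Es.cy (h : Es p P) : ∃ A H, Cy p P A H := by
  have := h 1
  rwa [show img (cj 1) P = P by ext; rw [mem_img_cj, inv_one, cj_one]] at this

theorem Es.conj (h : Es p P) (g : U σ) : Es p (img (cj g) P) := fun g' => by
  have := h (g' * g)
  rwa [show img (cj (g' * g)) P = img (cj g') (img (cj g) P) by ext; simp only [mem_img_cj, mul_inv_rev, cj_mul]] at this

theorem img_cj_le {B : Subgroup (U σ)} [B.Normal] : img (cj g) P ≤ B ↔ P ≤ B :=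
  ⟨fun h x hx => by simpa [cj, mul_assoc] using Normal.conj_mem ‹_› _ (h (cj_mem_img.2 hx)) g⁻¹,
    fun h x hx => by simpa [cj, mul_assoc] using Normal.conj_mem ‹_› _ (h (mem_img_cj.1 hx)) g⟩

theorem le_img_cj {B : Subgroup (U σ)} [B.Normal] : B ≤ img (cj g) P ↔ B ≤ P :=
  ⟨fun h x hx => cj_mem_img.1 (h (Normal.conj_mem ‹_› _ hx g)), fun h x hx => mem_img_cj.2 (h (Normal.conj_mem ‹_› _ hx _))⟩

theorem cj_mem_Omp : cj g x ∈ Omp p (img (cj g) P) ↔ x ∈ Omp p P := by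
  simp only [mem_Omp, cj_mem_img]
  refine and_congr_right fun _ => and_congr (by simp [cj, conj_pow]) ⟨fun h y hy => ?_, fun h y hy => ?_⟩
  · simpa [cj] using h _ (cj_mem_img.2 hy)
  · have := congrArg (cj g) (h _ (mem_img_cj.1 hy))
    simpa [cj, mul_assoc] using this

variable [Fact p.Prime] [CharP K p]

theorem two_iff : (2 : K) = 0 ↔ p = 2 := by
  rw [show (2 : K) = (2 : ℕ) by simp, CharP.cast_eq_zero_iff K p, Nat.prime_dvd_prime_iff_eq Fact.out Nat.prime_two]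

theorem three_iff : (3 : K) = 0 ↔ p = 3 := by
  rw [show (3 : K) = (3 : ℕ) by simp, CharP.cast_eq_zero_iff K p, Nat.prime_dvd_prime_iff_eq Fact.out Nat.prime_three]

theorem p_le_card : p ≤ Nat.card (Fx σ) := by
  have := Fintype.ofFinite (Fx σ)
  obtain ⟨n, -, e⟩ := FiniteField.card (Fx σ) p
  rw [Nat.card_eq_fintype_card, e]
  exact Nat.le_self_pow n.ne_zero p

/-- a coordinate that is additive along the powers of `g` vanishes on `g ^ p` -/
theorem crd_pow (c : U σ → K) (g : U σ) (e0 : c 1 = 0) (e : ∀ n : ℕ, c (g ^ n * g) = c (g ^ n) + c g) : c (g ^ p) = 0 := by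
  have : ∀ n : ℕ, c (g ^ n) = n * c g := fun n => by
    induction n with
    | zero => simp [e0]
    | succ n ih => rw [pow_succ, e, ih]; push_cast; ring
  rw [this, CharP.cast_eq_zero, zero_mul]

theorem pow_mem_sR (g : U σ) : g ^ p ∈ sR := ⟨crd_pow U.u g rfl fun _ => rfl, crd_pow U.t g rfl fun _ => rfl⟩

theorem pow_mem_sA (hg : g ∈ Q') : g ^ p ∈ sA :=
  ⟨(pow_mem_sR g).1, crd_pow U.s g rfl fun n => by simp [U.mul_s, mem_Q'.1 hg], (pow_mem_sR g).2⟩

theorem pow_mem_sZ (hg : g ∈ Q) : g ^ p ∈ sZ := by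
  have k := fun n => mem_Q.1 (pow_mem hg n)
  exact ⟨(pow_mem_sR g).1, crd_pow U.s g rfl fun n => by simp [U.mul_s, k n], crd_pow U.r g rfl fun n => by simp [U.mul_r, k n, cr, sh],
    crd_pow U.w g rfl fun n => by simp [U.mul_w, k n, sh, nm], k p⟩

theorem pow_sA (hg : g ∈ sA) : g ^ p = 1 := by
  have k := fun n => pow_mem hg n
  have z := pow_mem_sZ (p := p) (sR_le_Q (sA_le_sR hg))
  exact U.ext z.1 z.2.1 (crd_pow U.v g rfl fun n => by simp [U.mul_v, hg.1, hg.2.1, (k n).2.2]) z.2.2.1 z.2.2.2.1 z.2.2.2.2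

namespace Cx

variable (h : Cx p ⊤ P A H)
include h

theorem Z_le_Om : sZ ≤ Omp p P := fun _ hz =>
  ⟨h.mem1 trivial fun y _ => (comm_Z y hz).symm, pow_sA (sV_le_sA (sZ_le_sV hz)), fun y _ => (comm_Z y hz).symm⟩

theorem V_le_Om (hP : P ≤ Q') : sV ≤ Omp p P := fun _ hz =>
  ⟨h.mem1 trivial fun _ hy => (comm_V (hP hy) hz).symm, pow_sA (sV_le_sA hz), fun _ hy => (comm_V (hP hy) hz).symm⟩

end Cx

end CL.D3
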