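/-
S5261: essential subgroups inside `Q` or `R_∞`; the stabiliser of `V` in `Aut_F(Q)`.
-/
import Cfsg.Agent.FUS.D3.Ess0
import Cfsg.Agent.FUS.D3.Es

set_option autoImplicit false
set_option linter.unusedSimpArgs false
set_option linter.unusedSectionVars false

namespace CL.D3

open CL.Fus CL.RF4 Subgroup
open scoped commutatorElement

variable {K : Type*} [Field K] [Finite K] {σ : K →+* K} [T : Tri σ] {p : ℕ} [Fact p.Prime] [CharP K p] {P : Subgroup (U σ)}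
  {A H : Set (U σ → U σ)}

namespace EsA

variable {g h : U σ}

theorem cr0 (a : K) : cr σ a 0 = 0 := by simp [cr]
theorem cr0' (a : K) : cr σ 0 a = 0 := by simp [cr]
theorem sh0 : sh σ 0 = 0 := by simp [sh]
theorem nm0 : nm σ 0 = 0 := by simp [nm]

omit [Finite K] in
theorem crd_n (c : U σ → K) (g : U σ) (e0 : c 1 = 0) (e : ∀ n : ℕ, c (g ^ n * g) = c (g ^ n) + c g) (n : ℕ) : c (g ^ n) = n * c g := by
  induction n with
  | zero => simp [e0]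
  | succ n ih => rw [pow_succ, e, ih]; push_cast; ring

/-- a coordinate with a quadratic correction -/
theorem crd2 (c : U σ → K) (g : U σ) (d : K) (e0 : c 1 = 0) (e : ∀ n : ℕ, c (g ^ n * g) = c (g ^ n) + c g + n * d) :
    c (g ^ p) = if p = 2 then d else 0 := by
  have : ∀ n : ℕ, c (g ^ n) = n * c g + (n.choose 2 : ℕ) * d := fun n => by
    induction n with
    | zero => simp [e0]
    | succ n ih => rw [pow_succ, e, ih, Nat.choose_succ_succ' n 1, Nat.choose_one_right]; push_cast; ring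
  rw [this, CharP.cast_eq_zero, zero_mul, zero_add]
  split_ifs with h2
  · subst h2; simp
  · rw [(CharP.cast_eq_zero_iff K p _).2 ((Fact.out : p.Prime).dvd_choose_self two_ne_zero
      (lt_of_le_of_ne (Fact.out : p.Prime).two_le (Ne.symm h2))), zero_mul]

theorem divA (hg : g ∈ sA) (hh : h ∈ sA) : g⁻¹ * h ∈ sV ↔ g.r = h.r := by
  msimp at hg hh ⊢; csimp; simp only [hg, hh]; usimp; exact neg_add_eq_zero

theorem brA (hg : g ∈ Q') (hh : h ∈ Q') : ⁅g, h⁆ ∈ sA :=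
  ⟨br_u g h, by rw [br_s, mem_Q'.1 hg, mem_Q'.1 hh]; simp, br_t g h⟩

theorem br_r' (hg : g ∈ Q') (hh : h ∈ Q') : ⁅g, h⁆.r = cr σ h.s g.t - cr σ g.s h.t := by
  rw [br_r, mem_Q'.1 hg, mem_Q'.1 hh]; simp

theorem brV (hg : g ∈ Q') (hh : h ∈ Q') : ⁅g, h⁆ ∈ sV ↔ cr σ h.s g.t = cr σ g.s h.t := by
  have := brA hg hh
  rw [mem_sV, br_r' hg hh, sub_eq_zero]; simp only [this.1, this.2.1, this.2.2, true_and, and_true]

theorem brR (g : U σ) (hh : h ∈ sR) : ⁅g, h⁆ ∈ sA := ⟨br_u g h, by rw [br_s, hh.1, hh.2]; simp, br_t g h⟩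

theorem brR_r (g : U σ) (hh : h ∈ sR) : ⁅g, h⁆.r = cr σ h.s g.t := by rw [br_r, hh.1, hh.2]; simp [cr0, sh0]

theorem brRV (g : U σ) (hh : h ∈ sR) : ⁅g, h⁆ ∈ sV ↔ cr σ h.s g.t = 0 := by
  have := brR g hh
  rw [mem_sV, brR_r g hh]; simp only [this.1, this.2.1, this.2.2, true_and, and_true]

theorem brQZ (hg : g ∈ Q) (hh : h ∈ Q) : ⁅g, h⁆ ∈ sZ := by rw [br_Q hg hh]; exact ⟨rfl, rfl, rfl, rfl, rfl⟩

theorem brVZ (g : U σ) (hh : h ∈ sV) : ⁅g, h⁆ ∈ sZ := by rw [br_V g hh]; exact ⟨rfl, rfl, rfl, rfl, rfl⟩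

theorem pow_Q (hg : g ∈ Q) : (g ^ p).v = if p = 2 then qf g else 0 := by
  have k := fun n => mem_Q.1 (pow_mem hg n)
  have kr := crd_n U.r g rfl fun n => by simp [U.mul_r, k n, cr, sh]
  have kw := crd_n U.w g rfl fun n => by simp [U.mul_w, k n, sh, nm]
  rw [crd2 (p := p) U.v g (tr σ (g.s * g.r) - g.u * g.w) rfl fun n => by
    rw [U.mul_v, k n, kr, kw]; usimp; ring]
  split_ifs with h2
  · rw [qf]; linear_combination -(g.u * g.w) * (two_iff (K := K)).2 h2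
  · rfl

theorem br_Ri (hg : g ∈ sRi) (hh : h ∈ sRi) : ⁅g, h⁆ = y5 (tr σ (h.r * g.t) - tr σ (g.r * h.t)) (by simp) := by
  msimp at hg hh; csimp; simp only [hg, hh]; usimp; and_intros <;> ring

theorem pow_Ri (hg : g ∈ sRi) : g ^ p = y5 (if p = 2 then tr σ (g.r * g.t) else 0) (by split_ifs <;> simp) := by
  have k := fun n => pow_mem hg n
  have kt := crd_n U.t g rfl fun n => rfl
  exact U.ext (k p).1 (k p).2 (crd_pow U.v g rfl fun n => by simp [U.mul_v, hg.1, hg.2, sh])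
    (crd_pow U.r g rfl fun n => by simp [U.mul_r, hg.1, hg.2, cr])
    (crd2 U.w g _ rfl fun n => by rw [U.mul_w, kt, hg.1, hg.2]; usimp; ring) (pow_mem_sR g).2

theorem trB_coe (a b : K) : (trB σ a b : K) = tr σ (a * b) := rfl

/-- the form on `Q / Z` -/
def bQ (σ : K →+* K) [Tri σ] : LinearMap.BilinForm (Fx σ) (Fx σ × K × K × Fx σ) :=
  LinearMap.mk₂ (Fx σ) (fun x y => x.1 * y.2.2.2 - y.1 * x.2.2.2 + trB σ y.2.1 x.2.2.1 - trB σ x.2.1 y.2.2.1)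
    (fun _ _ _ => by simp; ring) (fun _ _ _ => by simp; ring) (fun _ _ _ => by simp; ring) fun _ _ _ => by simp; ring

/-- the form on `R_∞ / V` -/
def bR (σ : K →+* K) [Tri σ] : LinearMap.BilinForm (Fx σ) (K × K) :=
  LinearMap.mk₂ (Fx σ) (fun x y => trB σ y.1 x.2 - trB σ x.1 y.2)
    (fun _ _ _ => by simp; ring) (fun _ _ _ => by simp; ring) (fun _ _ _ => by simp; ring) fun _ _ _ => by simp; ring

theorem eq_Ri (h : Cx p ⊤ P A H) (hP : P ≤ sRi) : P = sRi := by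
  refine es h (k := Fx σ) (W := K × K) (V₀ := sV) (Z₀ := sY5) le_top hP (fun v hv => (h.V_le_Om (hP.trans sRi_le_Q') hv).1)
    (sV_le_sA.trans sA_le_sRi) (fun g hg => ⟨hg.1, hg.2.1, hg.2.2.2.1, hg.2.2.2.2⟩) (fun g => (g.r, g.t))
    (fun g hg g' hg' => by simp [U.mul_r, U.mul_t, hg'.1, hg'.2, cr]) (fun x => ⟨y4 x.1 * y6 x.2, by msimp; usimp, by
      rw [Prod.ext_iff]; usimp⟩) (fun g hg => by simp [mem_sV, hg.1, hg.2]) (bR σ) (fun x => by simp [bR]) (fun x e => ?_)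
    (fun c => y5 c (σ_coe c)) (fun c => by csimp; simp) (fun g => ⟨fun hg => ⟨⟨g.w, g.hw⟩, by msimp at hg; csimp; simp [hg]⟩,
      by rintro ⟨c, rfl⟩; exact ⟨rfl, rfl, rfl, rfl, rfl⟩⟩) (fun g hg g' hg' => by rw [br_Ri hg hg']; rfl)
    (fun x => if p = 2 then trB σ x.1 x.2 else 0) (fun g hg => by rw [pow_Ri hg]; split_ifs <;> rfl)
    (fun c x => by split_ifs with h2 <;> simp [h2]; ring) (by rw [Module.finrank_prod, finrank_K]; omega)
  refine Prod.ext (tr_nondeg (σ := σ) fun s => ?_) (tr_nondeg (σ := σ) fun s => ?_)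
  · simpa [bR, Subtype.ext_iff, trB_coe] using e (0, s)
  · simpa [bR, Subtype.ext_iff, trB_coe, mul_comm] using e (s, 0)

end EsA

open EsA

/-- Proof. `es` with `R = Q`, `V₀ = Z₀ = sZ` (`Cx.Z_le_Om`), `k = Fx σ`, `W = Fx σ × K × K × Fx σ`, `π g = (u, s, r, w)`, `b = bf` (`LinearMap.mk₂`, cf. `trB`; `nd` by `tr_nondeg`), `z c = y3 c`, `br_Q`;
`κ = qf` for `p = 2` (`g ^ 2 = y3 (qf g)`), `κ = 0` for odd `p`: `(g ^ n).v = n v + (n choose 2) (T(s r) - u w)` on `Q` (or: class 2, `Commute.mul_pow`-type formula), `pow_mem_sZ`. `finrank = 8` (`finrank_K`). -/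
theorem esQ (h : Cx p ⊤ P A H) (hP : P ≤ Q) : P = Q := by
  refine es h (k := Fx σ) (W := Fx σ × K × K × Fx σ) (V₀ := sZ) (Z₀ := sZ) le_top hP (fun v hv => (h.Z_le_Om hv).1)
    (sZ_le_sV.trans (sV_le_sA.trans (sA_le_sR.trans sR_le_Q))) le_rfl (fun g => (⟨g.u, g.hu⟩, g.s, g.r, ⟨g.w, g.hw⟩))
    (fun g hg g' hg' => by simp [U.mul_u, U.mul_s, U.mul_r, U.mul_w, mem_Q.1 hg, cr, sh, nm, Subtype.ext_iff])
    (fun x => ⟨⟨x.1, x.2.1, 0, x.2.2.1, x.2.2.2, 0, x.1.2, map_zero _, x.2.2.2.2⟩, rfl, rfl⟩)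
    (fun g hg => by simp [mem_sZ, mem_Q.1 hg, Subtype.ext_iff]) (bQ σ) (fun x => by simp [bQ]) (fun x e => ?_)
    (fun c => y3 c (σ_coe c)) (fun c => by csimp; simp) (fun g => ⟨fun hg => ⟨⟨g.v, g.hv⟩, by msimp at hg; csimp; simp [hg]⟩,
      by rintro ⟨c, rfl⟩; exact ⟨rfl, rfl, rfl, rfl, rfl⟩⟩) (fun g hg g' hg' => by rw [br_Q hg hg']; rfl)
    (fun x => if p = 2 then x.1 * x.2.2.2 + trB σ x.2.1 x.2.2.1 else 0) (fun g hg => ?_)
    (fun c x => by split_ifs with h2 <;> simp [h2]; ring) (by simp only [Module.finrank_prod, finrank_K, Module.finrank_self]; omega)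
  · refine Prod.ext ?_ (Prod.ext (tr_nondeg (σ := σ) fun s => ?_) (Prod.ext (tr_nondeg (σ := σ) fun s => ?_) ?_))
    · simpa [bQ] using e (0, 0, 0, 1)
    · simpa [bQ, Subtype.ext_iff, trB_coe] using e (0, 0, s, 0)
    · simpa [bQ, Subtype.ext_iff, trB_coe, mul_comm] using e (0, s, 0, 0)
    · simpa [bQ] using e (1, 0, 0, 0)
  · have z := pow_mem_sZ (p := p) hg
    refine U.ext z.1 z.2.1 ?_ z.2.2.1 z.2.2.2.1 z.2.2.2.2
    rw [pow_Q hg]; split_ifs <;> rfl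

/-- Proof. `es` with `R = sRi`, `V₀ = sV` (`Cx.V_le_Om`), `Z₀ = sY5`, `W = K × K`, `π g = (r, t)`, `b (r,t) (r',t') = T(r' t) - T(r t')`, `z c = y5 c`, `κ (r,t) = T(r t)` for `p = 2`, else `0`; so `P = sRi`.
Then `V = Zn P` is invariant; `ff1` with `G = Q'`, `B = sV`, `C = sRi`, `M = sA` (`⁅g, w⁆.r = -(g.s × w.t)`, `cr_all_zero`; both indices are `|K|`: `relIndex_le_card U.t`, `card_le_relIndex y2`; chains `Chs.base` (`comm_V`), `Chs.top`).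
`p = 2`: `e2` with `g = y2 1`, `w = y6 1` (`1 × 1 = 2`). `p ≠ 2`: `e4` with `c = y2 1`, `a = y2 α`, `b = y2 β`, `w = y6 x`, `wᵢ = y6 xᵢ` (these commutators lie in `sA`, membership in `sV` is `r = 0`) and `fx_of_field` for an `x` with `σ x ≠ x`. -/
theorem esRi (h : Cx p ⊤ P A H) (hP : P ≤ sRi) : False := by
  obtain rfl := eq_Ri h hP
  have iV : Ivs sRi A (sV (σ := σ)) := h.iv_Zn.congr (fun y hy => ⟨fun e => ⟨hy.1, hy.2, tr_nondeg (σ := σ) fun s => by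
      have := congrArg U.w (commutatorElement_eq_one_iff_mul_comm.2 (e.2 (y6 s) ⟨rfl, rfl⟩))
      rw [br_Ri hy ⟨rfl, rfl⟩] at this; simpa using this, tr_nondeg (σ := σ) fun s => by
      have := congrArg U.w (commutatorElement_eq_one_iff_mul_comm.2 (e.2 (y4 s) ⟨rfl, rfl⟩))
      rw [br_Ri hy ⟨rfl, rfl⟩] at this; simpa [mul_comm] using this⟩,
    fun e => ⟨hy, fun x hx => (comm_V (sRi_le_Q' hx) e).symm⟩⟩) h.toAu
  have F := h.ff1 Q' sV sRi sA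
    { le := sV_le_sA.trans sA_le_sRi, le' := le_rfl, ivB := iV, ivC := h.iv_self
      cen := fun x hx y hy => by rw [br_Ri hx hy]; exact ⟨rfl, rfl, rfl, rfl⟩
      exp := fun y hy => by rw [pow_Ri hy]; exact ⟨rfl, rfl, rfl, rfl⟩
      GP := le_top
      Gn := fun g hg y hy => sA_le_sRi (brA hg (sRi_le_Q' hy))
      Gc := fun g hg y hy => sA_le_sRi (brA hg hy)
      Gp := fun g hg => sA_le_sRi (pow_mem_sA hg)
      ne := fun e => one_ne_zero (e (show y2 1 ∈ Q' from rfl)).2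
      hM := fun w hw => ⟨fun e g hg => (brV hg (sRi_le_Q' hw)).2 (by rw [hw.2, e.2.2, cr0, cr0']), fun e =>
        ⟨hw.1, hw.2, cr_all_zero (σ := σ) fun s => by
          have := (brV (show y2 s ∈ Q' from rfl) (sRi_le_Q' hw)).1 (e _ rfl)
          rw [cr_comm, ← y2_s (σ := σ) s, ← this, hw.2, cr0']⟩⟩
      idx := (relIndex_le_card U.t fun m hm m' hm' e => by
        msimp at hm hm' ⊢; csimp; simp only [hm, hm', e]; usimp).trans
        (card_le_relIndex y2 (fun _ => rfl) fun i j e => by have := e.2; usimp at this; exact neg_add_eq_zero.1 this) }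
    (Chs.base h.toAu iV fun g hg y _ hy => comm_V hg hy) (Chs.top h.iv_self fun g hg y hy => sA_le_sRi (brA hg (sRi_le_Q' hy)))
  by_cases h2 : (2 : K) = 0
  · exact one_ne_zero (F.e2 (y2 1) rfl (fun e => one_ne_zero e.2) (y6 1) ⟨rfl, rfl⟩
      ((brV rfl rfl).2 (by simp [cr0, cr_self, h2]))).2.2
  obtain ⟨x, hx⟩ := T.ne
  have k : ∀ a b c d : K, ⁅y2 (σ := σ) a, y6 b⁆⁻¹ * ⁅y2 c, y6 d⁆ ∈ sV ↔ cr σ a b = cr σ c d := fun a b c d => by
    rw [divA (brA rfl rfl) (brA rfl rfl), br_r' rfl rfl, br_r' rfl rfl]; simp [cr0]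
  exact hx (fx_of_field h2 fun α β x₁ x₂ e1 e2 => (k ..).1 (F.e4 (mt two_iff.2 h2) (y2 α) rfl (y2 β) rfl (y2 1) rfl
    (fun e => one_ne_zero e.2) (y6 x) ⟨rfl, rfl⟩ (y6 x₁) ⟨rfl, rfl⟩ (y6 x₂) ⟨rfl, rfl⟩ ((k ..).2 e1) ((k ..).2 e2)))

/-- Proof. `Z = Zn Q` and `R₀ = C_Q(V)` (`Au.iv_cent`, `br_V`) are invariant. `ff1` with `G = ⊤`, `B = sV`, `C = sR`, `M = sA`; chains `⊥ < sZ < sV` and `sR < ⊤`; indices `|K|` (`U.s`; `y6`); `pow_mem_sR`, `pow_mem_sZ`.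
As in `esRi` with `y2` and `y6` interchanged (`⁅y6 t, y2 s⁆.r = s × t`). -/
theorem stabV (h : Cx p ⊤ (Q (σ := σ)) A H) (hV : Ivs Q A sV) : False := by
  have iZ : Ivs Q A (sZ (σ := σ)) := h.iv_Zn.congr (fun y hy => ⟨fun e => by
      have k := fun x hx => (comm_Q hy hx).1 (e.2 x hx)
      exact ⟨by simpa [bf] using k (y5 1 (map_one _)) rfl, tr_nondeg (σ := σ) fun s => by simpa [bf] using k (y4 s) rfl,
        tr_nondeg (σ := σ) fun s => by simpa [bf, mul_comm] using k (y2 s) rfl, by simpa [bf] using k (y1 1 (map_one _)) rfl, hy⟩,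
    fun e => ⟨hy, fun x _ => (comm_Z x e).symm⟩⟩) h.toAu
  have iR : Ivs Q A (sR (σ := σ)) := (h.iv_cent hV).congr (fun y hy => ⟨fun e => ⟨by
      simpa [bf] using (comm_Q hy rfl).1 (e (y5 1 (map_one _)) rfl ⟨rfl, rfl, rfl, rfl⟩), hy⟩,
    fun e x _ hx => comm_V (sR_le_Q' e) hx⟩) h.toAu
  have F := h.ff1 ⊤ sV sR sA
    { le := sV_le_sA.trans sA_le_sR, le' := sR_le_Q, ivB := hV, ivC := iR
      cen := fun x hx y hy => sZ_le_sV (brQZ hx (sR_le_Q hy))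
      exp := fun y hy => sZ_le_sV (pow_mem_sZ (sR_le_Q hy))
      GP := le_top
      Gn := fun g _ y _ => br_t g y
      Gc := fun g _ y _ => br_t g y
      Gp := fun g _ => sR_le_Q (pow_mem_sR g)
      ne := fun e => one_ne_zero (mem_Q.1 (e (mem_top (y6 1))))
      hM := fun w hw => ⟨fun e g _ => (brRV g hw).2 (by rw [e.2.1, cr0']), fun e =>
        ⟨hw.1, cr_all_zero (σ := σ) fun s => (brRV (y6 s) hw).1 (e _ trivial), hw.2⟩⟩
      idx := (relIndex_le_card U.s fun m hm m' hm' e => by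
        msimp at hm hm' ⊢; csimp; simp only [hm, hm', e]; usimp).trans
        (card_le_relIndex y6 (fun _ => trivial) fun i j e => by rw [mem_Q] at e; usimp at e; exact neg_add_eq_zero.1 e) }
    ((Chs.base h.toAu iZ fun g _ y _ hy => comm_Z g hy).step iZ hV fun g _ y _ hy => brVZ g hy)
    (Chs.top iR fun g _ y _ => ⟨br_u g y, br_t g y⟩)
  by_cases h2 : (2 : K) = 0
  · exact one_ne_zero (F.e2 (y6 1) trivial (fun e => one_ne_zero (mem_Q.1 e)) (y2 1) ⟨rfl, rfl⟩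
      ((brRV _ ⟨rfl, rfl⟩).2 (by simp [cr_self, h2]))).2.1
  obtain ⟨x, hx⟩ := T.ne
  have k : ∀ a b c d : K, ⁅y6 (σ := σ) a, y2 b⁆⁻¹ * ⁅y6 c, y2 d⁆ ∈ sV ↔ cr σ a b = cr σ c d := fun a b c d => by
    rw [divA (brR _ ⟨rfl, rfl⟩) (brR _ ⟨rfl, rfl⟩), brR_r _ ⟨rfl, rfl⟩, brR_r _ ⟨rfl, rfl⟩, cr_comm a, cr_comm c]; rfl
  exact hx (fx_of_field h2 fun α β x₁ x₂ e1 e2 => (k ..).1 (F.e4 (mt two_iff.2 h2) (y6 α) trivial (y6 β) trivial (y6 1) trivial
    (fun e => one_ne_zero (mem_Q.1 e)) (y2 x) ⟨rfl, rfl⟩ (y2 x₁) ⟨rfl, rfl⟩ (y2 x₂) ⟨rfl, rfl⟩ ((k ..).2 e1) ((k ..).2 e2)))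

end CL.D3
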