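/-
S5261: essential subgroups of `Q'` with `Ω₁ Z(P) = V`.
-/
import Cfsg.Agent.FUS.D3.EsA

set_option autoImplicit false
set_option linter.unusedSimpArgs false
set_option linter.unusedSectionVars false

namespace CL.D3

open CL.Fus CL.RF4 Subgroup
open scoped commutatorElement

variable {K : Type*} [Field K] [Finite K] {σ : K →+* K} [T : Tri σ] {p : ℕ} [Fact p.Prime] [CharP K p] {P : Subgroup (U σ)}
  {A H : Set (U σ → U σ)}

namespace EsB

open EsA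

variable {g h : U σ} {B : Subgroup (U σ)}

theorem cr_cancel (h2 : (2 : K) ≠ 0) {a x y : K} (ha : a ≠ 0) (e : cr σ a x = cr σ a y) : x = y :=
  sub_eq_zero.1 ((cr_inj (σ := σ) h2 (by rw [cr_sub, e, sub_self])).resolve_left ha)

theorem brAV (g : U σ) (hh : h ∈ sA) : ⁅g, h⁆ ∈ sV := (brRV g (sA_le_sR hh)).2 (by rw [hh.2.1, cr0'])

/-- the element of `Q'` with given `s, t` -/
def el (s t : K) : U σ := y2 s * y6 t

theorem el_mem (s t : K) : el s t ∈ Q' (σ := σ) := mul_mem rfl rfl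
@[simp] theorem el_s (s t : K) : (el (σ := σ) s t).s = s := by simp only [el]; usimp
@[simp] theorem el_t (s t : K) : (el (σ := σ) s t).t = t := by simp only [el]; usimp

theorem dv_s (hg : g ∈ Q') (hh : h ∈ Q') : (g⁻¹ * h).s = h.s - g.s := by msimp at hg hh; csimp; simp only [hg, hh]; ring
theorem dv_t (g h : U σ) : (g⁻¹ * h).t = h.t - g.t := by csimp; ring

theorem dvA (hg : g ∈ Q') (hh : h ∈ Q') : g⁻¹ * h ∈ sA ↔ g.s = h.s ∧ g.t = h.t := by
  rw [mem_sA, dv_s hg hh, dv_t, mem_Q'.1 (mul_mem (inv_mem hg) hh), sub_eq_zero, sub_eq_zero]; tauto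

theorem mem_of (hA : sA ≤ P) (hP : P ≤ Q') (hg : g ∈ P) (hh : h ∈ Q') (e1 : g.s = h.s) (e2 : g.t = h.t) : h ∈ P := by
  simpa using mul_mem hg (hA ((dvA (hP hg) hh).2 ⟨e1, e2⟩))

theorem le_card' {Ω κ : Type*} [Group Ω] {C M : Subgroup Ω} (S : Set κ) [Finite S] (φ : Ω → κ) (h0 : ∀ m ∈ C, φ m ∈ S)
    (h : ∀ m ∈ C, ∀ m' ∈ C, φ m = φ m' → m⁻¹ * m' ∈ M) : M.relIndex C ≤ Nat.card S :=
  Nat.card_le_card_of_injective (fun x : C ⧸ M.subgroupOf C => (⟨φ x.out, h0 _ x.out.2⟩ : S)) fun x y e => by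
    rw [← x.out_eq, ← y.out_eq]; exact QuotientGroup.eq.2 (h _ x.out.2 _ y.out.2 (congrArg Subtype.val e))

/-- the image in `Q' / A₀` is closed under scalars -/
def Scl (P : Subgroup (U σ)) : Prop := ∀ g ∈ P, ∀ c, σ c = c → el (c * g.s) (c * g.t) ∈ P

theorem q_le (hA : sA ≤ P) (hP : P ≤ Q') (hB : B ≤ Q') (s1 : Scl P) (s2 : Scl B) (ne : ¬ B ≤ P) : Nat.card (Fx σ) ≤ P.relIndex B := by
  obtain ⟨g, hg, n⟩ := SetLike.not_le_iff_exists.1 ne
  refine card_le_relIndex (fun c : Fx σ => el (c * g.s) (c * g.t)) (fun c => s2 g hg c c.2) fun i j e => by_contra fun k => n ?_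
  have k' : (j : K) - i ≠ 0 := sub_ne_zero.2 fun e => k (Subtype.ext e.symm)
  refine mem_of hA hP (s1 _ e ((j : K) - i)⁻¹ (by simp)) (hB hg) ?_ ?_
  · rw [el_s, dv_s (el_mem ..) (el_mem ..), el_s, el_s]; field_simp
  · rw [el_t, dv_t, el_t, el_t]; field_simp

theorem idx_Q' : sA.relIndex (Q' (σ := σ)) = Nat.card K * Nat.card K := by
  rw [← Nat.card_prod]
  exact le_antisymm (relIndex_le_card (fun g => (g.s, g.t)) fun m hm m' hm' e => (dvA hm hm').2 (Prod.ext_iff.1 e))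
    (card_le_relIndex (fun x : K × K => el x.1 x.2) (fun _ => el_mem ..) fun i j e => by
      simpa [Prod.ext_iff] using (dvA (el_mem ..) (el_mem ..)).1 e)

theorem rel_ne {Ω : Type*} [Group Ω] [Finite Ω] (C M : Subgroup Ω) : M.relIndex C ≠ 0 := index_ne_zero_of_finite

theorem card_perp1 {τ : K} (hτ : τ ≠ 0) : Nat.card (perp σ {τ}) = Nat.card (Fx σ) ^ 2 := by
  have := finrank_perp (σ := σ) (Submodule.span (Fx σ) {τ})
  rw [finrank_span_singleton hτ, perp_span] at this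
  rw [Module.natCard_eq_pow_finrank (K := Fx σ)]; congr 1; omega

theorem cr_smul' {c : K} (hc : σ c = c) (a b : K) : cr σ (c * a) b = c * cr σ a b := by rw [cr_comm, cr_smul hc, cr_comm]

theorem sq_r (h2 : (2 : K) = 0) (hg : g ∈ Q') : (g ^ 2).r = cr σ g.s g.t := by
  rw [pow_two, U.mul_r, mem_Q'.1 hg]; linear_combination g.r * h2

/-- the elements of `Q'` orthogonal to `(s, t)` -/
def pB (s t : K) : Subgroup (U σ) where
  carrier := {g | g.u = 0 ∧ cr σ s g.t = cr σ g.s t}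
  mul_mem' {a b} ha hb := ⟨by rw [U.mul_u, ha.1, hb.1, add_zero], by
    rw [U.mul_s, U.mul_t, hb.1, cr_add, ha.2, hb.2, zero_mul, add_zero, cr_comm (_ + _), cr_add, cr_comm t, cr_comm t]⟩
  one_mem' := ⟨rfl, by simp [cr]⟩
  inv_mem' {a} ha := ⟨by rw [U.inv_u, ha.1, neg_zero], by
    have := ha.2
    rw [U.inv_s, U.inv_t, ha.1]; usimp at this ⊢; linear_combination -this⟩

end EsB

open EsA EsB

/-- `Cx.mem2` with `B = Omp p P`, `D = sV` (`comm_A`, `br_Q'A`, `Cx.V_le_Om`) -/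
theorem A_le (h : Cx p ⊤ P A H) (hP : P ≤ Q') (hO : Omp p P ≤ sA) : sA ≤ P := by
  exact fun a ha => h.mem2 trivial (iv_Omp h.toAu) (fun y _ hy => comm_A ha (hO hy)) (h.V_le_Om hP) (fun v hv => (h.V_le_Om hP hv).1)
    fun y _ => br_symm (brAV y ha)

/-- an abelian graph is a line: apply `fx_of_field` with `x = φ 1` (`1 × φ α = α × φ 1`, `cr_inj` identifies `x₁ = φ α`, `x₂ = φ β`); then `1 × φ t = t × φ 1 = 1 × (φ 1 * t)`. -/
theorem graph_fx (h2 : (2 : K) ≠ 0) (φ : K → K) (h : ∀ t t', cr σ (φ t) t' = cr σ (φ t') t) : σ (φ 1) = φ 1 ∧ ∀ t, φ t = φ 1 * t := by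
  have k : σ (φ 1) = φ 1 := fx_of_field h2 fun α β x₁ x₂ e1 e2 => by
    rw [cr_cancel h2 one_ne_zero (e1.trans ((cr_comm ..).trans ((h 1 α).trans (cr_comm ..)))),
      cr_cancel h2 one_ne_zero (e2.trans ((cr_comm ..).trans ((h 1 β).trans (cr_comm ..)))), cr_comm, h, cr_comm]
  refine ⟨k, fun t => cr_cancel (σ := σ) h2 one_ne_zero ?_⟩
  rw [cr_comm, h, cr_smul k, ← cr_smul' k, mul_one]

/-- Proof. `Omp p P = sV` is invariant. `C = Omq p P sV _ ≥ sA` (`pow_sA`). For `g, g' ∈ Q'`: `⁅g, g'⁆ ∈ sA` and `⁅g, g'⁆ ∈ sV ↔ β g g' := g'.s × g.t - g.s × g'.t = 0` (`br_r`). (1) `g ∈ Q'` with `β g C = 0` lies in `P` (`Cx.mem3`, chain `sV < C`, `D = sA`).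
If `C ≤ sA` then `P = Q'`. Else fix `d ∈ C ∖ sA`, `(s₀, t₀) = (d.s, d.t) ≠ 0`; assume `P ≠ Q'`. Let `c g = (g.s, g.t)`, `D = c '' C ⊆ P̃ = c '' P`; `|C : sA| = |D|`, `|Q' : P| = |K|² / |P̃|` (`relIndex_eq_ncard`, `relIndex_mul_relIndex` with `sA ≤ P ≤ Q'`).
Claim `|D| |P̃| ≤ |K|²`. `P̃ ⊆ d^⊥ = {s × t₀ = s₀ × t}`. If `p ≠ 2`: `t` (if `t₀ ≠ 0`) or `s` (if `t₀ = 0`) is injective on `d^⊥` (`cr_inj`), so `|D| ≤ |P̃| ≤ |K|`.
If `p = 2`: by (1) `P̃ = D^⊥` is an `F`-subspace of `K × K` (make it a `Submodule (Fx σ) (K × K)`, also `d^⊥`). `s₀ × t₀ = (d ^ 2).r = 0`, so `(s₀, t₀) = (x τ, y τ)`, `τ ≠ 0`, `(x, y) ≠ 0` (`cr_eq_zero_two`), `d^⊥ = {y s + x t ∈ F τ}`.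
(i) `|d^⊥| ≤ q⁴` (inject into `K × F`). (ii) If `d^⊥ ⊆ P̃` then `D ⊆ F d`, so `|D| ≤ q`: `(s₁, t₁) ∈ D` is orthogonal to all `(x z, y z)`, so `x t₁ + y s₁ = 0` (`cr_all_zero`), `(s₁, t₁) = (x z₁, y z₁)`, and to `(τ, 0), (0, τ)`, so `τ × z₁ = 0`.
(iii) Otherwise `P̃ < d^⊥` are subspaces, `|D| ≤ |P̃| ≤ q³`. (`|K| = q³`, `card_K`.)
So `ff1` applies with `G = Q'`, `B = sV`, `M = sA` (`cr_all_zero`), chains `Chs.base`, `Chs.top` (`sA ≤ C`). `e2`: every `a ∈ Q'` with `β a d = 0` lies in `P`.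
`p = 2`: so we are in (ii), `|D| |P̃| ≤ q⁵ < q⁶`, against `eq`.
`p ≠ 2`: if `t₀ = 0` then `P ≤ Q`. Else `P̃ = d^⊥` is the graph of `φ t = ` the `s` with `s × t₀ = s₀ × t` (`cr_surj`), `|P̃| = |K|`, by `eq` `|D| = |K|`, `D = P̃`, so `β = 0` on `P`: `graph_fx` gives `g.s = γ g.t` on `P`, `γ ∈ F`; `img (cj (y1 γ _)) P ≤ sRi` (`cj1_s`), `esRi` for `h (y1 γ _)`. -/
theorem esB1a (h : Es p P) (hP : P ≤ Q') (hA : sA ≤ P) (hO : Omp p P ≤ sV) : P ≤ Q ∨ P = Q' := by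
  obtain ⟨A, H, h0⟩ := h.cy
  have c := h0.toCx
  have iV : Ivs P A sV := (iv_Omp c.toAu).congr (fun y _ => ⟨fun e => hO e, fun e => c.V_le_Om hP e⟩) c.toAu
  have hB : ∀ y ∈ P, ∀ b ∈ sV, y * b * y⁻¹ ∈ sV (σ := σ) := fun y _ b hb => Normal.conj_mem inferInstance b hb y
  obtain ⟨C, hC⟩ : ∃ C, C = Omq p P sV hB := ⟨_, rfl⟩
  have iC : Ivs P A C := hC ▸ iv_Omq c.toAu hB iV
  have mC : ∀ {g}, g ∈ C → g ∈ P ∧ g ^ p ∈ sV ∧ ∀ y ∈ P, ⁅g, y⁆ ∈ sV := fun e => mem_Omq.1 (hC ▸ e)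
  have CP : C ≤ P := fun _ e => (mC e).1
  have AC : sA ≤ C := fun a ha => hC ▸ mem_Omq.2 ⟨hA ha, by rw [pow_sA ha]; exact one_mem _, fun y _ => br_symm (brAV y ha)⟩
  have one : ∀ g ∈ Q', (∀ y ∈ C, ⁅g, y⁆ ∈ sV) → g ∈ P := fun g hg e =>
    c.mem3 trivial iV iC (fun y _ hy => comm_V hg hy) (fun y _ hy => e y hy) AC hA fun y hy => brA hg (hP hy)
  by_cases CA : C ≤ sA
  · exact Or.inr (le_antisymm hP fun g hg => one g hg fun y hy => brAV g (CA hy))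
  obtain ⟨d, hd, nd⟩ := SetLike.not_le_iff_exists.1 CA
  have dQ := hP (CP hd)
  have pd : ∀ g ∈ P, cr σ d.s g.t = cr σ g.s d.t := fun g hg => (brV (hP hg) dQ).1 (br_symm ((mC hd).2.2 g hg))
  by_contra! k
  obtain ⟨nQ, nQ'⟩ := k
  have FF := fun idx : sA.relIndex C ≤ P.relIndex Q' => c.ff1 Q' sV C sA
    { le := sV_le_sA.trans AC, le' := CP, ivB := iV, ivC := iC
      cen := fun x hx y hy => br_symm ((mC hy).2.2 x hx)
      exp := fun y hy => (mC hy).2.1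
      GP := le_top
      Gn := fun g hg y hy => hA (brA hg (hP hy))
      Gc := fun g hg y hy => hA (brA hg hy)
      Gp := fun g hg => hA (pow_mem_sA hg)
      ne := fun e => nQ' (le_antisymm hP e)
      hM := fun w hw => ⟨fun e g _ => brAV g e, fun e => ⟨hP (CP hw), cr_all_zero (σ := σ) fun s => by
          simpa [cr0'] using (brV (show y6 s ∈ Q' from rfl) (hP (CP hw))).1 (e _ rfl), cr_all_zero (σ := σ) fun s => by
          simpa [cr0, cr_comm s, eq_comm] using (brV (show y2 s ∈ Q' from rfl) (hP (CP hw))).1 (e _ rfl)⟩⟩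
      idx := idx }
    (Chs.base c.toAu iV fun g hg y _ hy => comm_V hg hy) (Chs.top iC fun g hg y hy => AC (brA hg (hP hy)))
  by_cases h2 : (2 : K) = 0
  swap
  · have t0 : d.t ≠ 0 := fun e => nQ fun g hg => (cr_inj (σ := σ) h2 (by rw [pd g hg, e, cr0])).resolve_left fun e' => nd ⟨dQ, e', e⟩
    have sp : ∀ m ∈ P, ∀ m' ∈ P, m.t = m'.t → m⁻¹ * m' ∈ sA := fun m hm m' hm' e =>
      (dvA (hP hm) (hP hm')).2 ⟨cr_cancel (σ := σ) h2 t0 (by rw [cr_comm, ← pd m hm, e, pd m' hm', cr_comm]), e⟩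
    have i2 : Nat.card K ≤ P.relIndex Q' := card_le_relIndex y2 (fun _ => rfl) fun i j e => by
      have := (sp _ (one_mem _) _ e (by usimp)).2.1
      usimp at this; simpa [neg_add_eq_zero] using this
    have F := FF ((relIndex_le_card U.t fun m hm m' hm' => sp m (CP hm) m' (CP hm')).trans i2)
    choose m hm e using surj_of_relIndex U.t (fun m hm m' hm' => sp m (CP hm) m' (CP hm')) (F.eq ▸ i2)
    obtain ⟨k1, k2⟩ := graph_fx h2 (fun t => (m t).s) fun t t' => by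
      have := (brV (hP (CP (hm t'))) (hP (CP (hm t)))).1 ((mC (hm t')).2.2 _ (CP (hm t)))
      rwa [e, e] at this
    obtain ⟨A', H', h'⟩ := h (y1 _ k1)
    refine esRi h'.toCx (img_le_iff.2 fun x hx => ⟨by rw [cj1_u]; exact hP hx, ?_⟩)
    rw [cj1_s, ← k2, ((dvA (hP hx) (hP (CP (hm x.t)))).1 (sp _ hx _ (CP (hm _)) (e _).symm)).1, sub_self]
  obtain rfl := (two_iff (K := K) (p := p)).1 h2
  obtain ⟨τ, x, y, hx, hy, τ0, es, et, a, b, ha, hb, ab⟩ : ∃ τ x y, σ x = x ∧ σ y = y ∧ τ ≠ 0 ∧ d.s = x * τ ∧ d.t = y * τ ∧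
      ∃ a b, σ a = a ∧ σ b = b ∧ x * b + y * a = 1 := by
    by_cases s0 : d.s = 0
    · exact ⟨d.t, 0, 1, map_zero _, map_one _, fun e => nd ⟨dQ, s0, e⟩, by simp [s0], by simp, 1, 0, map_one _, map_zero _, by simp⟩
    obtain ⟨y, hy, e⟩ := (cr_eq_zero_two h2 s0).1 ((sq_r h2 dQ).symm.trans (mC hd).2.1.2.2.1)
    exact ⟨d.s, 1, y, map_one _, hy, s0, by simp, e, 0, 1, map_zero _, map_one _, by simp⟩
  have BQ : pB d.s d.t ≤ Q' (σ := σ) := fun _ e => e.1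
  have PB : P ≤ pB d.s d.t := fun g hg => ⟨hP hg, pd g hg⟩
  have i1 : Nat.card (Fx σ) ^ 2 ≤ (pB d.s d.t).relIndex (Q' (σ := σ)) := by
    choose z hz using fun r : perp σ {τ} => cr_range_two (σ := σ) (r := r) h2 τ0 (by rw [mul_comm]; exact r.2 τ rfl)
    rw [← card_perp1 τ0]
    refine card_le_relIndex (fun r => el (-a * z r) (b * z r)) (fun _ => el_mem ..) fun i j e => Subtype.ext ?_
    have := e.2
    rw [dv_s (el_mem ..) (el_mem ..), dv_t, el_s, el_s, el_t, el_t, es, et, ← mul_sub, ← mul_sub, cr_smul' hx, cr_smul hb, cr_smul hy,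
      cr_smul' (by simp [ha]), cr_comm _ τ, cr_sub, hz, hz] at this
    linear_combination ((j : K) - i) * ab - this
  have q2 := two_le_card (σ := σ)
  have m1 := relIndex_mul_relIndex P _ _ PB BQ
  by_cases BP : pB d.s d.t ≤ P
  · have zz : ∀ m ∈ C, ∃ e, σ e = e ∧ m.s = x * (e * τ) ∧ m.t = y * (e * τ) := fun m hm => by
      have k : ∀ s t, cr σ d.s t = cr σ s d.t → cr σ m.s t = cr σ s m.t := fun s t e => by
        simpa using (brV (el_mem s t) (hP (CP hm))).1 (br_symm ((mC hm).2.2 _ (BP ⟨el_mem s t, by simpa using e⟩)))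
      have k1 : y * m.s = x * m.t := sub_eq_zero.1 (cr_all_zero (σ := σ) fun z => by
        have := k (x * z) (y * z) (by rw [es, et, cr_smul' hx, cr_smul' hx, cr_smul hy, cr_smul hy, cr_comm])
        rw [cr_smul hy, cr_smul' hx, cr_comm z] at this
        rw [cr_comm, cr_sub, cr_smul hy, cr_smul hx, cr_comm z, cr_comm z, this, sub_self])
      have k2 := k τ 0 (by rw [et, cr_smul hy, cr0, cr_self, h2]; simp)
      have k3 := k 0 τ (by rw [es, cr_smul' hx, cr0', cr_self, h2]; simp)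
      rw [cr0] at k2; rw [cr0', cr_comm] at k3
      obtain ⟨e, he, e'⟩ := (cr_eq_zero_two (σ := σ) (t := b * m.s + a * m.t) h2 τ0).1 (by
        rw [cr_add, cr_smul hb, cr_smul ha, k3, ← k2]; simp)
      exact ⟨e, he, by linear_combination x * e' - m.s * ab + a * k1, by linear_combination y * e' - m.t * ab - b * k1⟩
    obtain ⟨f, hf⟩ := exists_tr_mul (σ := σ) τ0 (map_one σ)
    have i2 : sA.relIndex C ≤ Nat.card (Fx σ) :=
      relIndex_le_card (fun m => (⟨tr σ (f * (b * m.s + a * m.t)), σ_tr _⟩ : Fx σ)) fun m hm m' hm' e => by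
        obtain ⟨c, hc, e1, e2⟩ := zz m hm
        obtain ⟨c', hc', e3, e4⟩ := zz m' hm'
        have k : ∀ c, f * (b * (x * (c * τ)) + a * (y * (c * τ))) = c * (f * τ) := fun c => by linear_combination f * c * τ * ab
        rw [Subtype.ext_iff, e1, e2, e3, e4] at e
        simp only [k, tr_smul hc, tr_smul hc', hf, mul_one] at e
        exact (dvA (hP (CP hm)) (hP (CP hm'))).2 ⟨by rw [e1, e3, e], by rw [e2, e4, e]⟩
    have i3 := i1.trans (relIndex_le_of_le_left (L := Q') PB (rel_ne _ _))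
    have := (FF (by nlinarith)).eq
    nlinarith
  have i2 := q_le hA hP BQ (fun g hg c hc => one _ (el_mem ..) fun y hy => (brV (el_mem ..) (hP (CP hy))).2 (by
      rw [el_s, el_t, cr_smul hc, cr_smul' hc, (brV (hP hg) (hP (CP hy))).1 (br_symm ((mC hy).2.2 g hg))]))
    (fun g hg c hc => ⟨el_mem .., by rw [el_s, el_t, cr_smul hc, cr_smul' hc, hg.2]⟩) BP
  have i3 : Nat.card K ≤ P.relIndex Q' := by rw [card_K (σ := σ), ← m1, pow_succ']; exact Nat.mul_le_mul i2 i1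
  have m2 := relIndex_mul_relIndex _ _ _ hA hP
  have i4 := relIndex_le_of_le_right (H := sA) CP (rel_ne _ _)
  have i5 : sA.relIndex P ≤ Nat.card K := by
    rw [idx_Q'] at m2
    exact Nat.le_of_mul_le_mul_right ((Nat.mul_le_mul_left _ i3).trans m2.le) Nat.card_pos
  exact BP fun g hg => by_contra fun n => nd ((FF (i4.trans (i5.trans i3))).e2 g hg.1 n d hd ((brV hg.1 dQ).2 hg.2))

end CL.D3
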