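/-
S5261: essential subgroups of `Q'` with `V < Ω₁ Z(P) ≤ A₀`.
-/
import Cfsg.Agent.FUS.D3.EsB1

set_option autoImplicit false
set_option linter.unusedSimpArgs false
set_option linter.unusedSectionVars false

namespace CL.D3

open CL.Fus CL.RF4 Subgroup
open scoped commutatorElement

variable {K : Type*} [Field K] [Finite K] {σ : K →+* K} [T : Tri σ] {p : ℕ} [Fact p.Prime] [CharP K p] {P : Subgroup (U σ)}
  {A H : Set (U σ → U σ)}

namespace EsB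

open EsA

variable {g a : U σ} {M : Submodule (Fx σ) K}

theorem cA (hg : g ∈ Q') (ha : a ∈ sA) : g * a = a * g ↔ tr σ (a.r * g.s) = 0 ∧ tr σ (a.r * g.t) = 0 := by
  rw [← commutatorElement_eq_one_iff_mul_comm, br_Q'A hg ha]; csimp; simp [mul_comm]

/-- the elements of `Q'` with `s, t ∈ M` -/
def mB (M : Submodule (Fx σ) K) : Subgroup (U σ) where
  carrier := {g | g.u = 0 ∧ g.s ∈ M ∧ g.t ∈ M}
  mul_mem' {a b} ha hb := ⟨by rw [U.mul_u, ha.1, hb.1, add_zero], by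
    rw [U.mul_s, hb.1, zero_mul, add_zero]; exact add_mem ha.2.1 hb.2.1, add_mem ha.2.2 hb.2.2⟩
  one_mem' := ⟨rfl, zero_mem _, zero_mem _⟩
  inv_mem' {a} ha := ⟨by rw [U.inv_u, ha.1, neg_zero], by
    rw [U.inv_s, ha.1, zero_mul, add_zero]; exact neg_mem ha.2.1, neg_mem ha.2.2⟩

theorem card_sq (S : Set K) : Nat.card (S ×ˢ S : Set (K × K)) = Nat.card S * Nat.card S :=
  (Nat.card_congr (Equiv.Set.prod S S)).trans (Nat.card_prod _ _)

theorem idx_mB : sA.relIndex (mB M) = Nat.card M * Nat.card M := by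
  refine le_antisymm ((le_card' (C := mB M) (M := sA) ((M : Set K) ×ˢ (M : Set K)) (fun g => (g.s, g.t)) (fun m hm => hm.2)
    fun m hm m' hm' e => (dvA hm.1 hm'.1).2 (Prod.ext_iff.1 e)).trans (card_sq _).le) ?_
  rw [← Nat.card_prod]
  exact card_le_relIndex (fun x : M × M => el x.1 x.2) (fun x => ⟨el_mem .., by simp, by simp⟩) fun i j e => by
    simpa [Prod.ext_iff] using (dvA (el_mem ..) (el_mem ..)).1 e

theorem cr_perp (h2 : (2 : K) = 0) (hM : M ≠ ⊤) {x y : K} (hx : x ∈ M) (hy : y ∈ M) : cr σ x y ∈ perp σ (M : Set K) := fun z hz => by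
  rcases sub_cases M with rfl | ⟨τ, -, h⟩ | ⟨a, b, -, h, -⟩ | rfl
  · simp [show z = 0 from hz]
  · obtain ⟨c, hc, rfl⟩ := (h x).1 hx
    obtain ⟨c', hc', rfl⟩ := (h y).1 hy
    rw [cr_smul hc', cr_smul' hc, cr_self, h2]; simp
  · obtain ⟨c1, e1, h1, k1, rfl⟩ := (h x).1 hx
    obtain ⟨c2, e2, h3, k2, rfl⟩ := (h y).1 hy
    obtain ⟨c3, e3, h4, k3, rfl⟩ := (h z).1 hz
    have : tr σ (cr σ (c1 * a + e1 * b) (c2 * a + e2 * b) * (c3 * a + e3 * b)) = 2 * (c1 * c2 * c3 * tr σ (a * sh σ a) +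
        (c1 * c2 * e3 + c1 * e2 * c3 + e1 * c2 * c3) * tr σ (b * sh σ a) + (c1 * e2 * e3 + e1 * c2 * e3 + e1 * e2 * c3) * tr σ (a * sh σ b) +
        e1 * e2 * e3 * tr σ (b * sh σ b)) := by
      asimp; simp only [h1, h3, h4, k1, k2, k3]; ring
    rw [this, h2, zero_mul]
  · exact absurd rfl hM

end EsB

open EsA EsB

/-- Proof. `M = span {g.s, g.t | g ∈ P}`, `K₀ = perp σ M`; `O = Omp p P = {a ∈ sA | a.r ∈ K₀}` (`br_Q'A`, `pow_sA`, `perp_span`), `K₀ ≠ ⊥` by `hO'`, so `M ≠ ⊤`. `B = {g ∈ Q' | g.s ∈ M ∧ g.t ∈ M} = C_{Q'}(O)` (`perp_perp`), a subgroup, `P ≤ B`. `m = |K| / |M| = |K₀| ≥ q ≥ p` (`card_perp`, `p_le_card`).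
Case `B ≤ P`: `ff2` with `G = Q'`, `B := ⊥`, `C = O`, `M := sV` (`tr_nondeg`): `|O : V| = |K₀| = m`, `|Q' : P| = m²` (at least: `card_le_relIndex` on `(K ⧸ M)²`, or `relIndex_eq_ncard` with `(mkQ s, mkQ t)`); an element centralising `O ≥ V` is in `Q'` (`br_V`), so in `B`. `eq` says `m = m²`, false.
Case `¬ B ≤ P`: `C = Omq p P O _ ≥ sA`; for `g, g' ∈ Q'`, `⁅g, g'⁆ ∈ O ↔ β g g' := g'.s × g.t - g.s × g'.t ∈ K₀`. (1) `g ∈ B` with `⁅g, C⁆ ≤ O` is in `P` (`Cx.mem3`, `D = sA`). So `P̃ = {(s, t)}` of `P` is the `β`-complement of `D = C̃` in `M²`, an `F`-subspace, proper.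
For `p = 2`: `a × b ∈ K₀` for all `a, b ∈ M` (`sub_cases`; `T(m (a × b))` is alternating trilinear on a space of dimension `≤ 2`: `tr_cr`, `cr_self`), so `B ≤ P` by (1): contradiction. Let `p ≠ 2`.
Claim `|D| |P̃| ≤ |M|²`. True if `|P̃| ≤ |M|` (`D ⊆ P̃`). `M = ⊥`: `B = sA ≤ P`. `dim M = 1`: a proper subspace of `M²` has order `≤ q = |M|`. `dim M = 2`, `K₀ = F k`, `dim P̃ = 3`: take `0 ≠ (s₁, 0), (0, t₁) ∈ P̃` (dimension). For `a ≠ 0` the set `{m | a × m ∈ K₀}` is `F m_a` (`cr_surj`, `cr_inj`), so `D ⊆ F m₂ × F m₁`.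
If the span of `D` had dimension 2 it would contain `(0, m₁), (m₂, 0) ≠ 0`. For a nonzero `d` in the span of `D`, `d^⊥ ∩ M²` is a proper subspace containing `P̃` (proper: else `a × M ⊆ K₀` for `a ≠ 0`), so equal to `P̃`; `(0, m₁)^⊥ ⊇ 0 × M`, `(m₂, 0)^⊥ ⊇ M × 0`, so `P̃ = M²`, false. Hence `|D| ≤ q`.
So `ff1` with `G = B`, `B := O`, `C`, `M := C ⊓ {w | ⁅B, w⁆ ≤ O} ≥ sA` (e.g. `Zq B O _`; index `≤ |C : sA| = |D| ≤ |M|² / |P̃| = |B : P|`), chains `Chs.base`, `Chs.top`. `e3` for `g = y2 s`, `s ∉ M` (`⁅g, P⁆ ≤ sA ≤ P`): `a⁻¹ g ∈ P ≤ B`, `a ∈ B`, so `s ∈ M`. -/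
theorem esB1b (h : Cx p ⊤ P A H) (hP : P ≤ Q') (hA : sA ≤ P) (hO : Omp p P ≤ sA) (hO' : ¬ Omp p P ≤ sV) : False := by
  obtain ⟨M, hM⟩ : ∃ M, M = Submodule.span (Fx σ) {x | ∃ g ∈ P, x = g.s ∨ x = g.t} := ⟨_, rfl⟩
  have PB : P ≤ mB M := fun g hg =>
    ⟨hP hg, hM ▸ Submodule.subset_span ⟨g, hg, Or.inl rfl⟩, hM ▸ Submodule.subset_span ⟨g, hg, Or.inr rfl⟩⟩
  have BQ : mB M ≤ Q' := fun _ e => e.1
  have mO : ∀ {a}, a ∈ Omp p P ↔ a ∈ sA ∧ a.r ∈ perp σ (M : Set K) := fun {a} => ⟨fun ha => ⟨hO ha, by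
      rw [hM, perp_span]
      rintro _ ⟨g, hg, rfl | rfl⟩
      exacts [((cA (hP hg) (hO ha)).1 (ha.2.2 g hg).symm).1, ((cA (hP hg) (hO ha)).1 (ha.2.2 g hg).symm).2]⟩,
    fun ha => ⟨hA ha.1, pow_sA ha.1, fun y hy => ((cA (hP hy) ha.1).2 ⟨ha.2 _ (PB hy).2.1, ha.2 _ (PB hy).2.2⟩).symm⟩⟩
  have cB : ∀ g ∈ mB M, ∀ w ∈ Omp p P, g * w = w * g := fun g hg w hw =>
    (cA hg.1 (hO hw)).2 ⟨(mO.1 hw).2 _ hg.2.1, (mO.1 hw).2 _ hg.2.2⟩
  have cB' : ∀ g ∈ Q', (∀ w ∈ Omp p P, g * w = w * g) → g ∈ mB M := fun g hg e => by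
    have k := fun r (hr : r ∈ perp σ (M : Set K)) => (cA hg (a := y4 r) ⟨rfl, rfl, rfl⟩).1 (e _ (mO.2 ⟨⟨rfl, rfl, rfl⟩, hr⟩))
    exact ⟨hg, perp_perp M ▸ fun r hr => mul_comm r g.s ▸ (k r hr).1, perp_perp M ▸ fun r hr => mul_comm r g.t ▸ (k r hr).2⟩
  obtain ⟨k, hk, nk⟩ := SetLike.not_le_iff_exists.1 hO'
  have k0 : k.r ≠ 0 := fun e => nk ⟨(hO hk).1, (hO hk).2.1, e, (hO hk).2.2⟩
  obtain ⟨s, hs⟩ : ∃ s, s ∉ M := by
    by_contra! e
    exact k0 (tr_nondeg fun s => (mO.1 hk).2 s (e s))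
  have q2 := two_le_card (σ := σ)
  have f1 := finrank_perp M
  have f2 : Module.finrank (Fx σ) (perp σ (M : Set K)) ≠ 0 := fun e =>
    k0 (Submodule.mem_bot (Fx σ) |>.1 (Submodule.finrank_eq_zero.1 e ▸ (mO.1 hk).2))
  have f3 := Module.natCard_eq_pow_finrank (K := Fx σ) (V := M)
  have f4 := Module.natCard_eq_pow_finrank (K := Fx σ) (V := perp σ (M : Set K))
  have m0 : 0 < Nat.card M := Nat.card_pos
  have VO := h.V_le_Om hP
  by_cases BP : mB M ≤ P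
  · obtain rfl := le_antisymm PB BP
    have m1 := relIndex_mul_relIndex _ _ _ hA hP
    rw [idx_mB, idx_Q', ← card_perp M, mul_mul_mul_comm] at m1
    have m2 := Nat.eq_of_mul_eq_mul_left (Nat.mul_pos m0 m0) m1
    have i1 : sV.relIndex (Omp p (mB M)) ≤ Nat.card (perp σ (M : Set K)) :=
      le_card' (perp σ (M : Set K) : Set K) U.r (fun m hm => (mO.1 hm).2) fun m hm m' hm' e => (divA (hO hm) (hO hm')).2 e
    have i2 : Nat.card (Fx σ) ≤ Nat.card (perp σ (M : Set K)) := f4 ▸ Nat.le_self_pow f2 _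
    have i3 := p_le_card (σ := σ) (p := p)
    have := (h.ff2 Q' ⊥ (Omp p (mB M)) sV
      { le := bot_le, le' := fun _ e => e.1, ivB := h.iv_bot, ivC := iv_Omp h.toAu
        cen := fun x hx y hy => mem_bot.2 (commutatorElement_eq_one_iff_mul_comm.2 (hy.2.2 x hx).symm)
        exp := fun y hy => mem_bot.2 hy.2.1
        GP := le_top
        Gn := fun g hg y hy => hA (brA hg (hP hy))
        Gc := fun g hg y hy => hA (brA hg hy)
        Gp := fun g hg => hA (pow_mem_sA hg)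
        ne := fun e => hs (e (show y2 s ∈ Q' from rfl)).2.1
        hM := fun w hw => ⟨fun e g hg => mem_bot.2 (commutatorElement_eq_one_iff_mul_comm.2 (comm_V hg e)), fun e =>
          ⟨(hO hw).1, (hO hw).2.1, tr_nondeg fun s => ((cA (show y2 s ∈ Q' from rfl) (hO hw)).1
            (commutatorElement_eq_one_iff_mul_comm.1 (mem_bot.1 (e _ rfl)))).1, (hO hw).2.2⟩⟩
        idx := by nlinarith }
      (fun g _ _ e => cB' g (by
          have := congrArg U.v (mem_bot.1 (e (y5 1 (map_one _)) (VO ⟨rfl, rfl, rfl, rfl⟩)))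
          rw [br_V g ⟨rfl, rfl, rfl, rfl⟩] at this; simpa [mem_Q'] using this)
        fun w hw => commutatorElement_eq_one_iff_mul_comm.1 (mem_bot.1 (e w hw))) (by nlinarith)).eq
    nlinarith
  obtain ⟨C, hC⟩ : ∃ C, C = Omq p P (Omp p P) Omp_conj := ⟨_, rfl⟩
  have iC : Ivs P A C := hC ▸ iv_Omq h.toAu _ (iv_Omp h.toAu)
  have mC : ∀ {g}, g ∈ C → g ∈ P ∧ g ^ p ∈ Omp p P ∧ ∀ y ∈ P, ⁅g, y⁆ ∈ Omp p P := fun e => mem_Omq.1 (hC ▸ e)
  have CP : C ≤ P := fun _ e => (mC e).1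
  have AC : sA ≤ C := fun a ha => hC ▸ mem_Omq.2 ⟨hA ha, by rw [pow_sA ha]; exact one_mem _, fun y _ => br_symm (VO (brAV y ha))⟩
  have brO : ∀ {g g'}, g ∈ Q' → g' ∈ Q' → (⁅g, g'⁆ ∈ Omp p P ↔ cr σ g'.s g.t - cr σ g.s g'.t ∈ perp σ (M : Set K)) := fun hg hg' => by
    rw [mO, br_r' hg hg', and_iff_right (brA hg hg')]
  have one : ∀ g ∈ mB M, (∀ y ∈ C, ⁅g, y⁆ ∈ Omp p P) → g ∈ P := fun g hg e =>
    h.mem3 trivial (iv_Omp h.toAu) iC (fun y _ hy => cB g hg y hy) (fun y _ hy => e y hy) AC hA fun y hy => brA hg.1 (hP hy)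
  by_cases h2 : (2 : K) = 0
  · have k := fun {x y} => cr_perp (M := M) h2 (fun e => hs (e ▸ trivial)) (x := x) (y := y)
    exact BP fun g hg => one g hg fun y hy => (brO hg.1 (hP (CP hy))).2
      (sub_mem (k (PB (CP hy)).2.1 hg.2.2) (k hg.2.1 (PB (CP hy)).2.2))
  have pc : ∀ g ∈ P, ∀ w ∈ C, cr σ w.s g.t - cr σ g.s w.t ∈ perp σ (M : Set K) := fun g hg w hw =>
    (brO (hP hg) (hP (CP hw))).1 (br_symm ((mC hw).2.2 g hg))
  have idx : sA.relIndex C ≤ P.relIndex (mB M) := by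
    have m1 := relIndex_mul_relIndex _ _ _ hA PB
    rw [idx_mB] at m1
    have i1 := q_le hA hP BQ (fun g hg c hc => one _ ⟨el_mem .., by simpa using mul_mem_sub hc (PB hg).2.1, by
        simpa using mul_mem_sub hc (PB hg).2.2⟩ fun y hy => (brO (el_mem ..) (hP (CP hy))).2 (by
          rw [el_s, el_t, cr_smul hc, cr_smul' hc, ← mul_sub]; exact mul_mem_sub hc (pc g hg y hy)))
      (fun g hg c hc => ⟨el_mem .., by simpa using mul_mem_sub hc hg.2.1, by simpa using mul_mem_sub hc hg.2.2⟩) BP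
    have i2 := relIndex_le_of_le_right (H := sA) CP (rel_ne _ _)
    by_cases c1 : sA.relIndex P ≤ Nat.card M
    · refine i2.trans (c1.trans (Nat.le_of_mul_le_mul_left (m1.ge.trans (Nat.mul_le_mul_right _ c1)) m0))
    obtain ⟨g₁, h1, s1, t1⟩ : ∃ g ∈ P, g.s = 0 ∧ g.t ≠ 0 := by
      by_contra! e
      exact c1 (le_card' (M : Set K) U.s (fun m hm => (PB hm).2.1) fun m hm m' hm' e' =>
        have k : (m⁻¹ * m').s = 0 := by rw [dv_s (hP hm) (hP hm'), e', sub_self]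
        ⟨hP (mul_mem (inv_mem hm) hm'), k, e _ (mul_mem (inv_mem hm) hm') k⟩)
    obtain ⟨g₂, h2', t2, s2⟩ : ∃ g ∈ P, g.t = 0 ∧ g.s ≠ 0 := by
      by_contra! e
      exact c1 (le_card' (M : Set K) U.t (fun m hm => (PB hm).2.2) fun m hm m' hm' e' =>
        have k : (m⁻¹ * m').t = 0 := by rw [dv_t, e', sub_self]
        ⟨hP (mul_mem (inv_mem hm) hm'), e _ (mul_mem (inv_mem hm) hm') k, k⟩)
    have f5 : Module.finrank (Fx σ) M = 2 := by
      by_contra e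
      have : Nat.card M ≤ Nat.card (Fx σ) := f3 ▸ (Nat.pow_le_pow_right (by omega) (by omega)).trans (pow_one _).le
      exact c1 (Nat.le_of_mul_le_mul_right ((Nat.mul_le_mul_left _ (this.trans i1)).trans m1.le) m0)
    rw [show Module.finrank (Fx σ) (perp σ (M : Set K)) = 1 by omega, pow_one] at f4
    rw [f5, pow_two, ← f4] at f3
    by_cases w1 : ∀ w ∈ C, w.s = 0 → w.t = 0
    · refine (le_card' (perp σ (M : Set K) : Set K) (fun w => cr σ g₁.t w.s) (fun m hm => ?_) fun m hm m' hm' e' => ?_).trans (f4 ▸ i1)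
      · simpa [s1, cr0', cr_comm m.s] using pc _ h1 m hm
      · have k : (m⁻¹ * m').s = 0 := by rw [dv_s (hP (CP hm)) (hP (CP hm')), cr_cancel h2 t1 e', sub_self]
        exact ⟨hP (CP (mul_mem (inv_mem hm) hm')), k, w1 _ (mul_mem (inv_mem hm) hm') k⟩
    by_cases w2 : ∀ w ∈ C, w.t = 0 → w.s = 0
    · refine (le_card' (perp σ (M : Set K) : Set K) (fun w => cr σ g₂.s w.t) (fun m hm => ?_) fun m hm m' hm' e' => ?_).trans (f4 ▸ i1)
      · simpa [t2, cr0] using pc _ h2' m hm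
      · have k : (m⁻¹ * m').t = 0 := by rw [dv_t, cr_cancel h2 s2 e', sub_self]
        exact ⟨hP (CP (mul_mem (inv_mem hm) hm')), w2 _ (mul_mem (inv_mem hm) hm') k, k⟩
    push Not at w1 w2
    obtain ⟨w₁, a1, a2, a3⟩ := w1
    obtain ⟨w₂, b1, b2, b3⟩ := w2
    refine absurd ((le_card' ((perp σ (M : Set K) : Set K) ×ˢ (perp σ (M : Set K) : Set K)) (fun g => (cr σ w₁.t g.s, cr σ w₂.s g.t))
      (fun m hm => ⟨?_, ?_⟩) fun m hm m' hm' e => (dvA (hP hm) (hP hm')).2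
        ⟨cr_cancel h2 a3 (Prod.ext_iff.1 e).1, cr_cancel h2 b3 (Prod.ext_iff.1 e).2⟩).trans ((card_sq _).trans f3.symm).le) c1
    · simpa [a2, cr0', cr_comm m.s] using pc _ hm _ a1
    · simpa [b2, cr0] using pc _ hm _ b1
  have hn : ∀ y ∈ mB M, ∀ b ∈ Omp p P, y * b * y⁻¹ ∈ Omp p P := fun y hy b hb => by rwa [cB y hy b hb, mul_inv_cancel_right]
  obtain ⟨a, ha, e⟩ := (h.ff1 (mB M) (Omp p P) C (Zq (mB M) (Omp p P) hn)
    { le := hO.trans AC, le' := CP, ivB := iv_Omp h.toAu, ivC := iC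
      cen := fun x hx y hy => br_symm ((mC hy).2.2 x hx)
      exp := fun y hy => (mC hy).2.1
      GP := le_top
      Gn := fun g hg y hy => hA (brA hg.1 (hP hy))
      Gc := fun g hg y hy => hA (brA hg.1 hy.1)
      Gp := fun g hg => hA (pow_mem_sA hg.1)
      ne := BP
      hM := fun w hw => ⟨fun e g hg => br_symm (e.2 g hg), fun e => ⟨PB (CP hw), fun g hg => br_symm (e g hg)⟩⟩
      idx := (relIndex_le_of_le_left (H := sA) (K := Zq (mB M) (Omp p P) hn) (fun a ha => ⟨PB (hA ha), fun y _ => br_symm (VO (brAV y ha))⟩) (rel_ne _ _)).trans idx }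
    (Chs.base h.toAu (iv_Omp h.toAu) fun g hg y _ hy => cB g hg y hy) (Chs.top iC fun g hg y hy => AC (brA hg.1 (hP hy)))).e3
    (y2 s) trivial fun y hy => hA (brA rfl (hP hy))
  exact hs (show y2 s ∈ mB M by simpa using mul_mem ha (PB e)).2.1

end CL.D3
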