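/-
S5261: essential subgroups of `Q'` with `Ω₁ Z(P) ≰ A₀`.
-/
import Cfsg.Agent.FUS.D3.EsB1b

set_option autoImplicit false
set_option linter.unusedSimpArgs false
set_option linter.unusedSectionVars false

namespace CL.D3

open CL.Fus CL.RF4 Subgroup
open scoped commutatorElement

variable {K : Type*} [Field K] [Finite K] {σ : K →+* K} [T : Tri σ] {p : ℕ} [Fact p.Prime] [CharP K p] {P : Subgroup (U σ)}
  {A H : Set (U σ → U σ)}

namespace EsB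

theorem surj' {Ω κ : Type*} [Group Ω] {C M : Subgroup Ω} (S : Set κ) [Finite S] (φ : Ω → κ) (h0 : ∀ m ∈ C, φ m ∈ S)
    (h : ∀ m ∈ C, ∀ m' ∈ C, φ m = φ m' → m⁻¹ * m' ∈ M) (hc : Nat.card S ≤ M.relIndex C) {k : κ} (hk : k ∈ S) : ∃ m ∈ C, φ m = k := by
  have i : Function.Injective fun x : C ⧸ M.subgroupOf C => (⟨φ x.out, h0 _ x.out.2⟩ : S) := fun x y e => by
    rw [← x.out_eq, ← y.out_eq]; exact QuotientGroup.eq.2 (h _ x.out.2 _ y.out.2 (congrArg Subtype.val e))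
  obtain ⟨x, hx⟩ := (i.bijective_of_nat_card_le hc).2 ⟨k, hk⟩
  exact ⟨_, x.out.2, congrArg Subtype.val hx⟩

theorem three_ne (h2 : (2 : K) = 0) : (3 : K) ≠ 0 := fun e => one_ne_zero (by linear_combination e - h2 : (1 : K) = 0)

end EsB

open EsA EsB

/-- Proof. `⁅z, g⁆.r = -(z.s × g.t) = 0`. `p ≠ 2`: `cr_inj`. `p = 2`: `g.t = c z.s`; `z² = y3 (T(s r))`, so `T(s r) = 0`; `⁅z, g⁆.w = -T(r t) - T(s t^#) = -c² · 3 N(s)` (`br_w`), so `c = 0`. -/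
theorem cent_R {z g : U σ} (hz : z ∈ sR) (hz' : z ∉ sA) (hp : z ^ p = 1) (hg : g ∈ Q') (e : z * g = g * z) : g ∈ sR := by
  have s0 : z.s ≠ 0 := fun e => hz' ⟨hz.1, e, hz.2⟩
  have k := commutatorElement_eq_one_iff_mul_comm.2 e.symm
  have k1 : cr σ z.s g.t = 0 := by rw [← brR_r g hz, k]; rfl
  refine ⟨hg, ?_⟩
  by_cases h2 : (2 : K) = 0
  swap
  · exact (cr_inj h2 k1).resolve_left s0
  obtain ⟨c, hc, e1⟩ := (cr_eq_zero_two h2 s0).1 k1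
  have k2 := pow_Q (p := p) (sR_le_Q hz)
  rw [hp, if_pos (two_iff.1 h2), qf, hz.1, zero_mul, zero_add, U.one_v] at k2
  have k3 := br_w g z
  rw [k, hz.1, hz.2, e1, mul_left_comm, tr_smul hc, mul_comm z.r, ← k2, sh_mul, sh_fx hc, mul_left_comm, tr_smul (c := c ^ 2) (by simp [hc]),
    tr_mul_sh] at k3
  have : c ^ 2 * (3 * nm σ z.s) = 0 := by simpa [sh0, nm0] using k3.symm
  simpa [e1, s0, three_ne h2] using this

/-- apply `cent_R` to `wb z`, `wb g` (`isoOn_wb`) -/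
theorem cent_Ri {z g : U σ} (hz : z ∈ sRi) (hz' : z ∉ sA) (hp : z ^ p = 1) (hg : g ∈ Q') (e : z * g = g * z) : g ∈ sRi := by
  have k := isoOn_wb (σ := σ).hom
  have zQ := sRi_le_Q' hz
  exact ⟨hg, (cent_R (p := p) (z := wb z) (g := wb g) ⟨rfl, hz.2⟩ (fun e => hz' ⟨hz.1, hz.2, neg_eq_zero.1 e.2.1⟩)
    (by rw [← k.map_pow zQ, hp, k.map_one]) rfl (by rw [← k zQ hg, ← k hg zQ, e])).2⟩

/-- Proof. `O = Omp p P ≥ sV`. If some `z ∈ O ∖ sA` has `¬ Ind σ z.s z.t`, `(z.s, z.t) = (x τ, y τ)` (`not_ind`): `y = 0` gives `P ≤ sR ≤ Q` (`cent_R`); else conjugate by `y1 (x / y)` (`cj1_s`, `cj_mem_Omp`): `z` moves into `sRi`, `cent_Ri`, `esRi`.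
Otherwise all `z ∈ O ∖ sA` have `Ind σ z.s z.t`. `p = 2`: `(z ^ 2).r = z.s × z.t = 0`, against `cr_eq_zero_two`, `ind_iff`. `p ≠ 2`: `M₁ = span {z.s, z.t | z ∈ O}`; `a ∈ sA` lies in `P` iff it centralises `O` (`Cx.mem2`, `D = sV`) iff `a.r ∈ perp M₁`; `|sA : P ⊓ sA| = |K| / |perp M₁| = |M₁|` (`card_perp`).
`ff1` with `G = sA`, `B = ⊥`, `C = O`, `M = sA` (`C_{Q'}(sA) = sA`, `tr_nondeg`), chains `.refl`, `Chs.top`; `|O : O ⊓ sA| ≤ |M₁|` since `z ↦ z.t ∈ M₁` separates the cosets (`z ∈ O`, `z.t = 0` ⇒ `z ∈ sA` by `Ind.ne_right`). By `eq` and `surj_of_relIndex` every `t ∈ M₁` is `z.t`, `z ∈ O`.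
Fix `z₀ ∈ O ∖ sA`, `(s₀, t₀)`. `sub_cases M₁`: dimension `≤ 1` contradicts `Ind s₀ t₀`. Dimension 2: `M₁ = F s₀ + F t₀` (`Ind.perp_perp2`, `Ind.perp2`); take `z` with `z.t = s₀`, `z.s = x s₀ + y t₀`; `z.s × t₀ = s₀ × z.t` reads `x s₀ × t₀ + 2 y t₀^# = 2 s₀^#`, against `Ind.ind3`.
`M₁ = ⊤`: choose `φ t = z.s`; `graph_fx` gives `φ 1 ∈ F`, so `¬ Ind (φ 1) 1`. -/
theorem esB2 (h : Es p P) (hP : P ≤ Q') (hO : ¬ Omp p P ≤ sA) : P ≤ Q := by
  obtain ⟨A, H, h0⟩ := h.cy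
  have c := h0.toCx
  by_cases c1 : ∃ z ∈ Omp p P, z ∉ sA ∧ ¬ Ind σ z.s z.t
  · obtain ⟨z, hz, nz, n⟩ := c1
    obtain ⟨τ, x, y, hx, hy, e1, e2⟩ := not_ind n
    by_cases t0 : z.t = 0
    · exact fun g hg => sR_le_Q (cent_R ⟨hP hz.1, t0⟩ nz hz.2.1 (hP hg) (hz.2.2 g hg))
    have y0 : y ≠ 0 := fun e => t0 (by simp [e2, e])
    have hγ : σ (x / y) = x / y := by simp [hx, hy]
    obtain ⟨A', H', h'⟩ := h (y1 _ hγ)
    have hz' := (cj_mem_Omp (g := y1 _ hγ)).2 hz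
    exact (esRi h'.toCx fun g hg => cent_Ri ⟨by rw [cj1_u]; exact hP hz.1, by rw [cj1_s, e1, e2]; field_simp; ring⟩
      (fun e => t0 (cj1_t _ hγ z ▸ e.2.2)) hz'.2.1 (img_cj_le.2 hP hg) (hz'.2.2 g hg)).elim
  push Not at c1
  exfalso
  obtain ⟨z₀, hz, nz⟩ := SetLike.not_le_iff_exists.1 hO
  have i0 := c1 z₀ hz nz
  by_cases h2 : (2 : K) = 0
  · obtain rfl := (two_iff (K := K) (p := p)).1 h2
    exact (ind_iff i0.ne_left).1 i0 ((cr_eq_zero_two h2 i0.ne_left).1 (by rw [← sq_r h2 (hP hz.1), hz.2.1]; rfl))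
  obtain ⟨M, hM⟩ : ∃ M, M = Submodule.span (Fx σ) {x | ∃ g ∈ Omp p P, x = g.s ∨ x = g.t} := ⟨_, rfl⟩
  have ms : ∀ g ∈ Omp p P, g.s ∈ M := fun g hg => hM ▸ Submodule.subset_span ⟨g, hg, Or.inl rfl⟩
  have mt : ∀ g ∈ Omp p P, g.t ∈ M := fun g hg => hM ▸ Submodule.subset_span ⟨g, hg, Or.inr rfl⟩
  have VO := c.V_le_Om hP
  have VP : sV ≤ P := fun v hv => (VO hv).1
  have mA : ∀ a ∈ sA, a ∈ P → a.r ∈ perp σ (M : Set K) := fun a ha e => by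
    rw [hM, perp_span]
    rintro _ ⟨g, hg, rfl | rfl⟩
    exacts [((cA (hP hg.1) ha).1 (hg.2.2 a e)).1, ((cA (hP hg.1) ha).1 (hg.2.2 a e)).2]
  have cA' : ∀ w ∈ Q' (σ := σ), (∀ g ∈ sA, w * g = g * w) → w ∈ sA := fun w hw e =>
    ⟨hw, tr_nondeg fun s => mul_comm s w.s ▸ ((cA hw (a := y4 s) ⟨rfl, rfl, rfl⟩).1 (e _ ⟨rfl, rfl, rfl⟩)).1,
      tr_nondeg fun s => mul_comm s w.t ▸ ((cA hw (a := y4 s) ⟨rfl, rfl, rfl⟩).1 (e _ ⟨rfl, rfl, rfl⟩)).2⟩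
  have sp : ∀ m ∈ Omp p P, ∀ m' ∈ Omp p P, m.t = m'.t → m⁻¹ * m' ∈ sA := fun m hm m' hm' e => by_contra fun n =>
    (c1 _ (mul_mem (inv_mem hm) hm') n).ne_right (by rw [dv_t, e, sub_self])
  have i2 : Nat.card M ≤ P.relIndex sA := by
    have e1 := Submodule.card_eq_card_quotient_mul_card (perp σ (M : Set K))
    rw [← card_perp M, mul_comm] at e1
    rw [Nat.eq_of_mul_eq_mul_left Nat.card_pos e1]
    refine card_le_relIndex (fun i : K ⧸ perp σ (M : Set K) => y4 i.out) (fun _ => ⟨rfl, rfl, rfl⟩) fun i j e => ?_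
    have := mA _ (by msimp; usimp) e
    usimp at this
    rw [← i.out_eq, ← j.out_eq]
    exact (Submodule.quotientRel_def _).2 (by simpa [sub_eq_add_neg, add_comm] using neg_mem this) |> Quotient.sound
  have F := c.ff1 sA ⊥ (Omp p P) sA
    { le := bot_le, le' := fun _ e => e.1, ivB := c.iv_bot, ivC := iv_Omp c.toAu
      cen := fun x hx y hy => mem_bot.2 (commutatorElement_eq_one_iff_mul_comm.2 (hy.2.2 x hx).symm)
      exp := fun y hy => mem_bot.2 hy.2.1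
      GP := le_top
      Gn := fun g hg y _ => VP (br_symm (brAV y hg))
      Gc := fun g hg y _ => VP (br_symm (brAV y hg))
      Gp := fun g hg => pow_sA (p := p) hg ▸ one_mem _
      ne := fun e => nz (cA' _ (hP hz.1) fun g hg => hz.2.2 g (e hg))
      hM := fun w hw => ⟨fun e g hg => mem_bot.2 (commutatorElement_eq_one_iff_mul_comm.2 (comm_A hg e)), fun e =>
        cA' _ (hP hw.1) fun g hg => (commutatorElement_eq_one_iff_mul_comm.1 (mem_bot.1 (e g hg))).symm⟩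
      idx := (le_card' (M : Set K) U.t mt sp).trans i2 } .refl (Chs.top (iv_Omp c.toAu) fun g hg y _ => VO (br_symm (brAV y hg)))
  have sj := fun k (hk : k ∈ M) => surj' (M : Set K) U.t mt sp (F.eq ▸ i2) hk
  have cm : ∀ z ∈ Omp p P, ∀ z' ∈ Omp p P, cr σ z'.s z.t = cr σ z.s z'.t := fun z hz z' hz' =>
    (brV (hP hz.1) (hP hz'.1)).1 (by rw [commutatorElement_eq_one_iff_mul_comm.2 (hz.2.2 _ hz'.1)]; exact one_mem _)
  by_cases c2 : ∃ k ∈ perp σ (M : Set K), k ≠ 0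
  · obtain ⟨k, hk, k0⟩ := c2
    obtain ⟨e, he, ek⟩ := i0.perp2 (hk _ (ms _ hz)) (hk _ (mt _ hz))
    have e0 : e ≠ 0 := fun h => k0 (by simp [ek, h])
    obtain ⟨z, hz', et⟩ := sj _ (ms _ hz)
    obtain ⟨x, y, hx, hy, es⟩ := i0.perp_perp2 (s := z.s) fun r e1 e2 => by
      obtain ⟨f, hf, rfl⟩ := i0.perp2 e1 e2
      rw [show f * wd σ z₀.s z₀.t * z.s = f / e * (k * z.s) by rw [ek]; field_simp, tr_smul (by simp [he, hf]), hk _ (ms _ hz'), mul_zero]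
    have := cm z hz' z₀ hz
    rw [et, es, cr_self, cr_comm, cr_add, cr_smul hx, cr_smul hy, cr_self, cr_comm] at this
    exact h2 (i0.ind3 (x := 2) (y := -x) (z := -(2 * y)) (map_ofNat _ _) (by simp [hx]) (by simp [hy, map_ofNat])
      (by linear_combination this)).1
  push Not at c2
  choose m hm e using fun t => sj t (perp_perp M ▸ fun r hr => by simp [c2 r hr])
  have k := (graph_fx h2 (fun t => (m t).s) fun t t' => by simpa only [e] using cm _ (hm t') _ (hm t)).1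
  exact one_ne_zero (c1 _ (hm 1) (fun n => one_ne_zero (e 1 ▸ n.2.2)) 1 (-(m 1).s) (map_one _) (by simp [k]) (by simp [e])).1

end CL.D3
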