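/-
S5261: essential subgroups outside `Q` and `Q'` contain `A₀`.
-/
import Cfsg.Agent.FUS.D3.EsB2
import Cfsg.Agent.FUS.D3.Aut

set_option autoImplicit false
set_option linter.unusedSimpArgs false
set_option linter.unusedSectionVars false

namespace CL.D3

open CL.Fus CL.RF4 Subgroup
open scoped commutatorElement

variable {K : Type*} [Field K] [Finite K] {σ : K →+* K} [T : Tri σ] {p : ℕ} [Fact p.Prime] [CharP K p] {P : Subgroup (U σ)}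
  {A H : Set (U σ → U σ)}

open EsA EsB

namespace EsC

theorem cent_t {z g : U σ} (hz : z ∈ sR) (s0 : z.s ≠ 0) (hp : z ^ p = 1) (e : z * g = g * z) : g.t = 0 := by
  have k := commutatorElement_eq_one_iff_mul_comm.2 e.symm
  have k1 : cr σ z.s g.t = 0 := by rw [← brR_r g hz, k]; rfl
  by_cases h2 : (2 : K) = 0
  swap
  · exact (cr_inj h2 k1).resolve_left s0
  obtain ⟨c, hc, e1⟩ := (cr_eq_zero_two h2 s0).1 k1
  have k2 := pow_Q (p := p) (sR_le_Q hz)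
  rw [hp, if_pos (two_iff.1 h2), qf, hz.1, zero_mul, zero_add, U.one_v] at k2
  have k3 := br_w g z
  rw [k, hz.1, hz.2, e1, mul_left_comm, tr_smul hc, mul_comm z.r, ← k2, sh_mul, sh_fx hc, mul_left_comm, tr_smul (c := c ^ 2) (by simp [hc]),
    tr_mul_sh] at k3
  have : c ^ 2 * (3 * nm σ z.s) = 0 := by simpa [sh0, nm0] using k3.symm
  simpa [e1, s0, three_ne h2] using this

theorem sq_s (h2 : (2 : K) = 0) (g : U σ) : (g ^ 2).s = g.u * g.t := by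
  rw [pow_two, U.mul_s]; linear_combination g.s * h2

theorem brAZ {g a : U σ} (ha : a ∈ sA) : ⁅g, a⁆ ∈ sZ ↔ tr σ (a.r * g.t) = 0 := by
  have k := AutA.br_A g ha
  rw [mem_sZ, k.2]; simp only [k.1.1, k.1.2.1, k.1.2.2.1, k.1.2.2.2, true_and, and_true]

end EsC

open EsC

theorem exists_ut (hQ : ¬ P ≤ Q) (hQ' : ¬ P ≤ Q') : ∃ g ∈ P, g.u ≠ 0 ∧ g.t ≠ 0 := by
  obtain ⟨g, hg, n⟩ := SetLike.not_le_iff_exists.1 hQ
  obtain ⟨g', hg', n'⟩ := SetLike.not_le_iff_exists.1 hQ'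
  by_cases c1 : g.u = 0
  · by_cases c2 : g'.t = 0
    · exact ⟨g * g', mul_mem hg hg', by rwa [U.mul_u, c1, zero_add], by rwa [U.mul_t, c2, add_zero]⟩
    · exact ⟨g', hg', n', c2⟩
  · exact ⟨g, hg, c1, n⟩

/-- The line case. `aut_form` (`q ≠ 2` as `p ≠ 2`: else `F = {0, 1}` (`fx_two`) contains `-1`): `a ρ c = -c` on `F`, so `a = -1`, `ρ = 1` on `F`; `d ρ τ = -τ`; norms: `N(d) = -1`. On `Z`: `a² N(d) = -1`. On `A₀ / V`: `-d^# ρ r = r` gives `-N(d)² N(r) = N(r)`, so `2 N(r) = 0`. -/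
theorem line_aut (hp : p ≠ 2) (α : MulAut (U σ)) {τ : K} (hτ : τ ≠ 0)
    (h : ∀ c, σ c = c → ∃ g : U σ, g.u = c ∧ g.t = τ * c ∧ (α g).u = -c ∧ (α g).t = -(τ * c)) :
    (∀ z ∈ sZ, (α z).v = -z.v) ∧ ∀ y ∈ sA, (α y).r = y.r → y.r = 0 := by
  have h2 : (2 : K) ≠ 0 := mt two_iff.1 hp
  obtain ⟨a, d, ρ, ok, sm⟩ := aut_form (fun hq => by
    rcases fx_two (σ := σ) (c := -1) hq (by simp) with e | e
    · simp at e
    · exact h2 (by linear_combination -e)) α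
  have k : ∀ c, σ c = c → a * ρ c = -c ∧ d * ρ (τ * c) = -(τ * c) := fun c hc => by
    obtain ⟨g, e1, e2, e3, e4⟩ := h c hc
    exact ⟨by rw [← e3, (sm g).1, dd_u, e1], by rw [← e4, (sm g).2.1, dd_t, e2]⟩
  obtain rfl : a = -1 := by simpa using (k 1 (map_one _)).1
  have k1 : ∀ c, σ c = c → ρ c = c := fun c hc => by simpa using (k c hc).1
  have k2 : ∀ x, nm σ (ρ x) = nm σ x := fun x => by rw [← map_nm, k1 _ (σ_nm _)]
  have k3 : nm σ d = -1 := by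
    have := congrArg (nm σ) (k 1 (map_one _)).2
    rw [mul_one, nm_mul, k2, ← neg_one_mul τ, nm_mul, nm_fx (c := -1) (by simp)] at this
    rw [mul_right_cancel₀ (mt nm_eq_zero.1 hτ) this]; ring
  refine ⟨fun z hz => by rw [(sm z).2.2.2.2.2 hz, dd_v, k3, k1 _ z.hv]; ring, fun y hy e => ?_⟩
  rw [(sm y).2.2.2.1 hy, dd_r] at e
  have := congrArg (nm σ) e
  rw [nm_mul, nm_mul, k2, nm_fx (c := -1) (by simp), show nm σ (sh σ d) = nm σ d ^ 2 by asimp; ring, k3] at this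
  exact nm_eq_zero.1 ((mul_eq_zero.1 (show 2 * nm σ y.r = 0 by linear_combination -this)).resolve_left h2)

/-- Proof. `O = Omp p P ≥ sZ`. Suppose `z ∈ O`, `z.u ≠ 0`; then `g.t = τ g.u` on `P` (`br_s`), `τ = z.t / z.u ≠ 0`. `p = 2`: `(z ^ 2).s = z.u z.t ≠ 0`. `p ≠ 2`: `P ⊓ sV = sZ` (`br_V`). `ff1` with `G = sV`, `B = ⊥`, `C = O`, `M = Q'` (`|O : O ⊓ Q'| ≤ |F| ≤ |V : V ⊓ P|`: `relIndex_le_card` with `g ↦ (⟨g.u, g.hu⟩ : Fx σ)`, `card_le_relIndex` with `y5`), chains `.refl`, `Chs.top` (`sZ ≤ O`).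
`eq`, `surj_of_relIndex`: every `c ∈ F` is `z_c.u`, `z_c ∈ O`. `e5`, `ext`: `h = α` on `P`, `(α z_c).u = -c`, `α z_c ∈ P`; `line_aut`. Take `r ≠ 0` with `T(r τ) = 0` (`exists_perp2`): `⁅y4 r, P⁆ ≤ sZ`; `e3`: `y = v⁻¹ y4 r ∈ P ⊓ sA`, `y.r = r`.
`P ⊓ Q' ≤ sA` (`t = 0`; commute with `z_1`: `s × τ = 0`, `cr_inj`). `y ∈ O`: `g = z_c (z_c⁻¹ g)`, `comm_A`, `pow_sA`. Third clause of `e5` with `D = sZ`: `y⁻¹ α y ∈ sZ`, so `(α y).r = r`, `r = 0`.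
So `O ≤ Q'`. For `z ∈ O` and `g ∈ P` with `u, t ≠ 0`: `z.t = 0` (`br_s`), `z.s × g.t = 0` (`br_r`). `p ≠ 2`: `z.s = 0`. `p = 2`: if `z.s ≠ 0`, `g.t = c z.s`, `T(z.s z.r) = (z ^ 2).v = 0`, `br_w`: `c² · 3 N(z.s) = 0`, false. -/
theorem Om_le (h : Cy p P A H) (hQ : ¬ P ≤ Q) (hQ' : ¬ P ≤ Q') : Omp p P ≤ sA := by
  have c := h.toCx
  obtain ⟨g₀, h0, u0, t0⟩ := exists_ut hQ hQ'
  have ZO := c.Z_le_Om
  have ZP : sZ ≤ P := fun z hz => (ZO hz).1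
  have b1 : ∀ z ∈ Omp p P, ∀ g ∈ P, ⁅z, g⁆ = 1 := fun z hz g hg => commutatorElement_eq_one_iff_mul_comm.2 (hz.2.2 g hg)
  have bs : ∀ z ∈ Omp p P, ∀ g ∈ P, g.u * z.t = z.u * g.t := fun z hz g hg => sub_eq_zero.1 (by rw [← br_s, b1 z hz g hg]; rfl)
  have OQ : ∀ z ∈ Omp p P, z.u = 0 := fun z hz => by_contra fun zu => by
    have zt : z.t ≠ 0 := fun e => mul_ne_zero zu t0 (by rw [← bs z hz _ h0, e, mul_zero])
    by_cases h2 : (2 : K) = 0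
    · obtain rfl := (two_iff (K := K) (p := p)).1 h2
      exact mul_ne_zero zu zt (by rw [← sq_s h2, hz.2.1]; rfl)
    have hp : p ≠ 2 := mt two_iff.2 h2
    have ln : ∀ g ∈ P, g.t = z.t / z.u * g.u := fun g hg => by field_simp; linear_combination -bs z hz g hg
    have PV : ∀ v ∈ sV, v ∈ P → v.w = 0 := fun v hv e => by
      have := congrArg U.v (b1 z hz v e)
      rw [br_V z hv] at this; simpa [zu] using this
    have sp : ∀ m ∈ Omp p P, ∀ m' ∈ Omp p P, (⟨m.u, m.hu⟩ : Fx σ) = ⟨m'.u, m'.hu⟩ → m⁻¹ * m' ∈ Q' := fun m _ m' _ e => by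
      rw [mem_Q', U.mul_u, U.inv_u, show m.u = m'.u from congrArg Subtype.val e, neg_add_cancel]
    have i2 : Nat.card (Fx σ) ≤ P.relIndex sV :=
      card_le_relIndex (fun c : Fx σ => y5 c (σ_coe c)) (fun _ => ⟨rfl, rfl, rfl, rfl⟩) fun i j e => by
        have := PV _ (by msimp; usimp) e
        usimp at this; exact Subtype.ext (neg_add_eq_zero.1 this)
    have F := c.ff1 sV ⊥ (Omp p P) Q'
      { le := bot_le, le' := fun _ e => e.1, ivB := c.iv_bot, ivC := iv_Omp c.toAu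
        cen := fun x hx y hy => br_symm (mem_bot.2 (b1 y hy x hx))
        exp := fun y hy => mem_bot.2 hy.2.1
        GP := le_top
        Gn := fun g hg y _ => ZP (br_symm (brVZ y hg))
        Gc := fun g hg y _ => ZP (br_symm (brVZ y hg))
        Gp := fun g hg => pow_sA (p := p) (sV_le_sA hg) ▸ one_mem _
        ne := fun e => one_ne_zero (PV (y5 1 (map_one _)) ⟨rfl, rfl, rfl, rfl⟩ (e ⟨rfl, rfl, rfl, rfl⟩))
        hM := fun w _ => ⟨fun e g hg => mem_bot.2 (commutatorElement_eq_one_iff_mul_comm.2 (comm_V e hg).symm), fun e => by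
          have := congrArg U.v (mem_bot.1 (br_symm (e (y5 1 (map_one _)) ⟨rfl, rfl, rfl, rfl⟩)))
          rw [br_V w ⟨rfl, rfl, rfl, rfl⟩] at this; simpa [mem_Q'] using this⟩
        idx := (relIndex_le_card _ sp).trans i2 } .refl (Chs.top (iv_Omp c.toAu) fun g hg y _ => ZO (br_symm (brVZ y hg)))
    choose m hm em using surj_of_relIndex _ sp (F.eq ▸ i2)
    have em' : ∀ c (hc : σ c = c), (m ⟨c, hc⟩).u = c := fun c hc => congrArg Subtype.val (em ⟨c, hc⟩)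
    obtain ⟨f, hf, fA, e1, -, e3, -⟩ := F.e5 hp
    obtain ⟨α, hα⟩ := h.ext hQ hQ' f hf
    have L := (line_aut hp α (div_ne_zero zt zu) fun x hx => by
      have k : (α (m ⟨x, hx⟩)).u = -x := by
        have := e1 _ (hm ⟨x, hx⟩)
        rw [mem_Q', U.mul_u, em', hα _ (hm _).1] at this; linear_combination this
      exact ⟨m ⟨x, hx⟩, em' .., by rw [ln _ (hm _).1, em'], k, by rw [ln _ (hα _ (hm _).1 ▸ c.maps f fA _ (hm _).1), k, mul_neg]⟩).2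
    obtain ⟨r, r0, er, -⟩ := exists_perp2 (σ := σ) (z.t / z.u) 0
    obtain ⟨a, ha, yP⟩ := F.e3 (y4 r) trivial fun y hy => ZP (br_symm ((brAZ ⟨rfl, rfl, rfl⟩).2 (by
      rw [ln y hy, y4_r, ← mul_assoc, mul_comm, tr_smul y.hu, er, mul_zero])))
    have yA : a⁻¹ * y4 r ∈ sA := mul_mem (inv_mem (sV_le_sA ha)) ⟨rfl, rfl, rfl⟩
    have yr : (a⁻¹ * y4 r).r = r := by msimp at ha; csimp; simp only [ha]; usimp
    generalize a⁻¹ * y4 r = y at yP yA yr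
    have PA : ∀ g ∈ P, g.u = 0 → g ∈ sA := fun g hg e => by
      have gt : g.t = 0 := by rw [ln g hg, e, mul_zero]
      exact ⟨e, (cr_inj (σ := σ) h2 (by rw [← brR_r z ⟨e, gt⟩, b1 z hz g hg]; rfl)).resolve_right zt, gt⟩
    have yO : y ∈ Omp p P := ⟨yP, pow_sA yA, fun g hg => by
      have k := hm ⟨g.u, g.hu⟩
      have k1 := comm_A yA (PA _ (mul_mem (inv_mem k.1) hg) (by rw [U.mul_u, U.inv_u, em', neg_add_cancel]))
      rw [← mul_inv_cancel_left (m ⟨g.u, g.hu⟩) g, ← mul_assoc y, ← k.2.2 y yP, mul_assoc, k1, ← mul_assoc]⟩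
    have := e3 sZ bot_le (fun g hg w _ => br_symm (brVZ w hg)) y yO yA.1
    rw [hα y yP] at this
    exact r0 (yr ▸ L y yA ((divA yA (AutA.mA α yA)).1 (sZ_le_sV this)).symm)
  intro z hz
  have zt : z.t = 0 := by simpa [OQ z hz, u0] using bs z hz _ h0
  exact ⟨OQ z hz, by_contra fun s0 => t0 (cent_t ⟨OQ z hz, zt⟩ s0 hz.2.1 (hz.2.2 _ h0)), zt⟩

/-- Proof. `O ≤ sA`; `sV ≤ P` (`Cx.mem2`, `B = O`, `D = sZ`); `O ⊓ sV = sZ` (`br_V` with `g.u ≠ 0`). `Y = Omq p P O _ ≥ sV`. For `a ∈ sA`, `g` arbitrary: `⁅a, g⁆ ∈ sV` with `w = -T(a.r g.t)`. If `Y ≤ Q`: `Cx.mem3` (chain `O < Y`, `D = sV`, `br_Q`).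
Else `y ∈ Y`, `y.t ≠ 0`; `⁅y, g⁆.s = 0` on `P` gives `y.u ≠ 0`, `g.t = τ g.u` on `P`. `p = 2`: `(y ^ 2).s ≠ 0` but `y ^ 2 ∈ O`. `p ≠ 2`: `a ∈ sA ⊓ P` has `⁅a, y⁆ ∈ O ⊓ sV`, so `T(a.r y.t) = 0`; hence `|sA : sA ⊓ P| ≥ |F|` (`c ↦ y4 (c r₀)`, `T(r₀ y.t) = 1`).
`ff1` with `G = sA`, `B = O`, `C = Y`, `M = Q` (`w ∈ Y`: `⁅sA, w⁆ ≤ O ↔ w.t = 0`; index `≤ |F|` through `u`), chains `Chs.base`, `Chs.top`. `eq`: `u : Y → F` onto; `e5`, `ext`: `w * α w ∈ Q`, so `(α w).t = -w.t`, `(α w).u = -w.u`; `line_aut`: `α` inverts `Z`;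
the last clause of `e5` with `D₁ = ⊥`, `D₂ = O`: `α` fixes `y3 1`. So `2 = 0`. -/
theorem A_le' (h : Cy p P A H) (hQ : ¬ P ≤ Q) (hQ' : ¬ P ≤ Q') : sA ≤ P := by
  have c := h.toCx
  have hO := Om_le h hQ hQ'
  obtain ⟨g₀, h0, u0, t0⟩ := exists_ut hQ hQ'
  have ZO := c.Z_le_Om
  have iO := iv_Omp (p := p) c.toAu
  have VP : sV ≤ P := fun v hv => c.mem2 trivial iO (fun y _ hy => comm_A (sV_le_sA hv) (hO hy)) ZO (fun z hz => (ZO hz).1)
    fun y _ => br_symm (brVZ y hv)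
  have OV : ∀ v ∈ sV, v ∈ Omp p P → v ∈ sZ := fun v hv e => by
    have := congrArg U.v (commutatorElement_eq_one_iff_mul_comm.2 (e.2.2 _ h0).symm)
    rw [br_V g₀ hv] at this
    exact ⟨hv.1, hv.2.1, hv.2.2.1, by simpa [u0] using this, hv.2.2.2⟩
  obtain ⟨Y, hY⟩ : ∃ C, C = Omq p P (Omp p P) Omp_conj := ⟨_, rfl⟩
  have iY : Ivs P A Y := hY ▸ iv_Omq c.toAu _ iO
  have mY : ∀ {g}, g ∈ Y → g ∈ P ∧ g ^ p ∈ Omp p P ∧ ∀ y ∈ P, ⁅g, y⁆ ∈ Omp p P := fun e => mem_Omq.1 (hY ▸ e)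
  have VY : sV ≤ Y := fun a ha =>
    hY ▸ mem_Omq.2 ⟨VP ha, by rw [pow_sA (sV_le_sA ha)]; exact one_mem _, fun y _ => br_symm (ZO (brVZ y ha))⟩
  have AQ : sA ≤ Q (σ := σ) := sA_le_sR.trans sR_le_Q
  by_cases YQ : Y ≤ Q
  · exact fun a ha => c.mem3 trivial iO iY (fun y _ hy => comm_A ha (hO hy)) (fun y _ hy => ZO (brQZ (AQ ha) (YQ hy))) VY VP
      fun y _ => br_symm (brAV y ha)
  obtain ⟨z, hz, zt⟩ := SetLike.not_le_iff_exists.1 YQ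
  have bs : ∀ g ∈ P, g.u * z.t = z.u * g.t := fun g hg => sub_eq_zero.1 (by rw [← br_s]; exact (hO ((mY hz).2.2 g hg)).2.1)
  have zu : z.u ≠ 0 := fun e => mul_ne_zero u0 zt (by rw [bs _ h0, e, zero_mul])
  by_contra ne
  by_cases h2 : (2 : K) = 0
  · obtain rfl := (two_iff (K := K) (p := p)).1 h2
    exact mul_ne_zero zu zt (by rw [← sq_s h2]; exact (hO (mY hz).2.1).2.1)
  have hp : p ≠ 2 := mt two_iff.2 h2
  have ln : ∀ g ∈ P, g.t = z.t / z.u * g.u := fun g hg => by field_simp; linear_combination -bs g hg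
  have sp : ∀ m ∈ Y, ∀ m' ∈ Y, (⟨m.u, m.hu⟩ : Fx σ) = ⟨m'.u, m'.hu⟩ → m⁻¹ * m' ∈ Q := fun m hm m' hm' e => by
    rw [mem_Q, dv_t, ln _ (mY hm).1, ln _ (mY hm').1, show m.u = m'.u from congrArg Subtype.val e, sub_self]
  have i2 : Nat.card (Fx σ) ≤ P.relIndex sA := by
    obtain ⟨r, hr⟩ := exists_tr_mul (σ := σ) zt (map_one σ)
    refine card_le_relIndex (fun c : Fx σ => y4 (c * r)) (fun _ => ⟨rfl, rfl, rfl⟩) fun i j e => ?_
    have k : (y4 (i * r))⁻¹ * y4 (j * r) ∈ sA (σ := σ) := mul_mem (inv_mem ⟨rfl, rfl, rfl⟩) ⟨rfl, rfl, rfl⟩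
    have := (brAZ k).1 (OV _ (brAV _ k) ((mY hz).2.2 _ e))
    rw [show ((y4 (i * r))⁻¹ * y4 (j * r) : U σ).r = (j - i) * r by usimp; ring, mul_assoc, tr_smul (by simp), hr, mul_one] at this
    exact Subtype.ext (sub_eq_zero.1 this).symm
  have F := c.ff1 sA (Omp p P) Y Q
    { le := fun w hw => hY ▸ mem_Omq.2 ⟨hw.1, by rw [hw.2.1]; exact one_mem _, fun y hy => by
        rw [commutatorElement_eq_one_iff_mul_comm.2 (hw.2.2 y hy)]; exact one_mem _⟩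
      le' := fun _ e => (mY e).1, ivB := iO, ivC := iY
      cen := fun x hx y hy => br_symm ((mY hy).2.2 x hx)
      exp := fun y hy => (mY hy).2.1
      GP := le_top
      Gn := fun g hg y _ => VP (br_symm (brAV y hg))
      Gc := fun g hg y _ => VP (br_symm (brAV y hg))
      Gp := fun g hg => pow_sA (p := p) hg ▸ one_mem _
      ne := ne
      hM := fun w _ => ⟨fun e g hg => ZO (brQZ (AQ hg) e), fun e => tr_nondeg (σ := σ) fun r => mul_comm r w.t ▸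
        (brAZ (a := y4 r) ⟨rfl, rfl, rfl⟩).1 (OV _ (brAV _ ⟨rfl, rfl, rfl⟩) (br_symm (e _ ⟨rfl, rfl, rfl⟩)))⟩
      idx := (relIndex_le_card _ sp).trans i2 } (Chs.base c.toAu iO fun g hg y _ hy => comm_A hg (hO hy))
    (Chs.top iY fun g hg y _ => VY (br_symm (brAV y hg)))
  choose m hm em using surj_of_relIndex _ sp (F.eq ▸ i2)
  have em' : ∀ c (hc : σ c = c), (m ⟨c, hc⟩).u = c := fun c hc => congrArg Subtype.val (em ⟨c, hc⟩)
  obtain ⟨f, hf, fA, e1, -, -, e4⟩ := F.e5 hp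
  obtain ⟨α, hα⟩ := h.ext hQ hQ' f hf
  have L := (line_aut hp α (div_ne_zero zt zu) fun x hx => by
    have mP := (mY (hm ⟨x, hx⟩)).1
    have k0 : (m ⟨x, hx⟩).t = z.t / z.u * x := by rw [ln _ mP, em']
    have k : (α (m ⟨x, hx⟩)).t = -(z.t / z.u * x) := by
      have := e1 _ (hm ⟨x, hx⟩)
      rw [mem_Q, U.mul_t, k0, hα _ mP] at this; linear_combination this
    exact ⟨m ⟨x, hx⟩, em' .., k0, mul_left_cancel₀ (div_ne_zero zt zu) (by rw [← ln _ (hα _ mP ▸ c.maps f fA _ mP), k, mul_neg]), k⟩).1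
  have z3 : y3 1 (map_one σ) ∈ sZ := ⟨rfl, rfl, rfl, rfl, rfl⟩
  have := mem_bot.1 (e4 ⊥ (Omp p P) ⟨c.iv_bot, iO, fun g hg y _ hy => mem_bot.2 (commutatorElement_eq_one_iff_mul_comm.2
    (comm_A hg (hO hy)))⟩ _ (ZO z3).1 (ZO z3))
  have k := L _ z3
  rw [← hα _ (ZO z3).1, ← inv_mul_eq_one.1 this, y3_v] at k
  exact h2 (by linear_combination k)

end CL.D3
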