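/-
S5261: `A₀ ≤ P`, `P ≰ Q, Q'`, `Z` invariant: `P = S`.
-/
import Cfsg.Agent.FUS.D3.EsA
import Cfsg.Agent.FUS.D3.Aut

set_option autoImplicit false
set_option linter.unusedSimpArgs false
set_option linter.unusedSectionVars false

namespace CL.D3

open CL.Fus CL.RF4 Subgroup
open scoped commutatorElement

variable {K : Type*} [Field K] [Finite K] {σ : K →+* K} [T : Tri σ] {p : ℕ} [Fact p.Prime] [CharP K p] {P : Subgroup (U σ)}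
  {A H : Set (U σ → U σ)}

namespace C3

open AutA EsA

variable {g h : U σ} {M : Submodule (Fx σ) K}

theorem y4A (r : K) : (y4 r : U σ) ∈ sA := ⟨rfl, rfl, rfl⟩

theorem A_le_Q : sA ≤ Q (σ := σ) := sA_le_sR.trans sR_le_Q

theorem brT (g h : U σ) : ⁅g, h⁆ ∈ sR := ⟨br_u g h, br_t g h⟩

theorem t_eq (k : ∀ r, ⁅g, (y4 r : U σ)⁆.w = 0) : g.t = 0 :=
  tr_nondeg (σ := σ) fun r => by rw [mul_comm]; exact (br_A g (y4A r)).2.symm.trans (k r)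

theorem mem_Z (hg : g ∈ sV) (e : g.w = 0) : g ∈ sZ := ⟨hg.1, hg.2.1, hg.2.2.1, e, hg.2.2.2⟩

/-- the elements of `A₀` with `r ∈ M` -/
def sAm (M : Submodule (Fx σ) K) : Subgroup (U σ) where
  carrier := {g | g ∈ sA ∧ g.r ∈ M}
  one_mem' := ⟨one_mem _, zero_mem _⟩
  mul_mem' ha hb := ⟨mul_mem ha.1 hb.1, mul_r_A (sA_le_sR ha.1) (sA_le_sR hb.1) ▸ add_mem ha.2 hb.2⟩
  inv_mem' {a} ha := ⟨inv_mem ha.1, by simpa [U.inv_r, ha.1.1, ha.1.2.1, cr] using ha.2⟩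

/-- the elements of `R₀` with `s ∈ M` -/
def sRm (M : Submodule (Fx σ) K) : Subgroup (U σ) where
  carrier := {g | g ∈ sR ∧ g.s ∈ M}
  one_mem' := ⟨one_mem _, zero_mem _⟩
  mul_mem' ha hb := ⟨mul_mem ha.1 hb.1, by simpa [U.mul_s, hb.1.1] using add_mem ha.2 hb.2⟩
  inv_mem' {a} ha := ⟨inv_mem ha.1, by simpa [U.inv_s, ha.1.1] using ha.2⟩

theorem V_le_Am : sV ≤ sAm M := fun _ h => ⟨sV_le_sA h, h.2.2.1 ▸ zero_mem M⟩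

theorem A_le_Rm : sA ≤ sRm M := fun _ h => ⟨sA_le_sR h, h.2.1 ▸ zero_mem M⟩

theorem comm_RA (hg : g ∈ sR) (hh : h ∈ sA) : g * h = h * g ↔ tr σ (g.s * h.r) = 0 := by
  rw [comm_Q hg.2 hh.2.2, bf, hg.1, hh.1, hh.2.1]; simp

theorem iv_Rm (hA : Au P A) (hP : sA ≤ P) (hQ : Ivs P A Q) (h : Ivs P A (sAm M)) : Ivs P A (sRm (perp σ M)) :=
  (hQ.inter (hA.iv_cent h)).congr (fun y _ => ⟨fun k => by
    have h5 : (y5 1 (map_one σ) : U σ) ∈ sV := ⟨rfl, rfl, rfl, rfl⟩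
    have k1 : y ∈ sR := ⟨by
      simpa [bf] using (comm_Q k.1 (A_le_Q (sV_le_sA h5))).1 (k.2 _ (hP (sV_le_sA h5)) (V_le_Am h5)), k.1⟩
    exact ⟨k1, fun m hm => (comm_RA k1 (y4A m)).1 (k.2 _ (hP (y4A m)) ⟨y4A m, hm⟩)⟩,
    fun k => ⟨k.1.2, fun x _ hx => (comm_RA k.1 hx.1).2 (k.2 _ hx.2)⟩⟩) hA

theorem iv_Am (hA : Au P A) (hP : sR ≤ P) (h : Ivs P A (sRm M)) : Ivs P A (sAm (perp σ M)) :=
  (h.inter (hA.iv_cent h)).congr (fun y _ => ⟨fun k => by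
    have k1 : y ∈ sA := ⟨k.1.1.1, tr_nondeg (σ := σ) fun r => (comm_RA k.1.1 (y4A r)).1
      (k.2 _ (hP (sA_le_sR (y4A r))) (A_le_Rm (y4A r))), k.1.1.2⟩
    exact ⟨k1, fun m hm => mul_comm m y.r ▸ (comm_RA (g := y2 m) ⟨rfl, rfl⟩ k1).1 (k.2 _ (hP ⟨rfl, rfl⟩) ⟨⟨rfl, rfl⟩, hm⟩).symm⟩,
    fun k => ⟨A_le_Rm k.1, fun x _ hx => ((comm_RA hx.1 k.1).2 (mul_comm y.r x.s ▸ k.2 _ hx.2)).symm⟩⟩) hA

theorem top_of (hP : Q ≤ P) (h : ∀ x, y6 x ∈ P) : P = ⊤ := eq_top_iff.2 fun g _ =>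
  (P.mul_mem_cancel_right (P.inv_mem (h g.t))).1 (hP (div_mem_Q.2 rfl))

end C3
open C3 AutA EsA

/-- Proof. `I = {y | ⁅y, P⁆ ⊆ Y}` is invariant (`iv_comm`), contains `sA`. If `I ∩ P ⊆ Q` keep it. Else `y ∈ I ∩ P`, `y.t ≠ 0`: `g.u y.t = y.u g.t` on `P` (`br_s`), `y.u ≠ 0`, all commutators of `P` lie in `sA`; take for `I` the elements commuting with all commutators (`iv_cent`, `iv_brk`): contains `sA`;
such a `g ∈ P` commutes with `⁅y4 r, y⁆ ∈ sV`, `w = ∓1`, so `g.u = 0` (`br_V`), `g.t = 0`. Finally `P ∩ Q = {g ∈ P | ⁅g, I ∩ P⁆ ⊆ O}`: `br_Q`; conversely `⁅g, y4 r⁆ ∈ O ∩ sV ⊆ sZ` for all `r`, `tr_nondeg`. -/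
theorem ivQ_of (hA : Au P A) (hQ' : ¬ P ≤ Q') (hP : sA ≤ P) {Y O : Set (U σ)} (hY : Iv P A Y) (h1 : ∀ v ∈ sV, v ∈ Y)
    (h2 : ∀ y ∈ P, y ∈ Y → y ∈ sA) (hO : Iv P A O) (h3 : ∀ z ∈ sZ, z ∈ O) (h4 : ∀ v ∈ sV, v ∈ O → v ∈ sZ) : Ivs P A Q := by
  obtain ⟨I, i1, i2, i3⟩ : ∃ I, Iv P A I ∧ (∀ a ∈ sA, a ∈ I) ∧ ∀ y ∈ P, y ∈ I → y ∈ Q := by
    by_cases k : ∀ y ∈ P, (∀ x ∈ P, x ∈ (P : Set (U σ)) → ⁅y, x⁆ ∈ Y) → y ∈ Q
    · exact ⟨_, hA.iv_comm hA.iv_self hY, fun a ha x _ _ => h1 _ (br_symm (br_A x ha).1), k⟩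
    push Not at k
    obtain ⟨y, hy, k, yt⟩ := k
    obtain ⟨g₀, hg₀, n⟩ := SetLike.not_le_iff_exists.1 hQ'
    have e : ∀ g ∈ P, g.u * y.t = y.u * g.t := fun g hg => sub_eq_zero.1 (br_s y g ▸ (h2 _ (br_mem hy hg) (k g hg hg)).2.1)
    have yu : y.u ≠ 0 := fun e' => mul_ne_zero n yt (by rw [e _ hg₀, e', zero_mul])
    refine ⟨_, hA.iv_cent (hA.iv_brk hA.iv_self hA.iv_self), ?_, fun g hg k => ?_⟩
    · rintro a ha _ - ⟨x, hx, -, x', hx', -, rfl⟩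
      exact comm_A ha ⟨br_u .., mul_left_cancel₀ yu (by rw [br_s]; linear_combination x.u * e _ hx' - x'.u * e _ hx), br_t ..⟩
    · obtain ⟨r, hr⟩ := exists_tr_mul (σ := σ) yt (map_one σ)
      have := congrArg U.v (commutatorElement_eq_one_iff_mul_comm.2
        (k _ (br_mem hy (hP (y4A r))) ⟨y, hy, hy, _, hP (y4A r), hP (y4A r), rfl⟩))
      rw [br_V g (br_A y (y4A r)).1, y3_v, (br_A y (y4A r)).2, y4_r, hr, mul_one, U.one_v] at this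
      exact (mul_eq_zero.1 ((e g hg).symm.trans (by rw [this, zero_mul]))).resolve_left yu
  exact (hA.iv_comm i1 hO).congr (fun g _ => ⟨fun k => t_eq fun r =>
    (h4 _ (br_A g (y4A r)).1 (k _ (hP (y4A r)) (i2 _ (y4A r)))).2.2.2.1, fun k x hx hx' => h3 _ (brQZ k (i3 x hx hx'))⟩) hA

/-- Proof. `Y = {y | y ^ p = 1, ⁅y, P⁆ ⊆ Z}` (`iv_pow`, `iv_comm`) contains `sV`; `y ∈ Y ∩ P`: `y.t = 0` (against `sA`), with `g ∈ P`, `g.t ≠ 0`: `y.u = 0`, `y.s × g.t = 0`, `T(y.r t) + T(y.s t^#) = 0`; `p = 2`: `y.s = e t`, `T(y.s y.r) = 0`, `e ≠ 0` gives `e · 3 N(t) = 0`. So `y ∈ sA`; `ivQ_of` with `O = sZ`.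
`g ∈ sR`: `Cx.mem3` with the chain `sZ < Q`, `D = sA`; then `g ∈ Q`: the same chain, `D = sR`. -/
theorem Q_le (h : Cx p ⊤ P A H) (hQ : ¬ P ≤ Q) (hQ' : ¬ P ≤ Q') (hP : sA ≤ P) (hZ : Ivs P A sZ) : Q ≤ P ∧ Ivs P A Q := by
  obtain ⟨g, hg, n⟩ := SetLike.not_le_iff_exists.1 hQ
  have iQ := ivQ_of h.toAu hQ' hP ((iv_pow h.toAu p h.iv_bot).inter (h.iv_comm h.iv_self hZ))
    (fun v hv => ⟨mem_bot.2 (pow_sA (sV_le_sA hv)), fun x _ _ => br_symm (brVZ x hv)⟩) (fun y hy k => by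
      have yt : y.t = 0 := t_eq fun r => (k.2 _ (hP (y4A r)) (hP (y4A r))).2.2.2.1
      have k1 := br_symm (k.2 g hg hg)
      have yu : y.u = 0 := by simpa [br_s, yt, show g.t ≠ 0 from n] using k1.2.1
      have k2 := (brR_r g ⟨yu, yt⟩).symm.trans k1.2.2.1
      refine ⟨yu, ?_, yt⟩
      by_cases h2 : (2 : K) = 0
      · obtain ⟨e, he, e1⟩ := (cr_eq_zero_two h2 n).1 (cr_comm (σ := σ) _ _ ▸ k2)
        have k3 := pow_Q (p := p) (g := y) yt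
        have k4 := k1.2.2.2.1
        rw [mem_bot.1 k.1, if_pos (two_iff.1 h2), qf, yu, e1, mul_assoc, tr_smul he] at k3
        simp only [br_w, yt, yu, e1, mul_assoc, tr_smul he, tr_mul_sh, sh0, nm0, mul_zero, tr_zero, mul_comm y.r] at k4
        have : e ^ 2 * nm σ g.t = 0 := by linear_combination e * k4 + k3 - e ^ 2 * nm σ g.t * h2 - U.one_v (σ := σ)
        simp only [mul_eq_zero, nm_eq_zero, show g.t ≠ 0 from n, or_false, pow_eq_zero_iff two_ne_zero] at this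
        rw [e1, this, zero_mul]
      · exact (cr_inj h2 k2).resolve_right n) hZ (fun _ hz => hz) fun _ _ hz => hz
  have k : ∀ D, D ≤ Q → D ≤ P → ∀ x ∈ Q, (∀ y, ⁅x, y⁆ ∈ D) → x ∈ P := fun D h1 h2 x hx e =>
    h.mem3 trivial hZ iQ (fun y _ hy => comm_Z x hy) (fun y _ hy => brQZ hx hy) h1 h2 fun y _ => e y
  exact ⟨fun x hx => k sR sR_le_Q (fun x hx => k sA A_le_Q hP x hx.2 fun y => br_symm (brR y hx)) x hx (brT x), iQ⟩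

/-- If `R₀` is invariant every `y6 x` stabilises `1 < Z < V < A₁ < C₁ < R₀ < P`: `V = C_{R₀}(R₀)`, `C₁ = {w ∈ R₀ | ⁅w, P⁆ ≤ V} ≥ A₀` (`Zq`), `A₁ = {g ∈ R₀ | g` centralises `C₁} `, `V ≤ A₁ ≤ A₀`. `⁅y6 x, R₀⁆ ≤ A₀`; for `w, w' ∈ C₁`: `w.s × t = w'.s × t = 0` (`t = g.t ≠ 0`), so `w.s × w'.s = 0` (`cr_inj`, `cr_eq_zero_two`) and
`bf ⁅y6 x, w⁆ w' = T(w'.s (w.s × x)) = T(x (w.s × w'.s)) = 0`. (Define `A₁` as a subgroup: `sR ⊓ centralizer (C₁ : Set _)`.) Then `P = ⊤` by `eq_prod`. -/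
theorem top_of_R (h : Cx p ⊤ P A H) (hQ : ¬ P ≤ Q) (hP : Q ≤ P) (hZ : Ivs P A sZ) (hR : Ivs P A sR) : P = ⊤ := by
  obtain ⟨g, hg, n⟩ := SetLike.not_le_iff_exists.1 hQ
  have hR' := sR_le_Q.trans hP
  have hV : Ivs P A sV := (iv_Am (M := ⊤) h.toAu hR' (hR.congr (fun y _ => ⟨fun k => ⟨k, trivial⟩, fun k => k.1⟩) h.toAu)).congr
    (fun y _ => ⟨fun k => ⟨k.1.1, k.1.2.1, tr_nondeg (σ := σ) fun s => k.2 s trivial, k.1.2.2⟩, fun k => V_le_Am k⟩) h.toAu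
  set C := sR ⊓ Zq P sV fun y _ b hb => Normal.conj_mem inferInstance b hb y
  have hC : Ivs P A C := hR.inter (iv_Zq h.toAu _ hV)
  have aC : sA ≤ C := fun y hy => ⟨sA_le_sR hy, hP (A_le_Q hy), fun x _ => br_symm (br_A x hy).1⟩
  have hA : Ivs P A (sR ⊓ centralizer (C : Set (U σ))) := (hR.inter (h.iv_cent hC)).congr (fun y _ =>
    ⟨fun k => ⟨k.1, fun x hx => (k.2 x hx.2.1 hx).symm⟩, fun k => ⟨k.1, fun x _ hx => (k.2 x hx).symm⟩⟩) h.toAu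
  refine top_of hP fun x => h.mem_of_ch trivial (((((Ch.base h.toAu hZ fun y _ => comm_Z _).step hZ hV fun y _ => brVZ _).step hV hA
    fun y _ hy => ?_).step hA hC fun y _ hy => ⟨sA_le_sR (brR _ hy.1), fun w hw => ?_⟩).step hC hR fun y _ hy => aC (brR _ hy)) hR
    (fun y _ => brT _ y) fun y _ => hR' (brT _ y)
  · exact (br_A _ ⟨hy.1.1, tr_nondeg (σ := σ) fun r => (comm_RA hy.1 (y4A r)).1 (hy.2 _ (aC (y4A r))).symm, hy.1.2⟩).1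
  have k1 := (brRV g hy.1).1 (br_symm (hy.2.2 g hg))
  have k2 := (brRV g hw.1).1 (br_symm (hw.2.2 g hg))
  rw [comm_RA hw.1 (brR _ hy.1), brR_r _ hy.1, cr_comm, tr_cr]
  by_cases h2 : (2 : K) = 0
  · obtain ⟨e, he, e1⟩ := (cr_eq_zero_two h2 n).1 (cr_comm (σ := σ) _ _ ▸ k1)
    simp [e1, cr_smul he, k2]
  · simp [(cr_inj h2 k1).resolve_right n, cr0]

/-- Proof. For `w ∈ Q`, `a` arbitrary, `t = a.t`: `pW ⁅a, w⁆ = (0, u t, s × t + u t^#, T(r t) + T(s t^#) + u N t)` (`br_s br_r br_w`). `p = 2`: `R₀ = {w ∈ Q | ∀ a ∈ P, ⁅w, a⁆² = 1}` (`qf ⁅a, w⁆ = 3 u² N(t) + u T(t (s × t)) = u² N t`). `p ≠ 2`: `⁅a, ⁅a, w⁆⁆ ∈ sA` has `r = 2 u t^#`, `⁅a', w⁆.s = u t'`, their `bf` is `2 u² T(t' t^#)`;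
if `T(t' t^#) ≠ 0` for some `a, a' ∈ P` then `R₀ = {w ∈ Q | ∀ a a' ∈ P, ⁅a, ⁅a, w⁆⁆` commutes with `⁅a', w⁆}` (prove invariance directly with `Au.surj`). `top_of_R`.
Else `T(t' t^#) = 0` for all `t, t' ∈ t(P)`; `Ind.span3` (use `t₁, t₂, t₁ + t₂`, `sh_add`) shows `t(P) ⊆ F τ`, `τ = g.t ≠ 0`, `T(τ τ^#) = 0`. `D' = (τ^#)^⊥ ∋ τ`. Invariant subgroups (`Zq`, centralisers in `Q`): `C₁ = {w ∈ P | ⁅w, P⁆ ≤ Z} = {w ∈ A₀ | T(r τ) = 0}`, `C₁' = C_Q(C₁) = {w ∈ R₀ | s ∈ F τ}` (`perp_perp1`),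
`C₂ = {w | ⁅w, P⁆ ≤ C₁} = {w ∈ R₀ | T(s τ^#) = 0}`, `E₁ = C_Q(C₂) = {w ∈ A₀ | r ∈ F τ^#}`. For `x ∈ D'`, `y6 x` stabilises `1 < Z < E₁ < C₁ < C₁' < C₂ < Q < P` (`T(τ (τ × x)) = 2 T(x τ^#)`), so `y6 x ∈ P`, `x ∈ F τ`; but `D' ⊄ F τ` (else `perp_perp1`-duality: take `b` with `Ind τ^# b`, `c` with ...; or `finrank_perp`: `dim D' = 2`). -/
theorem esC3 (h : Cx p ⊤ P A H) (hQ : ¬ P ≤ Q) (hQ' : ¬ P ≤ Q') (hP : sA ≤ P) (hZ : Ivs P A sZ) : P = ⊤ := by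
  obtain ⟨hP', iQ⟩ := Q_le h hQ hQ' hP hZ
  obtain ⟨g, hg, n⟩ := SetLike.not_le_iff_exists.1 hQ
  replace n : g.t ≠ 0 := n
  have bs : ∀ a : U σ, ∀ w ∈ Q (σ := σ), ⁅a, w⁆.s = w.u * a.t := fun a w hw => by simp [br_s, mem_Q.1 hw]
  by_cases h2 : (2 : K) = 0
  · have e : ∀ w ∈ Q (σ := σ), ∀ a : U σ, ⁅w, a⁆ ^ p ∈ (⊥ : Subgroup (U σ)) ↔ w.u ^ 2 * nm σ a.t = 0 := fun w hw a => by
      have k1 := pow_mem_sZ (p := p) (brT w a).2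
      have k2 : (⁅w, a⁆ ^ p).v = w.u ^ 2 * nm σ a.t := by
        rw [pow_Q (brT w a).2, if_pos (two_iff.1 h2), qf, br_u, br_s, br_r, mem_Q.1 hw]; usimp
        linear_combination (w.u * (w.s * σ a.t * σ (σ a.t) + σ w.s * σ (σ a.t) * a.t + σ (σ w.s) * a.t * σ a.t) +
          w.u ^ 2 * a.t * σ a.t * σ (σ a.t)) * h2
      exact ⟨fun k => by rw [← k2, mem_bot.1 k, U.one_v], fun k =>
        mem_bot.2 (U.ext k1.1 k1.2.1 (k2.trans k) k1.2.2.1 k1.2.2.2.1 k1.2.2.2.2)⟩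
    exact top_of_R h hQ hP' hZ ((iQ.inter (h.iv_comm h.iv_self (iv_pow h.toAu p h.iv_bot))).congr (fun w _ =>
      ⟨fun k => ⟨by simpa [n] using (e w k.1 g).1 (k.2 g hg hg), k.1⟩, fun k => ⟨k.2, fun a _ _ => (e w k.2 a).2 (by simp [k.1])⟩⟩) h.toAu)
  by_cases k : ∀ a ∈ P, ∀ a' ∈ P, tr σ (a'.t * sh σ a.t) = 0
  swap
  · push Not at k
    obtain ⟨a, ha, a', ha', k⟩ := k
    have e : ∀ w ∈ Q (σ := σ), ∀ a a' : U σ, ⁅a', w⁆ * ⁅a, ⁅a, w⁆⁆ = ⁅a, ⁅a, w⁆⁆ * ⁅a', w⁆ ↔ 2 * w.u ^ 2 * tr σ (a'.t * sh σ a.t) = 0 :=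
      fun w hw a a' => by
        rw [comm_RA (brT _ _) (brR _ (brT _ _)), brR_r _ (brT _ _), bs _ _ hw, bs _ _ hw]
        exact Eq.congr_left (by asimp; ring)
    have i : Iv P A {w | ∀ a ∈ P, ∀ a' ∈ P, ⁅a', w⁆ * ⁅a, ⁅a, w⁆⁆ = ⁅a, ⁅a, w⁆⁆ * ⁅a', w⁆} := fun α hα w hw k b hb b' hb' => by
      obtain ⟨a, ha, rfl⟩ := h.surj hα hb
      obtain ⟨a', ha', rfl⟩ := h.surj hα hb'
      have m := h.hom α hα
      rw [← m.map_commutator ha hw, ← m.map_commutator ha' hw, ← m.map_commutator ha (br_mem ha hw),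
        ← m (br_mem ha' hw) (br_mem ha (br_mem ha hw)), ← m (br_mem ha (br_mem ha hw)) (br_mem ha' hw), k a ha a' ha']
    exact top_of_R h hQ hP' hZ ((iQ.inter i).congr (fun w _ => ⟨fun k' => ⟨by
      simpa [k, h2] using (e w k'.1 a a').1 (k'.2 a ha a' ha'), k'.1⟩, fun k => ⟨k.2, fun a _ a' _ => (e w k.2 a a').2 (by simp [k.1])⟩⟩)
      h.toAu)
  have ln : ∀ a ∈ P, ∃ c, σ c = c ∧ a.t = c * g.t := fun a ha => not_not.1 fun i => n (((ind_iff n).2 i).span3 (k g hg g hg) (by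
    have := k _ (mul_mem hg ha) g hg
    rwa [U.mul_t, sh_add, mul_add, mul_add, tr_add, tr_add, k g hg g hg, k a ha g hg, zero_add, add_zero] at this) (k a ha g hg))
  have tc : ∀ c x, σ c = c → tr σ (cr σ x (c * g.t) * g.t) = 2 * c * tr σ (x * sh σ g.t) := fun c x hc => by
    asimp; simp only [hc]; ring
  have mp : ∀ {r x : K}, r ∈ perp σ {x} ↔ tr σ (r * x) = 0 := by simp [mem_perp]
  have q1 : (y1 1 (map_one σ) : U σ) ∈ P := hP' rfl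
  have c1 : Ivs P A (sAm (perp σ {g.t})) := (h.iv_comm h.iv_self hZ).congr (fun w _ => ⟨fun k => by
    have wt : w.t = 0 := by simpa [br_s] using (k _ q1 q1).2.1
    have k1 := br_symm (k g hg hg)
    have wu : w.u = 0 := by simpa [bs g w wt, n] using k1.2.1
    have wA : w ∈ sA := ⟨wu, (cr_inj h2 ((brR_r g ⟨wu, wt⟩).symm.trans k1.2.2.1)).resolve_right n, wt⟩
    exact ⟨wA, mp.2 ((br_A g wA).2.symm.trans k1.2.2.2.1)⟩, fun k x hx _ => by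
    obtain ⟨c, hc, e⟩ := ln x hx
    exact br_symm (mem_Z (br_A x k.1).1 (by rw [(br_A x k.1).2, e, mul_left_comm, tr_smul hc, mp.1 k.2, mul_zero]))⟩) h.toAu
  have c2 : Ivs P A (sRm (perp σ {sh σ g.t})) := (h.iv_comm h.iv_self c1).congr (fun w _ => ⟨fun k => by
    have wt : w.t = 0 := by simpa [br_s] using (k _ q1 q1).1.2.1
    have k1 := br_symm (k g hg hg)
    have wu : w.u = 0 := by simpa [bs g w wt, n] using k1.1.2.1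
    have := tc 1 w.s (map_one σ)
    rw [one_mul, ← brR_r g ⟨wu, wt⟩, mp.1 k1.2, mul_one] at this
    exact ⟨⟨wu, wt⟩, mp.2 ((mul_eq_zero.1 this.symm).resolve_left h2)⟩, fun k x hx _ => by
    obtain ⟨c, hc, e⟩ := ln x hx
    exact br_symm ⟨brR x k.1, mp.2 (by rw [brR_r x k.1, e, tc c _ hc, mp.1 k.2, mul_zero])⟩⟩) h.toAu
  have c3 := iv_Rm h.toAu hP iQ c1
  have c4 := iv_Am h.toAu (sR_le_Q.trans hP') c2
  obtain ⟨b, hb⟩ := exists_tr_mul (σ := σ) n (map_one σ)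
  obtain ⟨x, x0, x1, x2⟩ := exists_perp2 (σ := σ) (sh σ g.t) b
  obtain ⟨c, hc, e⟩ := ln (y6 x) (h.mem_of_ch trivial ((((((Ch.base h.toAu hZ fun y _ => comm_Z _).step hZ c4 fun y _ hy =>
    mem_Z (br_A _ hy.1).1 ((br_A _ hy.1).2.trans (hy.2 x (mp.2 x1)))).step c4 c1 fun y _ hy => V_le_Am (br_A _ hy.1).1).step c1 c3
    fun y _ hy => ⟨brR _ hy.1, mp.2 (by
      obtain ⟨c, hc, e⟩ := perp_perp1 (σ := σ) (s := y.s) n fun r hr => mul_comm y.s r ▸ hy.2 r (mp.2 hr)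
      rw [brR_r _ hy.1, cr_comm, e, tc c _ hc, y6_t, x1, mul_zero])⟩).step c3 c2 fun y _ hy => A_le_Rm (brR _ hy.1)).step c2 iQ
    fun y _ hy => ⟨brT _ y, mp.2 (by rw [bs _ y hy, mul_assoc, tr_smul y.hu, y6_t, x1, mul_zero])⟩) iQ
    (fun y _ => (brT _ y).2) fun y _ => hP' (brT _ y).2)
  rw [y6_t] at e
  rw [e, mul_assoc, tr_smul hc, mul_comm g.t, hb, mul_one] at x2
  exact absurd (by rw [e, x2, zero_mul]) x0

end CL.D3
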