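/-
S5261: `A₀ ≤ P`, `P ≰ Q, Q'`: `Z` is invariant.
-/
import Cfsg.Agent.FUS.D3.EsC3
import Cfsg.Agent.FUS.D3.EsB1b

set_option autoImplicit false
set_option linter.unusedSimpArgs false
set_option linter.unusedSectionVars false
set_option linter.unusedVariables false

namespace CL.D3

open CL.Fus CL.RF4 Subgroup
open scoped commutatorElement

variable {K : Type*} [Field K] [Finite K] {σ : K →+* K} [T : Tri σ] {p : ℕ} [Fact p.Prime] [CharP K p] {P : Subgroup (U σ)}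
  {A H : Set (U σ → U σ)}

open C3 AutA EsA EsB

namespace C2

variable {g h : U σ}

theorem brA_v (g : U σ) (hh : h ∈ sA) : ⁅g, h⁆.v = g.u * h.w - tr σ (g.s * h.r) + g.u * tr σ (h.r * g.t) := by
  msimp at hh; csimp; simp only [hh]; usimp; ring

theorem brR_w (g : U σ) (hh : h ∈ sR) : ⁅g, h⁆.w = tr σ (h.r * g.t) + tr σ (h.s * sh σ g.t) := by
  simp [br_w, hh.1, hh.2, sh0, nm0]

theorem br1 (c : K) (hc : σ c = c) (g : U σ) : ⁅y1 c hc, g⁆.s = -c * g.t ∧ ⁅y1 c hc, g⁆.r = -c * sh σ g.t := by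
  simp [br_s, br_r, cr0, cr0', sh0]

theorem eq_br {z : U σ} (hz : z ∈ sZ) (hg : g ∈ Q) (hh : h ∈ Q) (e : bf g h = z.v) : z = ⁅g, h⁆ := by
  rw [br_Q hg hh]; exact U.ext hz.1 hz.2.1 e.symm hz.2.2.1 hz.2.2.2.1 hz.2.2.2.2

/-- the centraliser of `X` modulo `B` -/
def Cm {Ω : Type*} [Group Ω] (E B : Subgroup Ω) (hB : ∀ y ∈ E, ∀ b ∈ B, y * b * y⁻¹ ∈ B) (X : Set Ω)
    (hX : ∀ x ∈ X, x ∈ E) : Subgroup Ω where
  carrier := {m | m ∈ E ∧ ∀ y ∈ X, ⁅m, y⁆ ∈ B}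
  one_mem' := ⟨one_mem _, fun y _ => by simp⟩
  mul_mem' {a b} ha hb := ⟨mul_mem ha.1 hb.1, fun y hy => by
      rw [show ⁅a * b, y⁆ = a * ⁅b, y⁆ * a⁻¹ * ⁅a, y⁆ by simp only [commutatorElement_def]; group]
      exact mul_mem (hB a ha.1 _ (hb.2 y hy)) (ha.2 y hy)⟩
  inv_mem' {a} ha := ⟨inv_mem ha.1, fun y hy => by
    rw [show ⁅a⁻¹, y⁆ = a⁻¹ * ⁅a, y⁆⁻¹ * a⁻¹⁻¹ by simp only [commutatorElement_def]; group]
    exact hB _ (inv_mem ha.1) _ (inv_mem (ha.2 y hy))⟩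

end C2
open C2

/-- For `a ∈ sA`: `⁅g, a⁆.v = g.u a.w - T(g.s a.r) + g.u T(a.r g.t)`, `⁅g, a⁆.w = T(a.r g.t)`. Take `g₀ ∈ P`, `g₀.u ≠ 0`, `x = -g₀.s / g₀.u`: `(cj (y6 x) g₀).s = 0` (`cj6_s`), so every `z ∈ Omp` of the conjugate (it lies in `sA`: `cj_mem_Omp`) has `z.w = 0`. -/
theorem exists_conj (hQ' : ¬ P ≤ Q') (hO : Omp p P ≤ sA) : ∃ x, ∀ z ∈ Omp p (img (cj (y6 x)) P), z.w = 0 := by
  obtain ⟨g, hg, n⟩ := SetLike.not_le_iff_exists.1 hQ'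
  replace n : g.u ≠ 0 := n
  refine ⟨-g.s / g.u, fun z hz => ?_⟩
  have hA : z ∈ sA := by
    rw [← cj_cj_inv (y6 (-g.s / g.u)) z] at hz ⊢
    exact Normal.conj_mem inferInstance _ (hO (cj_mem_Omp.1 hz)) _
  have e := commutatorElement_eq_one_iff_mul_comm.2 (hz.2.2 _ (cj_mem_img.2 hg)).symm
  have e1 := (br_A _ hA).2.symm.trans (congrArg U.w e)
  have e2 := (brA_v _ hA).symm.trans (congrArg U.v e)
  rw [e1, cj6_s, cj6_u, mul_div_cancel₀ _ n] at e2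
  simpa [n] using e2

/-- Proof. `O = Omp p P`, `M = span {g.s, g.t | g ∈ P}`, `K₀ = perp σ M`; `O = {a ∈ sA | a.w = 0, a.r ∈ K₀}`. If `K₀ = ⊥`, `O = sZ`. Let `K₀ ≠ ⊥`, so `M ≠ ⊤`; `M ≠ ⊥`. `Y = Zq P O _ ≥ sV`, `Y ≤ sR` (against `sA`: `t = 0`; `br_s`: `u = 0`); for `y ∈ P ⊓ sR`: `y ∈ Y ↔ ∀ g ∈ P, y.s × g.t ∈ K₀ ∧ T(y.r g.t) + T(y.s g.t^#) = 0`.
`B = {g ∈ sR | g.s ∈ M}`, `B' = {g ∈ Q | g.s ∈ M}` centralise `O`; elements of `Q` act trivially on `(P ⊓ Q) / O` (`br_Q`); `⁅B, P⁆ ≤ sA`, `⁅y1 c, g⁆ ∈ B` for `g ∈ P` (`s = -c t`, `r = -c t^#`, `w = -c N t`); `B' = Y₁ B`.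
(Z) If `B' ≤ P` then `sZ = {z | ∀ y ∈ Y ∖ O, ∃ x ∈ P, z = ⁅y, x⁆}` (`iv_all_brk`, `iv_compl`): `⊆` by `y = y5 1`, `br_V`; `⊇`: `y ∈ sR ∖ O` has `y.s ≠ 0` (use `y4 r`), or `y.w ≠ 0` (use `y1 c`), or `y.r ∉ K₀` (use `y2 (c m)`, `m ∈ M`).
(1) If `T(t' (m × t)) = 0` for all `m ∈ M`, `t, t' ∈ t(P)` then `⁅B, P⁆ ≤ Y` and `B ≤ P` (`Cx.mem3`, chain `O < Y`, `D = Y`).
`p = 2`: (1) holds (alternating trilinear form on `dim M ≤ 2`; also `a × b ∈ K₀` for `a, b ∈ M`). `ν t t' = T(t^# t') + T(t t'^#)`. `I = {g | ∀ x x' ∈ P, ⁅g, x ^ 2⁆ ∈ O ∧ ⁅g, ⁅x, x'⁆⁆ ∈ O}` (a subgroup of `P`: centraliser modulo `O`; `iv_comm`, `iv_pows`, `iv_brk`) contains `P ⊓ Q`. For `g ∈ I`, `t = g.t`: squares give `x.u ν(x.t, t) = 0`, commutators `x'.u ν(x.t, t) + x.u ν(x'.t, t) = 0`;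
with one `x'.u ≠ 0`: `ν(x.t, t) = 0` for all `x ∈ P`, so `⁅y1 c, g⁆ ∈ Y`. Chain `O < Y < I < P` (`⁅y1 c, P⁆ ≤ B ≤ P ⊓ Q ≤ I`): `y1 c ∈ P`.
`p ≠ 2`: (α) `Y ≤ sA`: `ivQ_of` with `Y, O`; chain `O < Q`: first `B ≤ P` (`D = sA`), then `y1 c ∈ P` (`D = B`). (β) `y ∈ Y`, `s = y.s ≠ 0`. Then `t(P) ⊆ F τ`: two independent `t₁, t₂` span `M`, `K₀` is a line (`sub_cases`), so `s × (x t₁ + y t₂) = 0` nontrivially, against `cr_inj`.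
(β1) some `y ∈ Y` has `y.s ∉ F τ`: `y4 r ∈ Y` for `T(r τ) = 0`, and `T(y.s r)` takes all values (`Ind.exists_tr2`), so `sZ` is the set of commutators of elements of `Y ≤ Q` (`iv_brk`). (β2) `s = e τ`, `e ≠ 0`: `τ^# ∈ K₀`, in particular `T(τ τ^#) = 3 N τ = 0`; (1) holds (`T(τ (m × τ)) = 2 T(m τ^#)`), `B ≤ P`;
`⁅y1 c, g⁆ ∈ B` has `s ∈ F τ`, `r ∈ F τ^#`, so lies in `Y`; chain `O < Y`: `y1 c ∈ P`. -/
theorem esC2 (h : Cx p ⊤ P A H) (hQ : ¬ P ≤ Q) (hQ' : ¬ P ≤ Q') (hP : sA ≤ P) (hO : Omp p P ≤ sA) (hw : ∀ z ∈ Omp p P, z.w = 0) :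
    Ivs P A sZ := by
  obtain ⟨g, hg, n⟩ := SetLike.not_le_iff_exists.1 hQ
  replace n : g.t ≠ 0 := n
  obtain ⟨M, ms, mu, mp⟩ : ∃ M : Submodule (Fx σ) K, (∀ x ∈ P, x.s ∈ M) ∧ (∀ x ∈ P, x.t ∈ M) ∧
      ∀ r, (∀ x ∈ P, tr σ (r * x.s) = 0 ∧ tr σ (r * x.t) = 0) → r ∈ perp σ (M : Set K) :=
    ⟨Submodule.span _ {a | ∃ x ∈ P, a = x.s ∨ a = x.t}, fun x hx => Submodule.subset_span ⟨x, hx, Or.inl rfl⟩,
      fun x hx => Submodule.subset_span ⟨x, hx, Or.inr rfl⟩, fun r hr => by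
        rw [perp_span]; rintro _ ⟨x, hx, rfl | rfl⟩; exacts [(hr x hx).1, (hr x hx).2]⟩
  have cO : ∀ x ∈ Q (σ := σ), x.s ∈ M → ∀ a ∈ sA, a.w = 0 → a.r ∈ perp σ (M : Set K) → x * a = a * x := fun x hx xs a ha aw ar => by
    rw [comm_Q hx (A_le_Q ha), bf, aw, ha.1, ha.2.1, mul_comm x.s, ar _ xs]; simp
  have mO : ∀ {a}, a ∈ Omp p P ↔ a ∈ sA ∧ a.w = 0 ∧ a.r ∈ perp σ (M : Set K) := fun {a} => ⟨fun ha => ⟨hO ha, hw a ha, mp _ fun x hx => by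
    have e := commutatorElement_eq_one_iff_mul_comm.2 (ha.2.2 x hx).symm
    have e1 := (br_A _ (hO ha)).2.symm.trans (congrArg U.w e)
    have e2 := (brA_v _ (hO ha)).symm.trans (congrArg U.v e)
    rw [e1, hw a ha, mul_comm x.s] at e2
    exact ⟨by simpa using e2, e1⟩⟩, fun ⟨h1, h2, h3⟩ => ⟨hP h1, pow_sA h1, fun x hx => by
    have k := (br_A x h1).1
    refine (commutatorElement_eq_one_iff_mul_comm.1 (U.ext k.1 k.2.1 ?_ k.2.2.1 ((br_A x h1).2.trans (h3 _ (mu x hx))) k.2.2.2)).symm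
    rw [brA_v x h1, h2, mul_comm x.s, h3 _ (ms x hx), h3 _ (mu x hx)]; simp⟩⟩
  have iO : Ivs P A (Omp p P) := iv_Omp h.toAu
  have zO : sZ ≤ Omp p P := h.Z_le_Om
  by_cases hM : M = ⊤
  · exact iO.congr (fun a _ => ⟨fun k => mem_Z ⟨(hO k).1, (hO k).2.1, tr_nondeg (σ := σ) fun s => (mO.1 k).2.2 s (hM ▸ trivial),
      (hO k).2.2⟩ (hw a k), fun k => zO k⟩) h.toAu
  have nO : ∀ y ∈ P, ∀ b ∈ Omp p P, y * b * y⁻¹ ∈ Omp p P := fun y hy b hb => by rwa [← hb.2.2 y hy, mul_inv_cancel_right]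
  have iY := iv_Zq h.toAu nO iO
  have YP : Zq P (Omp p P) nO ≤ P := fun _ k => k.1
  have VY : sV ≤ Zq P (Omp p P) nO := fun v hv => ⟨hP (sV_le_sA hv), fun x _ => zO (br_symm (brVZ x hv))⟩
  have YR : Zq P (Omp p P) nO ≤ sR := fun y hy => by
    have yt : y.t = 0 := t_eq fun r => hw _ (hy.2 _ (hP (y4A r)))
    exact ⟨by simpa [br_s, yt, n] using (hO (hy.2 g hg)).2.1, yt⟩
  have mY : ∀ {y}, y ∈ P → y ∈ sR → (y ∈ Zq P (Omp p P) nO ↔ ∀ x ∈ P, tr σ (y.r * x.t) + tr σ (y.s * sh σ x.t) = 0 ∧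
      cr σ y.s x.t ∈ perp σ (M : Set K)) := fun {y} hy hR => (and_iff_right hy).trans (forall₂_congr fun x _ =>
    (Iff.intro br_symm br_symm).trans (by rw [mO, brR_w x hR, brR_r x hR, and_iff_right (brR x hR)]))
  generalize Zq P (Omp p P) nO = Y at iY YP VY YR mY
  have fin : sRm M ≤ P → (∀ c hc, y1 c hc ∈ P) → Ivs P A sZ := fun h1 h2 =>
    (iv_all_brk h.toAu (iY.inter (h.iv_compl iO)) h.iv_self).congr (fun z _ => ⟨fun k => by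
      have h5 : (y5 1 (map_one σ) : U σ) ∈ sV := ⟨rfl, rfl, rfl, rfl⟩
      obtain ⟨x, -, -, rfl⟩ := k _ (YP (VY h5)) ⟨VY h5, fun e => one_ne_zero (hw _ e)⟩
      exact br_symm (brVZ x h5), fun hz y _ hy => by
      have yR := YR hy.1
      suffices ∃ x ∈ P, x ∈ Q ∧ bf y x = z.v from let ⟨x, h1, h2, e⟩ := this; ⟨x, h1, h1, eq_br hz yR.2 h2 e⟩
      by_cases ys : y.s = 0
      · by_cases yw : y.w = 0
        · obtain ⟨m, hm, e⟩ : ∃ m ∈ M, tr σ (y.r * m) ≠ 0 := by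
            by_contra! k
            exact hy.2 (mO.2 ⟨⟨yR.1, ys, yR.2⟩, yw, k⟩)
          have hc : σ (z.v / tr σ (y.r * m)) = z.v / tr σ (y.r * m) := by simp
          exact ⟨y2 (z.v / tr σ (y.r * m) * m), h1 ⟨⟨rfl, rfl⟩, mul_mem_sub hc hm⟩, rfl, by
            simp [bf, mul_assoc, tr_smul hc, mul_comm m, e]⟩
        · exact ⟨y1 (-z.v / y.w) (by simp), h2 _ _, rfl, by simp [bf, yw]⟩
      · obtain ⟨r, hr⟩ := exists_tr_mul (σ := σ) (c := -z.v) ys (by simp)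
        exact ⟨y4 r, hP (y4A r), rfl, by simp [bf, mul_comm y.s, hr]⟩⟩) h.toAu
  have cO' : ∀ x ∈ Q, x.s ∈ M → ∀ y ∈ P, y ∈ Omp p P → x * y = y * x := fun x hx xs y _ hy =>
    cO x hx xs y (hO hy) (hw y hy) (mO.1 hy).2.2
  have m3 : ∀ C D : Subgroup (U σ), Ivs P A C → C ≤ Q → D ≤ C → D ≤ P → ∀ x ∈ Q, x.s ∈ M → (∀ y ∈ P, ⁅x, y⁆ ∈ D) → x ∈ P :=
    fun C D h1 h2 h3 h4 x hx xs e => h.mem3 trivial iO h1 (cO' x hx xs) (fun y _ hy => zO (brQZ hx (h2 hy))) h3 h4 e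
  have one : (∀ m ∈ M, ∀ x ∈ P, ∀ x' ∈ P, tr σ (cr σ m x.t * x'.t) = 0) → sRm M ≤ P := fun e b hb =>
    m3 Y Y iY (YR.trans sR_le_Q) le_rfl YP b hb.1.2 hb.2 fun x hx => br_symm ((mY (hP (brR x hb.1)) (brT _ _)).2 fun x' hx' => by
      simp [(brR x hb.1).2.1, brR_r x hb.1, e _ hb.2 x hx x' hx', cr0'])
  have b1 : ∀ c hc, ∀ x ∈ P, ⁅y1 c hc, x⁆ ∈ sRm M := fun c hc x hx =>
    ⟨brT _ _, (br1 c hc x).1 ▸ mul_mem_sub (by simp [hc]) (mu x hx)⟩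
  by_cases h2 : (2 : K) = 0
  · have k := fun {x y} => cr_perp (M := M) h2 hM (x := x) (y := y)
    have BP := one fun m hm x hx x' hx' => k hm (mu x hx) _ (mu x' hx')
    obtain rfl := two_iff.1 h2
    set X := {z | ∃ x ∈ P, x ∈ (P : Set (U σ)) ∧ z = x ^ 2} ∪ {z | ∃ x ∈ P, x ∈ (P : Set (U σ)) ∧ ∃ y ∈ P, y ∈ (P : Set (U σ)) ∧ z = ⁅x, y⁆}
    have hX : ∀ z ∈ X, z ∈ P ∧ z ∈ sR := by
      rintro _ (⟨x, hx, -, rfl⟩ | ⟨x, hx, -, y, hy, -, rfl⟩)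
      exacts [⟨pow_mem hx 2, pow_mem_sR x⟩, ⟨br_mem hx hy, brT x y⟩]
    have iX : Iv P A X := fun α hα y hy =>
      Or.imp (iv_pows h.toAu 2 h.iv_self α hα y hy) (h.iv_brk h.iv_self h.iv_self α hα y hy)
    have iI : Ivs P A (Cm P _ nO X fun z hz => (hX z hz).1) := (h.iv_comm iX iO).congr
      (fun y hy => ⟨fun k => ⟨hy, fun z hz => k z (hX z hz).1 hz⟩, fun k z _ hz => k.2 z hz⟩) h.toAu
    obtain ⟨g₁, h1, n1⟩ := SetLike.not_le_iff_exists.1 hQ'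
    refine fin BP fun c hc => h.mem_of_ch trivial (((Ch.base h.toAu iO (cO' _ rfl (zero_mem M))).step iO iY
      fun y _ hy => zO (brQZ rfl (YR hy).2)).step iY iI fun y hy k1 => (mY (BP (b1 c hc y hy)) (brT _ _)).2 fun x hx =>
        ⟨?_, k (b1 c hc y hy).2 (mu x hx)⟩) iI
      (fun y hy => ⟨BP (b1 c hc y hy), fun z hz => zO (brQZ (brT _ _).2 (hX z hz).2.2)⟩) fun y hy => BP (b1 c hc y hy)
    have e1 := (brR_w y (pow_mem_sR g₁)).symm.trans (hw _ (k1.2 _ (Or.inl ⟨g₁, h1, h1, rfl⟩)))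
    have e2 := (brR_w y (brT x g₁)).symm.trans (hw _ (k1.2 _ (Or.inr ⟨x, hx, hx, g₁, h1, h1, rfl⟩)))
    have e3 := k (ms _ h1) (mu _ h1) _ (mu y hy)
    have e4 := k (ms _ h1) (mu x hx) _ (mu y hy)
    have e5 := k (ms x hx) (mu _ h1) _ (mu y hy)
    rw [sq, U.mul_r, U.mul_s] at e1
    rw [br_r, br_s] at e2
    rw [(br1 c hc y).1, (br1 c hc y).2]
    refine mul_left_cancel₀ (pow_ne_zero 2 (show g₁.u ≠ 0 from n1)) ?_
    asimp at e1 e2 e3 e4 e5 ⊢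
    simp only [hc]
    linear_combination (-c * g₁.u) * (e2 - e4 + e5) - c * x.u * (e1 - e3) + c * x.u * (g₁.r * y.t + σ g₁.r * σ y.t +
      σ (σ g₁.r) * σ (σ y.t) + g₁.s * (σ y.t * σ (σ y.t)) + σ g₁.s * (σ (σ y.t) * y.t) + σ (σ g₁.s) * (y.t * σ y.t)) * h2
  by_cases k : Y ≤ sA
  · have iQ := ivQ_of h.toAu hQ' hP iY VY (fun _ _ hy => k hy) iO zO fun v hv e => mem_Z hv (hw v e)
    have BP : sRm M ≤ P := fun b hb => m3 Q sA iQ le_rfl A_le_Q hP b hb.1.2 hb.2 fun y _ => br_symm (brR y hb.1)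
    exact fin BP fun c hc => m3 Q (sRm M) iQ le_rfl (fun _ k => k.1.2) BP _ rfl (zero_mem M) (b1 c hc)
  obtain ⟨y, hy, ys⟩ := SetLike.not_le_iff_exists.1 k
  replace ys : y.s ≠ 0 := fun e => ys ⟨(YR hy).1, e, (YR hy).2⟩
  have k1 := fun x hx => ((mY (YP hy) (YR hy)).1 hy x hx).2
  have ln : ∀ a ∈ P, ∃ c, σ c = c ∧ a.t = c * g.t := fun a ha => not_not.1 fun i => by
    have i := (ind_iff n).2 i
    obtain ⟨c, hc, e⟩ := i.perp2 (k1 g hg _ (mu g hg)) (k1 g hg _ (mu a ha))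
    obtain ⟨c', hc', e'⟩ := i.perp2 (k1 a ha _ (mu g hg)) (k1 a ha _ (mu a ha))
    have := (i c' (-c) hc' (by simp [hc]) ((cr_inj (σ := σ) h2 (by
      rw [cr_add, cr_smul hc', cr_smul (by simp [hc]), e, e']; ring)).resolve_left ys)).2
    rw [neg_eq_zero.1 this, zero_mul] at e
    exact (cr_inj h2 e).elim ys n
  by_cases i : Ind σ g.t y.s
  · exact (h.iv_brk iY iY).congr (fun z _ => ⟨by rintro ⟨x, -, hx, x', -, hx', rfl⟩; exact brQZ (YR hx).2 (YR hx').2, fun hz => by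
      obtain ⟨r, e1, e2⟩ := i.exists_tr2 (map_zero σ) (show σ (-z.v) = -z.v by simp)
      exact ⟨y, YP hy, hy, y4 r, hP (y4A r), (mY (hP (y4A r)) ⟨rfl, rfl⟩).2 fun x hx => by
        obtain ⟨c, hc, e⟩ := ln x hx
        simp [e, mul_left_comm r, tr_smul hc, e1, cr0'], eq_br hz (YR hy).2 rfl (by simp [bf, mul_comm y.s, e2])⟩⟩) h.toAu
  obtain ⟨e, he, e1⟩ := not_not.1 (mt (ind_iff n).2 i)
  have k2 : ∀ m ∈ M, tr σ (sh σ g.t * m) = 0 := fun m hm => by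
    have := k1 g hg m hm
    rw [e1, cr_smul' he, cr_self, ← mul_assoc, mul_assoc, tr_smul (by simp [he, map_ofNat])] at this
    exact (mul_eq_zero.1 this).resolve_left (mul_ne_zero (left_ne_zero_of_mul (e1 ▸ ys)) h2)
  have BP := one fun m hm x hx x' hx' => by
    obtain ⟨c, hc, e⟩ := ln x hx
    obtain ⟨c', hc', e'⟩ := ln x' hx'
    have := k2 m hm
    rw [e, e']; asimp at this ⊢; simp only [hc, hc']; linear_combination 2 * c * c' * this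
  refine fin BP fun c hc => m3 Y Y iY (YR.trans sR_le_Q) le_rfl YP _ rfl (zero_mem M) fun x hx =>
    (mY (BP (b1 c hc x hx)) (brT _ _)).2 fun x' hx' => ?_
  obtain ⟨a, ha, e⟩ := ln x hx
  obtain ⟨a', ha', e'⟩ := ln x' hx'
  rw [(br1 c hc x).1, (br1 c hc x).2, e, e']
  refine ⟨?_, fun m hm => ?_⟩
  · have := k2 _ (mu g hg)
    asimp at this ⊢; simp only [hc, ha, ha']; linear_combination -c * a * a' * (a + a') * this
  · have := k2 m hm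
    asimp at this ⊢; simp only [hc, ha, ha']; linear_combination -2 * c * a * a' * this

end CL.D3
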