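/-
S5261: the essential subgroups are `Q` and `Q'`.
-/
import Cfsg.Agent.FUS.D3.CxF
import Cfsg.Agent.FUS.D3.EsB1b
import Cfsg.Agent.FUS.D3.EsB2
import Cfsg.Agent.FUS.D3.EsC1
import Cfsg.Agent.FUS.D3.EsC2

set_option autoImplicit false
set_option linter.unusedSimpArgs false
set_option linter.unusedSectionVars false

namespace CL.D3

open CL.Fus CL.RF4 Subgroup Cfsg Cfsg.FusionSystem
open scoped commutatorElement

variable {K : Type*} [Field K] [Finite K] {σ : K →+* K} [T : Tri σ] {p : ℕ} [Fact p.Prime] [CharP K p]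
  {F F' : FusionSystem (⊤ : Subgroup (U σ))}

theorem isPGroup_top : IsPGroup p (⊤ : Subgroup (U σ)) := (isPGroup_U p).to_subgroup _

theorem isoOn_top (α : MulAut (U σ)) : IsoOn ⊤ ⊤ α α.symm :=
  ⟨fun x _ y _ => map_mul α x y, fun _ _ => trivial, fun _ _ => trivial, fun x _ => α.symm_apply_apply x, fun x _ => α.apply_symm_apply x⟩

theorem isoOn_cj {P : Subgroup (U σ)} [P.Normal] (s : U σ) : IsoOn P P (cj s) (cj s⁻¹) :=
  ⟨isHomOn_cj P s, fun g hg => Normal.conj_mem ‹_› g hg s, fun g hg => Normal.conj_mem ‹_› g hg s⁻¹, fun _ _ => cj_inv_cj _ _,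
    fun _ _ => cj_cj_inv _ _⟩

theorem mor_cj' (F : FusionSystem (⊤ : Subgroup (U σ))) (P : Subgroup (U σ)) (s : U σ) : Mor F P (cj s) := mor_cj F le_top trivial

theorem exists_isoOn {P : Subgroup (U σ)} {f : U σ → U σ} (hf : Mor F P f) (h1 : ∀ x ∈ P, f x ∈ P) :
    ∃ f', Mor F P f' ∧ IsoOn P P f f' := by
  obtain ⟨g, h, h'⟩ := hf.exists_isoOn
  rw [hf.img_eq_self h1] at h h'
  exact ⟨g, h', h⟩

theorem exists_aut_top {f : U σ → U σ} (hf : Mor F ⊤ f) : ∃ α : MulAut (U σ), ∀ g, f g = α g := by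
  obtain ⟨f', -, i⟩ := exists_isoOn hf fun _ _ => trivial
  exact ⟨⟨⟨f, f', fun x => i.left x trivial, fun x => i.right x trivial⟩, fun x y => i.map_mul trivial trivial⟩, fun _ => rfl⟩

theorem es_cases {P : Subgroup (U σ)} (h : Es p P) : P = Q ∨ P = Q' := by
  obtain ⟨A, H, c⟩ := h.cy
  by_cases hQ : P ≤ Q
  · exact Or.inl (esQ c.toCx hQ)
  by_cases hQ' : P ≤ Q'
  · by_cases hO : Omp p P ≤ sA
    · by_cases hV : Omp p P ≤ sV
      · exact (esB1a h hQ' (A_le c.toCx hQ' hO) hV).imp_left (absurd · hQ)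
      · exact (esB1b c.toCx hQ' (A_le c.toCx hQ' hO) hO hV).elim
    · exact absurd (esB2 h hQ' hO) hQ
  obtain ⟨x, hx⟩ := exists_conj hQ' (Om_le c hQ hQ')
  obtain ⟨A, H, c⟩ := h (y6 x)
  have k := mt (img_cj_le (g := y6 x)).1 hQ
  have k' := mt (img_cj_le (g := y6 x)).1 hQ'
  exact absurd (esC3 c.toCx k k' (A_le' c k k') (esC2 c.toCx k k' (A_le' c k k') (Om_le c k k') hx)) c.ne

theorem ext_top' (hF : F.IsSaturated p) {R : Subgroup (U σ)} (h : ∀ E, F.IsEssential p E → Nat.card R ≤ Nat.card E → E = Q ∨ E = Q')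
    (hQ : ¬ R ≤ Q) (hQ' : ¬ R ≤ Q') {f : U σ → U σ} (hf : Mor F R f) : ∃ g, Mor F ⊤ g ∧ Set.EqOn g f R := by
  refine alperin_ind isPGroup_top hF (motive := fun f => ∃ g, Mor F ⊤ g ∧ Set.EqOn g f R) ⟨id, mor_id F le_rfl, fun _ _ => rfl⟩
    (fun f g ⟨k, hk, e⟩ e' => ⟨k, hk, e.trans e'⟩) (fun f E g hf ⟨k, hk, e⟩ hE hg _ m => ?_) hf
  rcases hE with rfl | hE
  · exact ⟨_, hg.comp hk fun _ _ => trivial, fun x hx => congrArg g (e hx)⟩
  obtain ⟨α, hα⟩ := exists_aut_top hk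
  rcases h E hE (hf.card_img.ge.trans (card_le_of_le (img_le_iff.2 m))) with rfl | rfl
  · exact absurd (fun x hx => (map_mem α x).2.2.2.2.1.1 (hα x ▸ e hx ▸ m x hx)) hQ
  · exact absurd (fun x hx => (map_mem α x).2.2.2.2.2.1 (hα x ▸ e hx ▸ m x hx)) hQ'

theorem ext_of_mem_extAut {P : Subgroup (U σ)} (h : ∀ R f, P < R → Mor F R f → ∃ g, Mor F ⊤ g ∧ Set.EqOn g f R) {α : MulAut P}
    (hα : α ∈ extAut F P) : ∃ g, Mor F ⊤ g ∧ Set.EqOn g (autFun α) P := by
  induction hα using closure_induction with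
  | mem α k =>
    obtain ⟨R, f, h1, h2, h3⟩ := k
    obtain ⟨g, hg, e⟩ := h R f h1 h2
    exact ⟨g, hg, (e.mono h1.le).trans h3⟩
  | one => exact ⟨id, mor_id F le_rfl, fun x hx => (autFun_one hx).symm⟩
  | mul α β _ _ ha hb =>
    obtain ⟨g, hg, e⟩ := ha
    obtain ⟨g', hg', e'⟩ := hb
    exact ⟨_, hg.comp hg' fun _ _ => trivial, fun x hx => by rw [Function.comp, e' hx, e (autFun_mem β hx), autFun_mul _ _ hx]⟩
  | inv α _ ha =>
    obtain ⟨g, hg, e⟩ := ha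
    obtain ⟨g', hg', i⟩ := exists_isoOn hg fun _ _ => trivial
    exact ⟨g', hg', fun x hx => by rw [← autFun_autFun_inv α hx, ← e (autFun_mem _ hx), i.left _ trivial, e (autFun_mem _ hx),
      autFun_autFun_inv α hx]⟩

theorem ess_cases (hF : F.IsSaturated p) {P : Subgroup (U σ)} (hE : F.IsEssential p P) : P = Q ∨ P = Q' := by
  induction hn : Nat.card (U σ) - Nat.card P using Nat.strong_induction_on generalizing P F with
  | _ n ih =>
  refine es_cases (p := p) fun g => ?_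
  obtain ⟨F', hc⟩ := (isoOn_cj (P := ⊤) g).exists_corr F
  have hF' := hc.isSaturated hF
  have hE' := (hc.isEssential_iff le_top).2 hE
  have e : Nat.card (img (cj g) P) = Nat.card P := (mor_cj' F P g).card_img
  refine ⟨_, _, cx_of_essential isPGroup_top hF' hE', (lt_of_essential isPGroup_top hF' hE').ne, fun hQ hQ' => ?_⟩
  rintro _ ⟨α, hα, rfl⟩
  obtain ⟨k, hk, e'⟩ := ext_of_mem_extAut (fun R f hR hf => ext_top' hF' (fun E hE hc => ih _ (by
    have := CL.Fus.card_lt_of_lt hR le_rfl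
    have := card_le_card_group E
    omega) hF' hE rfl) (fun k => hQ (hR.le.trans k)) (fun k => hQ' (hR.le.trans k)) hf) hα
  obtain ⟨β, hβ⟩ := exists_aut_top hk
  exact ⟨β, fun y hy => (e' hy).symm.trans (hβ y)⟩

theorem ext_top (hF : F.IsSaturated p) {R : Subgroup (U σ)} (hQ : ¬ R ≤ Q) (hQ' : ¬ R ≤ Q') {f : U σ → U σ} (hf : Mor F R f) :
    ∃ g, Mor F ⊤ g ∧ Set.EqOn g f R :=
  ext_top' hF (fun _ hE _ => ess_cases hF hE) hQ hQ' hf

/-- the elements of the strongly embedded subgroup of `Aut_F(Q)` extend to `S` -/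
theorem ext_extAutQ (hF : F.IsSaturated p) {α : MulAut (Q (σ := σ))} (hα : α ∈ extAut F Q) : ∃ g, Mor F ⊤ g ∧ Set.EqOn g (autFun α) (Q (σ := σ)) :=
  ext_of_mem_extAut (fun _ _ hR hf => ext_top hF hR.not_ge (fun k => one_ne_zero (α := K) (k (hR.le (show y1 1 (map_one σ) ∈ Q from rfl)))) hf) hα

theorem centric_of (hF : F.IsSaturated p) {P : Subgroup (U σ)} (hE : F.IsEssential p P) : F.IsCentric P :=
  ((isEssential_iff isPGroup_top hF).1 hE).1

theorem exists_move (hF : F.IsSaturated p) {P X : Subgroup (U σ)} (hE : F.IsEssential p P)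
    (h : ∀ f, Mor F P f → (∀ x ∈ P, f x ∈ P) → (∀ x ∈ X, f x ∈ X) → ∃ g, Mor F ⊤ g ∧ Set.EqOn g f P) :
    ∃ f f', Mor F P f ∧ Mor F P f' ∧ IsoOn P P f f' ∧ ¬ ∀ x ∈ X, f x ∈ X := by
  obtain ⟨α, hα, hα'⟩ := SetLike.exists_of_lt (extAut_lt_of_essential isPGroup_top hF hE)
  refine ⟨_, _, mor_autFun le_top hα, mor_autFun le_top (inv_mem hα), isoOn_autFun α, fun k => hα' ?_⟩
  obtain ⟨g, hg, e⟩ := h _ (mor_autFun le_top hα) (fun x hx => autFun_mem α hx) k
  exact mem_extAut (lt_of_essential isPGroup_top hF hE) hg e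

end CL.D3
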