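/-
S5261: points of `W` (the images of `V`); "`x` fixes the point `V`" is `x e4 ∈ VW`. Note `bW y e4 = y.u`, `bW y e1 = -y.w`, `VW = F e4`.
-/
import Cfsg.Agent.FUS.D3.Lin
import Cfsg.Agent.FUS.D3.Ess0

set_option autoImplicit false
set_option linter.unusedSimpArgs false
set_option linter.unusedSectionVars false

namespace CL.D3

open CL.Fus Subgroup

variable {K : Type*} [Field K] [Finite K] {σ : K →+* K} [T : Tri σ] {p : ℕ} [Fact p.Prime] [CharP K p]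
  {X : Subgroup (MulAut (W σ))} {x : MulAut (W σ)}

namespace LA

theorem bW_mul_left (a b c : W σ) : bW (a * b) c = bW a c + bW b c := by simp only [bW]; wsimp0; ring
theorem bW_mul_right (a b c : W σ) : bW a (b * c) = bW a b + bW a c := by simp only [bW]; wsimp0; ring
theorem bW_inv_left (a b : W σ) : bW a⁻¹ b = -bW a b := by simp only [bW]; wsimp0; ring
theorem bW_inv_right (a b : W σ) : bW a b⁻¹ = -bW a b := by simp only [bW]; wsimp0; ring
theorem bW_one_left (a : W σ) : bW 1 a = 0 := by simp [bW]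
theorem bW_one_right (a : W σ) : bW a 1 = 0 := by simp [bW]
theorem bW_skew (a b : W σ) : bW a b = -bW b a := by simp only [bW]; ring
theorem bW_self (a : W σ) : bW a a = 0 := by simp only [bW]; ring
theorem bW_e4 (a : W σ) : bW a e4 = a.u := by simp [bW]
theorem bW_e1 (a : W σ) : bW a e1 = -a.w := by simp [bW]
theorem σ_bW (a b : W σ) : σ (bW a b) = bW a b := by simp [bW]
theorem bW_sm_left {c : K} (hc : σ c = c) (a b : W σ) : bW (sm c hc a) b = c * bW a b := by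
  simp only [bW, sm_u, sm_s, sm_r, sm_w]; wsimp0; simp only [hc]; ring
theorem bW_sm_right {c : K} (hc : σ c = c) (a b : W σ) : bW a (sm c hc b) = c * bW a b := by
  simp only [bW, sm_u, sm_s, sm_r, sm_w]; wsimp0; simp only [hc]; ring
theorem bW_c {c : K} (hc : σ c = c) : bW (sm c hc e1) e4 = c := by rw [bW_e4]; simp
theorem e4_mem : (e4 : W σ) ∈ VW := ⟨rfl, rfl, rfl⟩
theorem e4_ne : (e4 : W σ) ≠ 1 := fun k => one_ne_zero (α := K) (congrArg W.w k)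
theorem sm_mem_VW {c : K} (hc : σ c = c) {v : W σ} (hv : v ∈ VW) : sm c hc v ∈ VW := by
  obtain ⟨h1, h2, h3⟩ := hv; exact ⟨by simp [h1], by simp [h2], by simp [h3]⟩
theorem sm_mem_AW {c : K} (hc : σ c = c) {v : W σ} (hv : v ∈ AW) : sm c hc v ∈ AW := by
  obtain ⟨h1, h2⟩ := hv; exact ⟨by simp [h1], by simp [h2]⟩
theorem w_ne {v : W σ} (hv : v ∈ VW) (h1 : v ≠ 1) : v.w ≠ 0 := fun e => h1 (W.ext hv.1 hv.2.1 hv.2.2 e)
theorem eq_sm {v v' : W σ} (hv : v ∈ VW) (h1 : v ≠ 1) (hv' : v' ∈ VW) : ∃ c hc, v' = sm c hc v := by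
  have := w_ne hv h1
  refine ⟨v'.w / v.w, by simp, W.ext ?_ ?_ ?_ ?_⟩
  · simp [hv.1, hv'.1]
  · simp [hv.2.1, hv'.2.1]
  · simp [hv.2.2, hv'.2.2]
  · simp [this]
theorem tt_pow_p (t : K) : tt (σ := σ) t ^ p = 1 := by rw [tt_pow, CharP.cast_eq_zero, zero_mul, tt_zero]
theorem tt_comm (t t' : K) : tt (σ := σ) t * tt t' = tt t' * tt t := by rw [← tt_add, ← tt_add, add_comm]
theorem tt_ne_one {t : K} (ht : t ≠ 0) : tt (σ := σ) t ≠ 1 := fun e => ht (tt_inj (e.trans tt_zero.symm))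
theorem conj_tt {a d : K} {ρ : RingAut K} (k : Ok σ a d) (t s : K) :
    tt t * dW a d ρ k * tt s * (tt t * dW a d ρ k)⁻¹ = tt (d * ρ s) := by
  rw [mul_inv_eq_iff_eq_mul, mul_assoc, dW_tt, ← mul_assoc, tt_comm, mul_assoc]
theorem dW_pow {a d : K} {ρ : RingAut K} (k : Ok σ a d) (n : ℕ) : ∃ a' d' k', dW a d ρ k ^ n = dW a' d' (ρ ^ n) k' := by
  induction n with
  | zero => exact ⟨1, 1, ok_one, by rw [pow_zero, pow_zero, dW_one]⟩
  | succ n ih =>
    obtain ⟨a', d', k', e⟩ := ih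
    exact ⟨_, _, _, by rw [pow_succ, e, dW_mul, pow_succ]⟩
theorem dW_pow1 {a d : K} (k : Ok σ a d) (n : ℕ) : ∃ k', dW a d 1 k ^ n = dW (a ^ n) (d ^ n) 1 k' := by
  induction n with
  | zero => exact ⟨by simpa using ok_one, by rw [pow_zero, ← dW_one ok_one]; exact dW_congr _ _ (by simp) (by simp) rfl⟩
  | succ n ih =>
    obtain ⟨k', e⟩ := ih
    exact ⟨⟨by simp [k.fx], pow_ne_zero _ k.a0, pow_ne_zero _ k.d0⟩,
      by rw [pow_succ, e, dW_mul]; exact dW_congr _ _ (by simp [pow_succ]) (by simp [pow_succ]) (mul_one _)⟩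

end LA

open LA

theorem bW_nondeg {y : W σ} (h : ∀ z, bW y z = 0) : y = 1 := by
  refine W.ext ?_ ?_ ?_ ?_
  · simpa [bW] using h e4
  · exact tr_nondeg (σ := σ) fun r => by simpa [bW] using h (e3 r)
  · exact tr_nondeg (σ := σ) fun s => by simpa [bW, mul_comm] using h (e2 s)
  · simpa [bW] using h e1

namespace QD

variable (h : QD p X)
include h

theorem tt_mem (t : K) : tt t ∈ X := h.syl.1 ⟨t, rfl⟩

omit h in
theorem _root_.CL.D3.LA.bW_ext {a b : W σ} (e : ∀ z, bW a z = bW b z) : a = b :=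
  mul_inv_eq_one.1 (bW_nondeg fun z => by rw [bW_mul_left, bW_inv_left, e, add_neg_cancel])

/-- `ζ 0 = 0` (`a = 1`); use `sim` for `x⁻¹` -/
theorem b_eq_zero (hx : x ∈ X) (a b : W σ) : bW (x a) (x b) = 0 ↔ bW a b = 0 := by
  have key : ∀ x ∈ X, ∀ a b, bW a b = 0 → bW (x a) (x b) = 0 := fun x hx a b e => by
    obtain ⟨ζ, hζ⟩ := h.sim x hx
    have := hζ 1 1
    rw [map_one, bW_one_left] at this
    rw [hζ, e, ← this]
  exact ⟨fun e => by simpa using key _ (X.inv_mem hx) _ _ e, key x hx a b⟩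

/-- Semilinearity. For `c, e ∈ F` and `z = bW a' b'` arbitrary in `F`: let `ζ, ζ'` belong to `x, x⁻¹`, `m = x ∘ sm c ∘ x⁻¹`, `g z = ζ (c ζ' z)`; `bW (m a) b = g (bW a b) = bW a (m b)`. So `g (e z) = g (bW a (sm e b)) = bW (m a) (sm e b) = e g z`, `g z = g 1 * z`, `bW (m a) b = bW (sm (g 1) a) b`, `bW_nondeg`. -/
theorem semi (hx : x ∈ X) {c : K} (hc : σ c = c) : ∃ c' hc', (c ≠ 0 → c' ≠ 0) ∧ ∀ y, x (sm c hc y) = sm c' hc' (x y) := by
  obtain ⟨ζ, hζ⟩ := h.sim x hx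
  obtain ⟨ζ', hζ'⟩ := h.sim _ (X.inv_mem hx)
  have k1 : ∀ a b, bW (x (sm c hc (x⁻¹ a))) b = ζ (c * ζ' (bW a b)) := fun a b => by
    rw [← hζ', ← bW_sm_left hc, ← hζ]; simp
  have k2 : ∀ e, σ e = e → ζ (c * ζ' e) = e * bW (x (sm c hc (x⁻¹ e1))) e4 := fun e he => by
    rw [← bW_sm_right he, k1, bW_sm_right, bW_e4]; simp
  have k3 : ∀ y, x (sm c hc y) = sm _ (σ_bW (x (sm c hc (x⁻¹ e1))) e4) (x y) := fun y => bW_ext fun z => by
    have := k1 (x y) z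
    rw [MulAut.inv_apply_self] at this
    rw [this, k2 _ (σ_bW _ _), bW_sm_left, mul_comm]
  refine ⟨_, _, fun h0 e => h0 ?_, k3⟩
  have : x (sm c hc e4) = 1 := by rw [k3]; ext <;> simp only [sm_u, sm_s, sm_r, sm_w, e, zero_mul, W.one_u, W.one_s, W.one_r, W.one_w]
  simpa using congrArg W.w ((map_eq_one_iff x x.injective).1 this)

/-- `semi` for `x⁻¹` -/
theorem semi' (hx : x ∈ X) {c' : K} (hc' : σ c' = c') : ∃ c hc, ∀ y, x (sm c hc y) = sm c' hc' (x y) := by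
  obtain ⟨c, hc, -, e⟩ := h.semi (X.inv_mem hx) hc'
  refine ⟨c, hc, fun y => ?_⟩
  have := e (x y)
  rw [MulAut.inv_apply_self] at this
  rw [← this, MulAut.apply_inv_self]

theorem stab (hx : x ∈ X) {v : W σ} (hv : v ∈ VW) (h1 : v ≠ 1) (e : x v ∈ VW) : ∀ v' ∈ VW, x v' ∈ VW := by
  intro v' hv'
  obtain ⟨c, hc, rfl⟩ := eq_sm hv h1 hv'
  obtain ⟨c', hc', -, k⟩ := h.semi hx hc
  rw [k]; exact sm_mem_VW _ e

theorem stab_inv (hx : x ∈ X) (e : x e4 ∈ VW) : x⁻¹ e4 ∈ VW := by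
  exact h.stab (X.inv_mem hx) e (by simpa using e4_ne) (by simpa using e4_mem) _ e4_mem

theorem stab_mul {y : MulAut (W σ)} (hx : x ∈ X) (hy : y ∈ X) (e : x e4 ∈ VW) (e' : y e4 ∈ VW) : (x * y) e4 ∈ VW := by
  exact h.stab hx e4_mem e4_ne e _ e'

theorem std' (hx : x ∈ X) (e : x e4 ∈ VW) : ∃ t a d ρ k, dW a d ρ k ∈ X ∧ x = tt t * dW a d ρ k :=
  h.std x hx (h.stab hx ⟨rfl, rfl, rfl⟩ (fun k => one_ne_zero (α := K) (congrArg W.w k)) e)

/-- `x = tt t * dW ..` normalises `TT` (`dW_tt`); `TT ⊔ zpowers x` is a `p`-group (`IsPGroup.to_sup_of_normal_left'`), maximality in `syl` -/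
theorem mem_TT_of (hx : x ∈ X) (e : x e4 ∈ VW) {n : ℕ} (hp : x ^ p ^ n = 1) : x ∈ TT σ := by
  obtain ⟨t, a, d, ρ, k, -, rfl⟩ := h.std' hx e
  refine h.syl.le_of_le_normalizer' (C := zpowers _) (zpowers_le.2 hx) ?_ (zpowers_le.2 ?_) (mem_zpowers _)
  · rintro ⟨_, m, rfl⟩
    exact ⟨n, Subtype.ext (show (_ ^ m) ^ p ^ n = 1 by rw [← zpow_natCast, ← zpow_mul, mul_comm, zpow_mul, zpow_natCast, hp, one_zpow])⟩
  · refine Subgroup.mem_normalizer_fintype ?_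
    rintro _ ⟨s, rfl⟩
    exact ⟨_, (conj_tt k t s).symm⟩

/-- `x⁻¹ tt t x` has order `p` (`tt_pow`), so is `tt t'`, `t' ≠ 0`; `ti` -/
theorem fix_tt (hx : x ∈ X) {t : K} (ht : t ≠ 0) (e : (x⁻¹ * tt t * x : MulAut (W σ)) e4 ∈ VW) : x e4 ∈ VW := by
  obtain ⟨t', e'⟩ := h.mem_TT_of (X.mul_mem (X.mul_mem (X.inv_mem hx) (h.tt_mem t)) hx) e (n := 1) (by
    rw [pow_one, show x⁻¹ * tt t * x = x⁻¹ * tt t * x⁻¹⁻¹ by rw [inv_inv], conj_pow, tt_pow_p]; simp)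
  refine h.ti x hx t' t ?_ (by rw [e']; group)
  rintro rfl
  rw [tt_zero] at e'
  exact tt_ne_one ht (by rw [show tt t = x * (x⁻¹ * tt t * x) * x⁻¹ by group, ← e']; group)

/-- `x v = (0, 0, r, w)` is fixed by `tt t`, `T(t r) = 0`, `t ≠ 0` (`exists_perp2`); `stab`, `fix_tt` -/
theorem notA (hx : x ∈ X) {v : W σ} (hv : v ∈ VW) (h1 : v ≠ 1) (e : x v ∈ AW) : x e4 ∈ VW := by
  obtain ⟨t, ht, e1, -⟩ := exists_perp2 (σ := σ) (x v).r (x v).r
  have k : tt t (x v) = x v := by ext <;> simp [e.1, e.2, cr, mul_comm _ t, e1]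
  refine h.fix_tt hx ht (h.stab (X.mul_mem (X.mul_mem (X.inv_mem hx) (h.tt_mem t)) hx) hv h1 ?_ _ e4_mem)
  simpa [k] using hv

/-- `dW ^ p = dW a' d' 1` has order dividing `m = |K| - 1`; `y = dW ^ m` has `y ^ p = 1`, so `y = tt t`; on `e2 s`: `ρ ^ m = 1`; `m` is prime to `p`. (Induction: `dW a d ρ ^ n = dW aₙ dₙ (ρ ^ n)`.) -/
theorem rho_eq_one {a d : K} {ρ : RingAut K} {k : Ok σ a d} (hx : dW a d ρ k ∈ X) (e : ρ ^ p = 1) : ρ = 1 := by
  have := Fintype.ofFinite K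
  obtain ⟨a', d', k', e1⟩ := dW_pow (ρ := ρ) k p
  obtain ⟨a'', d'', k'', e2⟩ := dW_pow (ρ := ρ) k (Fintype.card K - 1)
  have e3 : (dW a d ρ k ^ (Fintype.card K - 1)) ^ p ^ 1 = 1 := by
    obtain ⟨k3, e3⟩ := dW_pow1 k' (Fintype.card K - 1)
    rw [pow_one, ← pow_mul, mul_comm, pow_mul, e1, dW_congr _ k' rfl rfl e, e3, ← dW_one ok_one]
    exact dW_congr _ _ (FiniteField.pow_card_sub_one_eq_one _ k'.a0) (FiniteField.pow_card_sub_one_eq_one _ k'.d0) rfl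
  obtain ⟨t, ht⟩ := h.mem_TT_of (X.pow_mem hx _) (by rw [e2]; exact ⟨by simp, by simp, by simp⟩) e3
  rw [e2] at ht
  have k2 := fun s => congrArg (fun α : MulAut (W σ) => (α (D3.e2 s)).s) ht
  have k3 : a'' * d'' = 1 := by simpa using (k2 1).symm
  have k4 : ρ ^ (Fintype.card K - 1) = 1 := RingEquiv.ext fun s => by simpa [k3] using (k2 s).symm
  have k5 : p ∣ Fintype.card K := (CharP.cast_eq_zero_iff K p _).1 (FiniteField.cast_card_eq_zero K)
  have k6 : (Fintype.card K - 1).Coprime p := by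
    refine ((Nat.Prime.coprime_iff_not_dvd Fact.out).2 fun k => (Fact.out : p.Prime).one_lt.ne' (Nat.dvd_one.1 ?_)).symm
    have := Nat.dvd_sub k5 k
    rwa [Nat.sub_sub_self Fintype.card_pos] at this
  exact orderOf_eq_one_iff.1 (Nat.eq_one_of_dvd_coprimes k6 (orderOf_dvd_of_pow_eq_one k4) (orderOf_dvd_of_pow_eq_one e))

/-- An involution fixing `V` with multiplier `-1`. `x = tt t * dW a d ρ`: `a² N(d) ρ c = -c` on `F` (`bW_tt`, `bW_dW`), so `ρ = 1` on `F`; `x² = 1` on `(e2 s).s`: `a d ρ(a d) ρ² s = s`, `eq_one_of_sq`; `a² = 1`, `d² = 1`, `N(d) = -1`. -/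
theorem inv_form (hp : p ≠ 2) (hx : x ∈ X) (e : x e4 ∈ VW) (h2 : x * x = 1) (hb : ∀ a b, bW (x a) (x b) = -bW a b) :
    ∃ t a k, a ^ 2 = 1 ∧ x = tt t * dW a (-1) 1 k := by
  obtain ⟨t, a, d, ρ, k, -, rfl⟩ := h.std' hx e
  have k1 : ∀ c, σ c = c → a ^ 2 * nm σ d * ρ c = -c := fun c hc => by
    have := hb (sm c hc e1) e4
    rwa [MulAut.mul_apply, MulAut.mul_apply, bW_tt, bW_dW, bW_c] at this
  have k2 : a ^ 2 * nm σ d = -1 := by simpa using k1 1 (map_one _)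
  have k3 := fun s => congrArg (fun α : MulAut (W σ) => (α (D3.e2 s)).s) h2
  have k4 : a * d * (ρ a * ρ d) = 1 := by simpa using k3 1
  obtain rfl : ρ = 1 := eq_one_of_sq (σ := σ) (fun c hc => by simpa [k2] using k1 c hc) fun s => by
    have := k3 s
    simp at this
    linear_combination this - ρ (ρ s) * k4
  have k5 : a ^ 2 = 1 := by simpa [pow_two] using congrArg (fun α : MulAut (W σ) => (α e1).u) h2
  simp only [RingAut.one_apply] at k4
  have k6 : d ^ 2 = 1 := by linear_combination k4 - d ^ 2 * k5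
  obtain rfl : d = -1 := (sq_eq_one_iff.1 k6).resolve_left (by
    rintro rfl
    refine hp ((two_iff (K := K)).1 ?_)
    simp only [nm, map_one] at k2
    linear_combination k2 - k5)
  exact ⟨t, a, k, k5, rfl⟩

end QD

theorem ok_h : Ok σ 1 (-1) := ⟨map_one _, one_ne_zero, neg_ne_zero.2 one_ne_zero⟩

/-- `h_b(-1)`: `(u, s, r, w) ↦ (u, -s, r, -w)` -/
def hW : MulAut (W σ) := dW 1 (-1) 1 ok_h

theorem QD.hW_mem (h : QD p X) : hW ∈ X := by
  have := h.hb (-1) (by simpa using ok_h) (by simp)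
  rwa [dW_congr _ ok_h (by simp) (by simp) rfl] at this

end CL.D3
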