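/-
S5261: distinct points are not orthogonal.
-/
import Cfsg.Agent.FUS.D3.LinA

set_option autoImplicit false
set_option linter.unusedSimpArgs false
set_option linter.unusedSectionVars false

namespace CL.D3

open CL.Fus Subgroup

variable {K : Type*} [Field K] [Finite K] {σ : K →+* K} [T : Tri σ] {p : ℕ} [Fact p.Prime] [CharP K p]
  {X : Subgroup (MulAut (W σ))} {x : MulAut (W σ)}

open LA

namespace LB

theorem avg {V G : Type*} [CommGroup V] [Group G] [Finite G] (hV : ∀ y : V, y ^ p = 1) (φ : G →* MulAut V) (hφ : Function.Injective φ)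
    (P : Sylow p G) (hc : ∀ a ∈ (P : Subgroup G), ∀ b ∈ (P : Subgroup G), a * b = b * a)
    (ti : ∀ c, ∀ τ ∈ (P : Subgroup G), τ ≠ 1 → c * τ * c⁻¹ ∈ (P : Subgroup G) → c ∈ (P : Subgroup G)) {τ : G} (hτ : τ ∈ (P : Subgroup G))
    (h1 : τ ≠ 1) (hp : τ ^ p = 1) (h0 : ∀ y, ∏ i ∈ Finset.range p, (φ τ ^ i) y = 1) : (P : Subgroup G) = ⊤ := by
  classical
  have hP : normalizer (P : Set G) ≤ centralizer (P : Set G) := fun c hn =>
    mem_centralizer_iff.2 fun a ha => hc a ha c (ti c τ hτ h1 ((mem_normalizer_iff.1 hn τ).1 hτ))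
  have hL := MonoidHom.ker_transferSylow_isComplement' P hP
  have hd := MonoidHom.not_dvd_card_ker_transferSylow P hP
  have hN : (MonoidHom.transferSylow P hP).ker.Normal := inferInstance
  generalize (MonoidHom.transferSylow P hP).ker = L at hL hd hN
  have := Fintype.ofFinite L
  let S : V →* V := MonoidHom.mk' (fun y => ∏ l : L, φ l y) fun a b => by simp only [map_mul, Finset.prod_mul_distrib]
  have hS : ∀ y, S y = ∏ l : L, φ l y := fun _ => rfl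
  have k1 : ∀ s ∈ (P : Subgroup G), s ≠ 1 → ∀ y, ∏ l : L, φ (l * s * (l : G)⁻¹) y = S (φ s y) := fun s hs s1 y => by
    let f : L → L := fun l => ⟨l * (s * (l : G)⁻¹ * s⁻¹), L.mul_mem l.2 (hN.conj_mem _ (L.inv_mem l.2) s)⟩
    have hf : Function.Injective f := fun l l' e => by
      have e' : (l : G) * (s * (l : G)⁻¹ * s⁻¹) = l' * (s * (l' : G)⁻¹ * s⁻¹) := congrArg Subtype.val e
      have : (l' : G)⁻¹ * l ∈ (P : Subgroup G) := ti _ s hs s1 (by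
        rw [show (l' : G)⁻¹ * l * s * ((l' : G)⁻¹ * l)⁻¹ = (l' : G)⁻¹ * (l * (s * (l : G)⁻¹ * s⁻¹)) * s * l' by group, e']
        simpa [mul_assoc] using hs)
      exact Subtype.ext (inv_mul_eq_one.1 (disjoint_def.1 hL.disjoint (L.mul_mem (L.inv_mem l'.2) l.2) this)).symm
    rw [hS, ← (Equiv.ofBijective f (Finite.injective_iff_bijective.1 hf)).prod_comp fun l : L => φ l (φ s y)]
    refine Finset.prod_congr rfl fun l _ => ?_
    rw [← MulAut.mul_apply, ← map_mul]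
    simp [f, mul_assoc]
  have k2 : ∀ y, S y = y ^ Fintype.card L := fun y => by
    have e1 : ∏ i ∈ Finset.range p, ∏ l : L, φ (l * τ ^ i * (l : G)⁻¹) y = 1 := by
      rw [Finset.prod_comm]
      refine Finset.prod_eq_one fun l _ => ?_
      simp only [map_mul, MulAut.mul_apply, map_pow]
      rw [← map_prod, h0, map_one]
    have e2 : ∏ i ∈ Finset.range p, S ((φ τ ^ i) y) = 1 := by rw [← map_prod, h0, map_one]
    have o := orderOf_eq_prime hp h1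
    obtain ⟨n, hn⟩ : ∃ n, p = n + 1 := ⟨p - 1, by have := (Fact.out : p.Prime).pos; omega⟩
    rw [hn, Finset.prod_range_succ'] at e1 e2
    rw [Finset.prod_congr rfl fun i hi => k1 _ (pow_mem hτ (i + 1)) (pow_ne_one_of_lt_orderOf (by omega) (by
      have := Finset.mem_range.1 hi; omega)) y] at e1
    simp only [map_pow] at e1
    simpa using mul_left_cancel (e2.trans e1.symm)
  have k3 : L = ⊥ := (eq_bot_iff_forall _).2 fun l hl => hφ (MulEquiv.ext fun y => by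
    have e : S (φ l y) = S y := by
      rw [hS, hS, ← Equiv.prod_comp (Equiv.mulRight (⟨l, hl⟩ : L)) fun l : L => φ l y]
      simp
    rw [k2, k2, ← mul_inv_eq_one, ← inv_pow, ← mul_pow] at e
    rw [Nat.card_eq_fintype_card] at hd
    have := Nat.eq_one_of_dvd_coprimes ((Nat.Prime.coprime_iff_not_dvd Fact.out).2 hd) (orderOf_dvd_of_pow_eq_one (hV _))
      (orderOf_dvd_of_pow_eq_one e)
    simpa [mul_inv_eq_one] using this)
  simpa [k3] using hL.sup_eq_top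

theorem pow_co (y : W σ) (n : ℕ) : (y ^ n).u = n * y.u ∧ (y ^ n).s = n * y.s ∧ (y ^ n).r = n * y.r ∧ (y ^ n).w = n * y.w := by
  induction n with
  | zero => simp
  | succ n ih => simp [pow_succ, ih, add_mul]

theorem pow_p (y : W σ) : y ^ p = 1 := by
  obtain ⟨h1, h2, h3, h4⟩ := pow_co y p
  ext <;> simp [*]

theorem prod_co (t : K) (y : W σ) (n : ℕ) : ∃ a b c : K, 2 * a = n * (n - 1) ∧ 2 * 3 * b = n * (n - 1) * (2 * n - 1) ∧
    2 * 2 * c = (n * (n - 1)) ^ 2 ∧ ∀ z, z = ∏ i ∈ Finset.range n, (tt t ^ i) y → z.u = n * y.u ∧ z.s = n * y.s + a * (y.u * t) ∧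
      z.r = n * y.r + a * cr σ y.s t + b * (y.u * sh σ t) ∧
      z.w = n * y.w + a * tr σ (y.r * t) + b * tr σ (y.s * sh σ t) + c * (y.u * nm σ t) := by
  induction n with
  | zero => exact ⟨0, 0, 0, by simp, by simp, by simp, by rintro _ rfl; simp⟩
  | succ n ih =>
    obtain ⟨a, b, c, h1, h2, h3, h4⟩ := ih
    refine ⟨a + n, b + n ^ 2, c + n ^ 3, by push_cast; linear_combination h1, by push_cast; linear_combination h2,
      by push_cast; linear_combination h3, ?_⟩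
    rintro _ rfl
    obtain ⟨k1, k2, k3, k4⟩ := h4 _ rfl
    rw [Finset.prod_range_succ, tt_pow]
    simp only [W.mul_u, W.mul_s, W.mul_r, W.mul_w, k1, k2, k3, k4, tt_u, tt_s, tt_r, tt_w]
    push_cast
    asimp
    and_intros <;> ring

theorem prod_p (h2 : (2 : K) ≠ 0) (h3 : (3 : K) ≠ 0) (t : K) (y : W σ) : ∏ i ∈ Finset.range p, (tt t ^ i) y = 1 := by
  obtain ⟨a, b, c, k1, k2, k3, k4⟩ := prod_co t y p
  obtain ⟨e1, e2, e3, e4⟩ := k4 _ rfl
  have a0 : a = 0 := by simpa [h2] using k1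
  have b0 : b = 0 := by simpa [h2, h3] using k2
  have c0 : c = 0 := by simpa [h2] using k3
  ext <;> simp [*]

theorem tt_fix {y : W σ} (hy : y ∈ AW) {t : K} (e : tr σ (t * y.r) = 0) : tt t y = y := by
  ext <;> simp [hy.1, hy.2, cr, mul_comm _ t, e]

theorem hW_apply (y : W σ) : (hW y).u = y.u ∧ (hW y).s = -y.s ∧ (hW y).r = y.r ∧ (hW y).w = -y.w := by
  simp [hW, sh, nm]

theorem bW_hW (a b : W σ) : bW (hW a) (hW b) = -bW a b := by
  rw [hW, bW_dW]; simp [nm]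

end LB

/-- Proof. Burnside (`MonoidHom.ker_transferSylow_isComplement'` in `C`; `N_C(T) ≤ T ≤ C(T)` by `ti`, `T ≠ 1`): a normal complement `L`, `|L|` prime to `p`. For `0 < i < p`, `l ↦ l τ^i l⁻¹ τ^-i` is injective on `L` (`C_L(τ^i) ≤ T ⊓ L = 1`; `τ^i ≠ 1` if `τ ≠ 1`), so bijective: `∏_l (l τ^i l⁻¹) y = ∏_l l (τ^i y)`.
With `Σ y = ∏_l l y` (a homomorphism): `1 = Σ (∏_{i<p} τ^i y) = Σ y · ∏_l l (∏_{0<i<p} τ^i l⁻¹ y) = Σ y · ∏_l l (l⁻¹ y)⁻¹ = Σ y · y^(-|L|)`. `l₀ Σ y = Σ y` gives `(l₀ y)^|L| = y^|L|`, `l₀ y = y`. So `L = 1`. -/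
theorem frob_avg {V : Type*} [CommGroup V] [Finite V] (hV : ∀ y : V, y ^ p = 1) {C T : Subgroup (MulAut V)} (hT : SylIn p T C)
    (hc : ∀ a ∈ T, ∀ b ∈ T, a * b = b * a) (ti : ∀ c ∈ C, ∀ τ ∈ T, τ ≠ 1 → c * τ * c⁻¹ ∈ T → c ∈ T) {τ : MulAut V} (hτ : τ ∈ T) (h1 : τ ≠ 1)
    (hp : τ ^ p = 1) (h0 : ∀ y, ∏ i ∈ Finset.range p, (τ ^ i) y = 1) : C = T := by
  obtain ⟨h2, R, hR⟩ := sylIn_iff_exists_sylow.1 hT
  have m : ∀ a : C, a ∈ (R : Subgroup C) ↔ (a : MulAut V) ∈ T := fun a => by rw [hR]; rfl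
  have := LB.avg hV C.subtype C.subtype_injective R (fun a ha b hb => Subtype.ext (hc _ ((m a).1 ha) _ ((m b).1 hb)))
    (fun c s hs s1 e => (m c).2 (ti c c.2 s ((m s).1 hs) (fun e => s1 (Subtype.ext e)) ((m _).1 e))) (τ := ⟨τ, h2 hτ⟩) ((m _).2 hτ)
    (fun e => h1 (congrArg Subtype.val e)) (Subtype.ext hp) h0
  exact le_antisymm (fun c hc => (m ⟨c, hc⟩).1 (this ▸ mem_top _)) h2

/-- `p = 2`: `cr_range_two` gives `t₀` with the right `r` (`T(s (r + r')) = 0`); replacing `t₀` by `t₀ + c s` keeps `r` and adds `c² N(s)` to `w` (`exists_root`) -/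
theorem orbit_two (h2 : (2 : K) = 0) {a b : W σ} (ha : a.u = 0) (hb : b.u = 0) (e : a.s = b.s) (h0 : a.s ≠ 0) (qa : qW a = 0) (qb : qW b = 0) :
    ∃ t, b = tt t a := by
  have : CharP K 2 := CharTwo.of_one_ne_zero_of_two_eq_zero one_ne_zero h2
  simp only [qW, ha, hb, zero_mul, zero_add, ← e] at qa qb
  obtain ⟨t, ht⟩ := cr_range_two (σ := σ) h2 h0 (r := b.r - a.r) (by rw [mul_sub, tr_sub, qa, qb, sub_self])
  have n0 : nm σ a.s ≠ 0 := by simpa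
  obtain ⟨c, hc, k⟩ := exists_root (σ := σ) 2 (c := (b.w - a.w - tr σ (a.r * t) - tr σ (a.s * sh σ t)) / nm σ a.s) (by simp)
  rw [eq_div_iff n0] at k
  refine ⟨t + c * a.s, W.ext (by simp [ha, hb]) (by simp [ha, e]) ?_ ?_⟩
  · rw [tt_r, cr_add, cr_smul hc, cr_self, h2, ht, ha]; ring
  · rw [tt_w, ha]
    asimp at k qa ⊢
    simp only [hc]
    linear_combination -k - c * qa - (c ^ 2 * (a.s * σ a.s * σ (σ a.s)) +
      c * (t * (σ a.s * σ (σ a.s)) + σ t * (σ (σ a.s) * a.s) + σ (σ t) * (a.s * σ a.s))) * h2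

namespace QD

variable (h : QD p X)
include h

/-- Suppose `x e4 ∉ VW`; `v₁ = x e4 = (0, s, r, w)`, `s ≠ 0` (`notA`), singular. Take `y = e3 r'`, `r' ≠ 0`, `T(s r') = 0`. `v₁ y = tt t v₁` (`orbit_two`). `y' = x⁻¹ y` has `u = bW y' e4 = 0`, is singular, `(x⁻¹ tt t x) e4 = e4 y'`. If `y'.s = 0`: `notA` gives `e4 y' ∈ VW`, `y = x y'` with `1 ≠ y' ∈ VW`, `notA`, contradiction.
Else `y' = tt t' (e4 y')` (`orbit_two`), so `y = (x tt t' x⁻¹ tt t x) e4 ∈ AW`, `notA`: `y ∈ VW`, `r' = 0`. -/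
theorem notR_two (hp : p = 2) (hx : x ∈ X) (e : (x e4).u = 0) : x e4 ∈ VW := by
  by_contra hn
  have h2 := (two_iff (K := K)).2 hp
  have s0 : (x e4).s ≠ 0 := fun k => hn (h.notA hx e4_mem e4_ne ⟨e, k⟩)
  have q1 := h.sq hp x hx e4 (by simp [qW])
  obtain ⟨r, r0, hr, -⟩ := exists_perp2 (σ := σ) (x e4).s (x e4).s
  obtain ⟨t, ht⟩ := orbit_two h2 (a := x e4) (b := x e4 * e3 r) e (by simp [e]) (by simp) s0 q1 (by
    simp only [qW, e, zero_mul, zero_add] at q1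
    simp [qW, e, mul_add, tr_add, q1, mul_comm _ r, hr])
  obtain ⟨y, hy⟩ : ∃ y, x y = e3 r := x.surjective _
  have yu : y.u = 0 := by rw [← bW_e4, ← h.b_eq_zero hx, hy]; simp [bW, e, mul_comm _ r, hr]
  have q2 : qW y = 0 := by simpa [← hy] using h.sq hp _ (X.inv_mem hx) (e3 r) (by simp [qW])
  have hg := X.mul_mem (X.mul_mem (X.inv_mem hx) (h.tt_mem t)) hx
  have eg : (x⁻¹ * tt t * x : MulAut (W σ)) e4 = e4 * y := by
    rw [MulAut.mul_apply, MulAut.mul_apply, ← ht, ← hy, ← map_mul, MulAut.inv_apply_self]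
  by_cases ys : y.s = 0
  · have k := h.notA hg e4_mem e4_ne (by rw [eg]; exact ⟨by simp [yu], by simp [ys]⟩)
    rw [eg] at k
    refine hn (h.notA hx (v := y) ⟨yu, ys, by simpa using k.2.2⟩ ?_ (by rw [hy]; exact ⟨rfl, rfl⟩))
    rintro rfl
    exact r0 (by simpa using (congrArg W.r hy).symm)
  · obtain ⟨t', ht'⟩ := orbit_two h2 (a := e4 * y) (b := y) (by simp [yu]) yu (by simp) (by simpa) (by simpa [qW, yu] using q2) q2
    have eg' : (x * tt t' * (x⁻¹ * tt t * x) : MulAut (W σ)) e4 = e3 r := by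
      rw [MulAut.mul_apply, eg, MulAut.mul_apply, ← ht', hy]
    have k := h.notA (X.mul_mem (X.mul_mem hx (h.tt_mem t')) hg) e4_mem e4_ne (by rw [eg']; exact ⟨rfl, rfl⟩)
    rw [eg'] at k
    exact r0 k.2.2

/-- `v₁ = x e4 = (0, s, 0, w)`: `hW v₁ = v₁⁻¹`, so `k = x⁻¹ hW x` maps `e4` to its inverse; `inv_form` (multiplier: `bW (hW a) b' = ..`: `bW (x k a) (x k b) = -bW (x a) (x b) = bW (x a⁻¹) (x b)`, so `bW (x (k ..))`; use additivity of `bW` and `b_eq_zero`-type injectivity of `ζ`: `ζ c = bW (x (sm c e1)) (x e4)` is additive and injective on `F`), `a = 1` from `k e4 = e4⁻¹`.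
For `y = e3 r`, `T(s r) = 0`: `y' = x⁻¹ y` has `u = 0`, `k y' = y'`, so `-y'.s = y'.s`. -/
theorem I0_le (hp : p ≠ 2) (hx : x ∈ X) (e : (x e4).u = 0) (e' : (x e4).r = 0) {r : K} (hr : tr σ ((x e4).s * r) = 0) : x⁻¹ (e3 r) ∈ AW := by
  have hk := X.mul_mem (X.mul_mem (X.inv_mem hx) h.hW_mem) hx
  have k1 : (x⁻¹ * hW * x : MulAut (W σ)) e4 = e4⁻¹ := by
    have : hW (x e4) = (x e4)⁻¹ := by
      obtain ⟨a1, a2, a3, a4⟩ := LB.hW_apply (x e4)
      ext <;> simp [*]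
    rw [MulAut.mul_apply, MulAut.mul_apply, this, ← map_inv, MulAut.inv_apply_self]
  have k2 : (hW * hW : MulAut (W σ)) = 1 := MulEquiv.ext fun y => by
    obtain ⟨a1, a2, a3, a4⟩ := LB.hW_apply y
    obtain ⟨b1, b2, b3, b4⟩ := LB.hW_apply (hW y)
    ext <;> simp [*]
  obtain ⟨ζ, hζ⟩ := h.sim _ (X.inv_mem hx)
  obtain ⟨t, a, k, ha, ek⟩ := h.inv_form hp hk (by rw [k1]; exact VW.inv_mem e4_mem)
    (by rw [show x⁻¹ * hW * x * (x⁻¹ * hW * x) = x⁻¹ * (hW * hW) * x by group, k2]; group) fun a b => by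
      simp only [MulAut.mul_apply]
      rw [hζ, LB.bW_hW, ← bW_inv_left, ← hζ, ← map_inv, MulAut.inv_apply_self, MulAut.inv_apply_self, bW_inv_left]
  obtain ⟨y, hy⟩ : ∃ y, x y = e3 r := x.surjective _
  have yu : y.u = 0 := by rw [← bW_e4, ← h.b_eq_zero hx, hy]; simp [bW, e, hr]
  have k3 : (x⁻¹ * hW * x : MulAut (W σ)) y = y := by
    have : hW (e3 r : W σ) = e3 r := by
      obtain ⟨a1, a2, a3, a4⟩ := LB.hW_apply (e3 r : W σ)
      ext <;> simp [*]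
    rw [MulAut.mul_apply, MulAut.mul_apply, hy, this, ← hy, MulAut.inv_apply_self]
  rw [ek] at k1 k3
  have a1 : a = 1 := by simpa [nm, cr, sh] using congrArg W.w k1
  have k4 := congrArg W.s k3
  simp [a1, yu] at k4
  rw [← hy, MulAut.inv_apply_self]
  exact ⟨yu, (mul_eq_zero.1 (show 2 * y.s = 0 by linear_combination -k4)).resolve_left (mt (two_iff (K := K)).1 hp)⟩

theorem _root_.CL.D3.LB.conj_mem (hx : x ∈ X) (e : x e4 ∈ VW) (s : K) : x * tt s * x⁻¹ ∈ TT σ := by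
  obtain ⟨t, a, d, ρ, k, -, rfl⟩ := h.std' hx e
  exact ⟨_, (conj_tt k t s).symm⟩

theorem _root_.CL.D3.LB.notR0 (hp : p ≠ 2) (hx : x ∈ X) (e : (x e4).u = 0) (e' : (x e4).r = 0) : x e4 ∈ VW := by
  by_contra hn
  have s0 : (x e4).s ≠ 0 := fun k => hn ⟨e, k, e'⟩
  have h2 : (2 : K) ≠ 0 := mt (two_iff (K := K)).1 hp
  have I0 := fun r => h.I0_le hp hx e e' (r := r)
  generalize hs : (x e4).s = s at s0 I0
  by_cases h3 : (3 : K) = 0
  · have k1 : tt s (x e4) = x e4 * e3 (2 * sh σ s) := by ext <;> simp [e, e', hs, cr_self, tr_mul_sh, h3]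
    have k2 := I0 (2 * sh σ s) (by rw [mul_left_comm, tr_smul (map_ofNat σ 2), tr_mul_sh, h3]; simp)
    refine hn (h.fix_tt hx s0 (h.notA (X.mul_mem (X.mul_mem (X.inv_mem hx) (h.tt_mem s)) hx) e4_mem e4_ne ?_))
    rw [MulAut.mul_apply, MulAut.mul_apply, k1, map_mul, MulAut.inv_apply_self]
    exact AW.mul_mem ⟨rfl, rfl⟩ k2
  obtain ⟨r₁, n1, p1, -⟩ := exists_perp2 (σ := σ) s s
  obtain ⟨f, hf⟩ := exists_tr_mul (σ := σ) n1 (map_one σ)
  obtain ⟨r₂, n2, p2, p3⟩ := exists_perp2 (σ := σ) s f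
  have nf : σ (r₂ / r₁) ≠ r₂ / r₁ := fun k => by
    rw [show r₂ * f = r₂ / r₁ * (f * r₁) by field_simp, tr_smul k, hf] at p3
    simp [n1, n2] at p3
  let C : Subgroup (MulAut (W σ)) :=
    { carrier := {c | c ∈ X ∧ c (e3 r₁) = e3 r₁ ∧ c (e3 r₂) = e3 r₂ ∧ ∀ a b, bW (c a) (c b) = bW a b}
      one_mem' := ⟨X.one_mem, rfl, rfl, fun _ _ => rfl⟩
      mul_mem' := fun ⟨a1, a2, a3, a4⟩ ⟨b1, b2, b3, b4⟩ => ⟨X.mul_mem a1 b1, by rw [MulAut.mul_apply, b2, a2],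
        by rw [MulAut.mul_apply, b3, a3], fun a b => by rw [MulAut.mul_apply, MulAut.mul_apply, a4, b4]⟩
      inv_mem' := fun {c} ⟨a1, a2, a3, a4⟩ => ⟨X.inv_mem a1, by rw [← a2, MulAut.inv_apply_self, a2],
        by rw [← a3, MulAut.inv_apply_self, a3], fun a b => by rw [← a4, MulAut.apply_inv_self, MulAut.apply_inv_self]⟩ }
  have hs' : tt s ∈ TT σ ⊓ C := ⟨⟨s, rfl⟩, h.tt_mem s, LB.tt_fix ⟨rfl, rfl⟩ (by rwa [mul_comm]), LB.tt_fix ⟨rfl, rfl⟩ (by rwa [mul_comm]),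
    bW_tt s⟩
  have syl : SylIn p (TT σ ⊓ C) C := ⟨inf_le_right, h.syl.isPGroup.to_le inf_le_left, fun R hR hp' hle => by
    obtain ⟨g, hg, k⟩ := h.syl.exists_conj_le (C := R) (fun c hc => (hR hc).1) hp'
    obtain ⟨t', ht'⟩ := k _ (hle hs')
    refine le_antisymm (fun c hc => ⟨?_, hR hc⟩) hle
    obtain ⟨t, ht⟩ := k c hc
    have := LB.conj_mem h (X.inv_mem hg) (h.stab_inv hg (h.ti g hg s t' s0 ht'.symm)) t
    rwa [ht, show g⁻¹ * (g * c * g⁻¹) * g⁻¹⁻¹ = c by group] at this⟩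
  have key := frob_avg (p := p) LB.pow_p syl (by rintro _ ⟨⟨a, rfl⟩, -⟩ _ ⟨⟨b, rfl⟩, -⟩; exact tt_comm a b) (by
    rintro c hc _ ⟨⟨t, rfl⟩, -⟩ t1 ⟨⟨t', ht'⟩, -⟩
    refine ⟨?_, hc⟩
    obtain ⟨c1, c2, c3, c4⟩ := hc
    obtain ⟨t, a, d, ρ, k, -, rfl⟩ := h.std' c1 (h.ti c c1 t t' (fun e => t1 (by rw [e, tt_zero])) ht'.symm)
    have k1 : ∀ c, σ c = c → a ^ 2 * nm σ d * ρ c = c := fun c hc => by
      have := c4 (sm c hc e1) e4
      rwa [MulAut.mul_apply, MulAut.mul_apply, bW_tt, bW_dW, bW_c] at this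
    have k2 : a ^ 2 * nm σ d = 1 := by simpa using k1 1 (map_one _)
    have k3 : a * sh σ d * ρ r₁ = r₁ := by simpa [cr] using congrArg W.r c2
    have k4 : a * sh σ d * ρ r₂ = r₂ := by simpa [cr] using congrArg W.r c3
    obtain rfl : ρ = 1 := eq_one_of_fix (σ := σ) (fun c hc => by simpa [k2] using k1 c hc) nf (by
      rw [map_div₀, div_eq_div_iff (by simpa) n1]; linear_combination ρ r₁ * k4 - ρ r₂ * k3)
    have k5 : a * sh σ d = 1 := by simpa [n1] using k3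
    have k6 : a ^ 3 * nm σ d ^ 2 = 1 := by
      have := congrArg (nm σ) k5
      rw [nm_mul, nm_fx k.fx] at this
      asimp at this ⊢
      linear_combination this
    obtain rfl : a = 1 := by linear_combination (a ^ 2 * nm σ d + 1) * k2 - a * k6
    obtain rfl : d = 1 := by linear_combination k2 + mul_sh (σ := σ) d - d * k5
    exact ⟨t, by rw [dW_one, mul_one]⟩) hs' (tt_ne_one s0) (tt_pow_p s) (LB.prod_p h2 h3 s)
  have i1 := I0 r₁ (by rwa [mul_comm])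
  have i2 := I0 r₂ (by rwa [mul_comm])
  obtain ⟨t, t0, q1, q2⟩ := exists_perp2 (σ := σ) (x⁻¹ (e3 r₁) : W σ).r (x⁻¹ (e3 r₂) : W σ).r
  obtain ⟨ζ, hζ⟩ := h.sim x hx
  have : x * tt t * x⁻¹ ∈ C := ⟨X.mul_mem (X.mul_mem hx (h.tt_mem t)) (X.inv_mem hx),
    by rw [MulAut.mul_apply, MulAut.mul_apply, LB.tt_fix i1 q1, MulAut.apply_inv_self],
    by rw [MulAut.mul_apply, MulAut.mul_apply, LB.tt_fix i2 q2, MulAut.apply_inv_self], fun a b => by
      simp only [MulAut.mul_apply]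
      rw [hζ, bW_tt, ← hζ, MulAut.apply_inv_self, MulAut.apply_inv_self]⟩
  rw [key] at this
  obtain ⟨t', ht'⟩ := this.1
  exact hn (h.ti x hx t t' t0 ht'.symm)

/-- Suppose `x e4 ∉ VW`, `p ≠ 2`; replace `x` by `tt t * x` so that `v₁ = (0, s, 0, w)`, `s ≠ 0` (`cr_surj`). `p = 3`: `tt s v₁ = v₁ y`, `y = e3 (2 s^#)` (`T(s s^#) = 3 N s = 0`); `(x⁻¹ tt s x) e4 = e4 x⁻¹ y ∈ AW`; `notA`, `fix_tt`.
`p ≥ 5`: `r₁, r₂` independent with `T(s rᵢ) = 0` (`exists_perp2`, ...; `r₁ ⊥ s`, `r₂ ⊥ s, e` with `T(e r₁) = 1`). `C = {c ∈ X | c` fixes all `sm e (e3 rᵢ)`, `bW (c a) (c b) = bW a b}`, `T' = TT ⊓ C ∋ tt s`. `T'` is Sylow in `C`: a `p`-subgroup `R ≥ T'` of `C` lies in `g TT g⁻¹` (`SylIn.exists_conj_le`), `tt s ∈ g TT g⁻¹`, `ti`, so `g` normalises `TT`.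
`ti` of `frob_avg`: `c = tt t * dW a d ρ` (`ti`, `std'`), `a² N(d) ρ = 1` on `F`, `a d^# ρ rᵢ = rᵢ`, so `ρ` fixes `r₂ / r₁ ∉ F` (`eq_one_of_fix`, `ind_iff`), `a d^# = 1`, norms: `a = 1`, `N d = 1`, `d = 1`. `∏_{i<p} tt (i s) y = 1`: `∑_{i<p} i^k = 0` in `K` for `k ≤ 3` (`FiniteField.sum_pow_lt_card_sub_one (ZMod p)`, or `Finset.sum_range_id_mul_two`-type closed forms).
So `C = T'`. `x⁻¹ (e3 rᵢ) ∈ AW` (`I0_le`); `t ≠ 0` orthogonal to both `r`-coordinates (`exists_perp2`): `x tt t x⁻¹ ∈ C` (`semi'`, `sim`, `bW_tt`), so `∈ TT`, `ti`. -/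
theorem notR (hx : x ∈ X) (e : (x e4).u = 0) : x e4 ∈ VW := by
  by_cases hp : p = 2
  · exact h.notR_two hp hx e
  by_contra hn
  have s0 : (x e4).s ≠ 0 := fun k => hn (h.notA hx e4_mem e4_ne ⟨e, k⟩)
  obtain ⟨t, ht⟩ := cr_surj (σ := σ) (mt (two_iff (K := K)).1 hp) s0 (-(x e4).r)
  have k := LB.notR0 h hp (X.mul_mem (h.tt_mem t) hx) (by simp [e]) (by simp [e, ht])
  exact s0 (by simpa [e] using k.2.1)

/-- orthogonal points are equal -/
theorem eq_of_perp {y : MulAut (W σ)} (hx : x ∈ X) (hy : y ∈ X) (e : bW (y e4) (x e4) = 0) : ∃ c hc, y e4 = sm c hc (x e4) := by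
  have k := h.notR (X.mul_mem (X.inv_mem hx) hy) (by
    rw [← bW_e4, ← h.b_eq_zero hx, MulAut.mul_apply, MulAut.apply_inv_self, e])
  obtain ⟨c, hc, k1⟩ := eq_sm e4_mem e4_ne k
  obtain ⟨c', hc', -, k2⟩ := h.semi hx hc
  exact ⟨c', hc', by rw [← k2, ← k1, MulAut.mul_apply, MulAut.apply_inv_self]⟩

end QD

end CL.D3
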