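/-
S5261: `Y₁ Z / Z` is a point.
-/
import Cfsg.Agent.FUS.D3.LinB
import Cfsg.Agent.SOLV.CoprimeGen

set_option autoImplicit false
set_option linter.unusedSimpArgs false
set_option linter.unusedSectionVars false

namespace CL.D3

open CL.Fus Subgroup

variable {K : Type*} [Field K] [Finite K] {σ : K →+* K} [T : Tri σ] {p : ℕ} [Fact p.Prime] [CharP K p]
  {X : Subgroup (MulAut (W σ))} {x : MulAut (W σ)}

namespace LC

theorem burn {G : Type*} [Group G] [Finite G] {S C : Subgroup G} (s : SylIn p S C)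
    (hc : ∀ n ∈ C, (∀ t ∈ S, n * t * n⁻¹ ∈ S) → ∀ t ∈ S, t * n = n * t) :
    ∃ L ≤ C, C ≤ normalizer (L : Set G) ∧ (Nat.card S).Coprime (Nat.card L) ∧ C ≤ L ⊔ S := by
  obtain ⟨h1, R, hR⟩ := sylIn_iff_exists_sylow.1 s
  have hP : normalizer ((R : Subgroup C) : Set C) ≤ centralizer ((R : Subgroup C) : Set C) := fun n hn d hd => by
    rw [hR] at hn hd
    exact Subtype.ext (hc n n.2 (fun t ht => (mem_normalizer_iff.1 hn ⟨t, h1 ht⟩).1 ht) d hd)
  have k := MonoidHom.ker_transferSylow_isComplement' R hP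
  refine ⟨(MonoidHom.transferSylow R hP).ker.map C.subtype, map_subtype_le _, fun c hc => mem_normalizer_fintype ?_, ?_, fun c hc => ?_⟩
  · rintro _ ⟨l, hl, rfl⟩
    exact ⟨_, Normal.conj_mem inferInstance l hl ⟨c, hc⟩, rfl⟩
  · rw [card_map_of_injective C.subtype_injective, ← k.index_eq_card, ← Nat.card_congr (subgroupOfEquivOfLe h1).toEquiv, ← hR]
    exact R.card_coprime_index
  · obtain ⟨⟨l, d⟩, e⟩ := k.2 ⟨c, hc⟩
    have hd : (d : C) ∈ S.subgroupOf C := hR ▸ d.2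
    rw [show c = (l : C) * (d : C) from (congrArg Subtype.val e).symm]
    exact mul_mem_sup ⟨_, l.2, rfl⟩ hd

/-- the stabiliser of `V` -/
def St (h : QD p X) : Subgroup (MulAut (W σ)) where
  carrier := {y | y ∈ X ∧ y e4 ∈ VW}
  one_mem' := ⟨one_mem _, rfl, rfl, rfl⟩
  mul_mem' ha hb := ⟨mul_mem ha.1 hb.1, h.stab_mul ha.1 hb.1 ha.2 hb.2⟩
  inv_mem' ha := ⟨inv_mem ha.1, h.stab_inv ha.1 ha.2⟩

theorem tt_St (h : QD p X) (t : K) : tt t ∈ St h := ⟨h.tt_mem t, rfl, by simp, by simp [cr]⟩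
theorem hW_St (h : QD p X) : hW ∈ St h := ⟨h.hW_mem, by simp [hW], by simp [hW], by simp [hW]⟩

theorem hW_tt (t : K) : (hW : MulAut (W σ)) * tt t = tt (-t) * hW := by rw [hW, dW_tt]; simp
theorem hW_sq : (hW : MulAut (W σ)) * hW = 1 := by rw [hW, dW_mul, dW_congr _ ok_one (by simp) (by simp) (mul_one _), dW_one]
theorem dW_hW {a d : K} {ρ : RingAut K} (k : Ok σ a d) : dW a d ρ k * hW = hW * dW a d ρ k := by
  rw [hW, dW_mul, dW_mul]; exact dW_congr _ _ (by simp) (by simp) (by simp)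
theorem cj_hW (t : K) : tt t * hW * (tt t)⁻¹ = (tt (t + t) * hW : MulAut (W σ)) := by
  rw [mul_assoc, ← tt_neg, hW_tt, neg_neg, tt_add, mul_assoc]
theorem i_sq (t : K) : tt t * hW * (tt t * hW) = (1 : MulAut (W σ)) := by
  rw [mul_assoc, ← mul_assoc hW, hW_tt, mul_assoc, hW_sq, mul_one, ← tt_add, add_neg_cancel, tt_zero]

theorem dih {G : Type*} [Group G] {i j : G} (hi : i * i = 1) (hj : j * j = 1) (n : ℕ) : i * (i * j) ^ n = ((i * j) ^ n)⁻¹ * i := by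
  have : i * (i * j) * i⁻¹ = (i * j)⁻¹ := by
    rw [← mul_assoc, hi, one_mul, mul_inv_rev, inv_eq_of_mul_eq_one_right hj]
  rw [← inv_pow, ← this, conj_pow, inv_mul_cancel_right]

theorem p_dvd : p ∣ Nat.card K := by
  have := Fintype.ofFinite K
  rw [← CharP.cast_eq_zero_iff K p, Nat.card_eq_fintype_card, FiniteField.cast_card_eq_zero]

end LC

open LC

namespace QD

variable (h : QD p X)
include h

/-- Proof. Suppose not: (H) `y ∈ X`, `(y⁻¹ hW y) e4 ∈ VW` ⇒ `y e4 ∈ VW`. `St = {y ∈ X | y e4 ∈ VW}` (a subgroup: `stab_mul`, `stab_inv`). `hW² = 1`, `hW tt t hW = tt (-t)`, `dW` commutes with `hW`. (1) A conjugate `y hW y⁻¹ ∈ St` has `y ∈ St` by (H), `y = tt t * dW`, so equals `i_{2t}`, `i_t = tt t * hW = tt (t/2) hW tt (t/2)⁻¹`.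
Fix `x ∈ X ∖ St` (`ne`), `j = x hW x⁻¹`. (2) `i j` has odd order (`i = i_t`): if the order is `2 m`, `z = (i j)^m ≠ 1`, `z² = 1`, commutes with `i` (`CL.Inv.central_involution_of_even`), so `z ∈ St` by (H) for `tt (t/2)⁻¹ z tt (t/2)`; `i z` is conjugate to `i` (`m = 2n`: `(ij)^-n i (ij)^n`) or `j` (`m = 2n+1`: `(ij)^-n j (ij)^n`), lies in `St`, so `i z = i_t'`, `z = tt (t - t')`, `2 (t - t') = 0`, `z = 1`.
(3) order `2m+1`: `k_t = (i j)^m i` is an involution with `k i k = j`. By (H) `x⁻¹ k_t ∈ St` (`k⁻¹ x` conjugates `hW` to `i ∈ St`). So `g_t = k_t k_0 ∈ G₂ = St ⊓ x St x⁻¹` and `g_t i_0 g_t⁻¹ = i_t`. The orbit of `hW = i_0` under conjugation by `G₂` is `{i_t}`, of size `|K|`, so `p ∣ |G₂|`;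
`g ∈ G₂` of order `p` is `tt t`, `t ≠ 0` (`mem_TT_of`) with `x⁻¹ g x ∈ St`; `fix_tt`. -/
theorem exists_fix (hp : p ≠ 2) : ∃ x ∈ X, x e4 ∉ VW ∧ (x⁻¹ * hW * x : MulAut (W σ)) e4 ∈ VW := by
  by_contra! H
  have h2 : (2 : K) ≠ 0 := fun e => hp (two_iff.1 e)
  have H0 : ∀ y ∈ X, y⁻¹ * hW * y ∈ St h → y ∈ St h := fun y hy k => ⟨hy, by_contra fun n => H y hy n k.2⟩
  have ci : ∀ t : K, tt t * hW = tt (t / 2) * hW * (tt (t / 2) : MulAut (W σ))⁻¹ := fun t => by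
    rw [cj_hW, ← two_mul, mul_div_cancel₀ _ h2]
  have H1 : ∀ t, ∀ y ∈ X, y⁻¹ * (tt t * hW) * y ∈ St h → y ∈ St h := fun t y hy k => by
    have := H0 ((tt (t / 2))⁻¹ * y) (mul_mem (inv_mem (h.tt_mem _)) hy) (by rw [ci] at k; simpa [mul_assoc] using k)
    exact (mul_mem_cancel_left (inv_mem (tt_St h _))).1 this
  have H2 : ∀ y ∈ St h, ∃ t, y * hW * y⁻¹ = tt t * hW := fun y hy => by
    obtain ⟨t, a, d, ρ, k, -, rfl⟩ := h.std' hy.1 hy.2
    exact ⟨t + t, by rw [← cj_hW, mul_assoc (tt t), dW_hW]; group⟩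
  obtain ⟨x, hx, nx⟩ := h.ne
  have hj : x * hW * x⁻¹ * (x * hW * x⁻¹) = 1 := by
    rw [show x * hW * x⁻¹ * (x * hW * x⁻¹) = x * (hW * hW) * x⁻¹ by group, hW_sq]; group
  have mj : x * hW * x⁻¹ ∈ X := mul_mem (mul_mem hx h.hW_mem) (inv_mem hx)
  have mi : ∀ t, tt t * hW ∈ St h := fun t => mul_mem (tt_St h t) (hW_St h)
  have key : ∀ t, ∃ k ∈ X, k * k = 1 ∧ k * (tt t * hW) * k⁻¹ = x * hW * x⁻¹ := fun t => by
    have hi := i_sq (σ := σ) t
    have m := mi t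
    have c := ci t
    have k1 := H1 t
    obtain ⟨i, ei⟩ : ∃ i : MulAut (W σ), i = tt t * hW := ⟨_, rfl⟩
    rw [← ei] at hi m c k1 ⊢
    obtain ⟨j, ej⟩ : ∃ j, j = x * hW * x⁻¹ := ⟨_, rfl⟩
    rw [← ej] at hj mj ⊢
    have ms : ∀ n : ℕ, (i * j) ^ n ∈ X := fun n => pow_mem (mul_mem m.1 mj) n
    have d1 := dih hi hj
    have ii : i⁻¹ = i := inv_eq_of_mul_eq_one_right hi
    obtain ⟨n, e | e⟩ := Nat.even_or_odd' (orderOf (i * j))
    · exfalso
      have n0 : n ≠ 0 := by rintro rfl; exact (orderOf_pos _).ne' e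
      have z2 : (i * j) ^ n * (i * j) ^ n = 1 := by rw [← pow_add, ← two_mul, ← e, pow_orderOf_eq_one]
      have z1 : (i * j) ^ n ≠ 1 := pow_ne_one_of_lt_orderOf n0 (by omega)
      have mz : (i * j) ^ n ∈ St h := k1 _ (ms n) (by rwa [mul_assoc, d1, ← mul_assoc, ← mul_inv_rev, z2, inv_one, one_mul])
      obtain ⟨w, hw, ew⟩ : ∃ w ∈ X, i * (i * j) ^ n = w * hW * w⁻¹ := by
        obtain ⟨l, rfl | rfl⟩ := Nat.even_or_odd' n
        · refine ⟨((i * j) ^ l)⁻¹ * tt (t / 2), mul_mem (inv_mem (ms l)) (h.tt_mem _), ?_⟩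
          rw [two_mul, pow_add, ← mul_assoc, d1]
          conv_lhs => enter [1, 2]; rw [c]
          group
        · refine ⟨((i * j) ^ l)⁻¹ * x, mul_mem (inv_mem (ms l)) hx, ?_⟩
          rw [show 2 * l + 1 = l + (1 + l) by ring, pow_add, pow_add, ← mul_assoc, d1, pow_one, mul_assoc, ← mul_assoc i, ← mul_assoc i, hi,
            one_mul]
          conv_lhs => enter [2, 1]; rw [ej]
          group
      obtain ⟨t', e'⟩ := H2 w (by simpa using inv_mem (H0 w⁻¹ (inv_mem hw) (by rw [inv_inv, ← ew]; exact mul_mem m mz)))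
      have ez : (i * j) ^ n = tt (t - t') := by
        rw [← inv_mul_cancel_left i (_ ^ n), ew, e', ii, ei, mul_assoc, ← mul_assoc hW, hW_tt, mul_assoc, hW_sq, mul_one, ← tt_add, sub_eq_add_neg]
      rw [ez, ← tt_add, ← tt_zero] at z2
      rw [ez, (mul_eq_zero.1 ((two_mul _).trans (tt_inj z2))).resolve_left h2] at z1
      exact z1 tt_zero
    · refine ⟨(i * j) ^ n * i, mul_mem (ms n) m.1, by rw [mul_assoc, ← mul_assoc i, d1, mul_assoc, hi]; simp, ?_⟩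
      have z : (i * j) ^ n * (i * j) ^ n * (i * j) = 1 := by rw [← pow_add, ← two_mul, ← pow_succ, ← e, pow_orderOf_eq_one]
      have d2 : i * ((i * j) ^ n)⁻¹ = (i * j) ^ n * i := by rw [mul_inv_eq_iff_eq_mul, mul_assoc, d1, mul_inv_cancel_left]
      rw [mul_inv_rev, ← mul_assoc, mul_inv_cancel_right, mul_assoc, d2, ← mul_assoc, eq_inv_of_mul_eq_one_left z, mul_inv_rev,
        inv_mul_cancel_right, inv_eq_of_mul_eq_one_right hj]
  choose k mk k2 ke using key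
  have ki : ∀ t, (k t)⁻¹ = k t := fun t => inv_eq_of_mul_eq_one_right (k2 t)
  have sk : ∀ t, x⁻¹ * k t ∈ St h := fun t => H0 _ (mul_mem (inv_mem hx) (mk t)) (by
    rw [show (x⁻¹ * k t)⁻¹ * hW * (x⁻¹ * k t) = (k t)⁻¹ * (x * hW * x⁻¹) * k t by group, ← ke t]; simpa [mul_assoc] using mi t)
  let G₂ : Subgroup (MulAut (W σ)) := St h ⊓ (St h).comap (MulAut.conj x⁻¹).toMonoidHom
  have cd := relIndex_eq_ncard (M := centralizer {hW}) (C := G₂) (fun g => g * hW * g⁻¹) fun m _ m' _ => by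
    rw [mem_centralizer_singleton_iff]
    constructor <;> intro e
    · rw [mul_assoc, ← inv_mul_cancel_right (m' * hW) m', ← e, ← mul_assoc hW, ← mul_assoc, mul_left_inj]; group
    · rw [← mul_inv_cancel_left m m', mul_assoc m _ hW, e]; group
  have im : (fun g => g * hW * g⁻¹) '' (G₂ : Set (MulAut (W σ))) = Set.range fun t => tt t * hW := by
    ext y
    refine ⟨by rintro ⟨g, hg, rfl⟩; exact (H2 g hg.1).imp fun t e => e.symm, ?_⟩
    rintro ⟨t, rfl⟩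
    refine ⟨k t * k 0, ⟨?_, ?_⟩, ?_⟩
    · have := mul_mem (inv_mem (sk t)) (sk 0)
      rwa [mul_inv_rev, ki, inv_inv, mul_assoc, mul_inv_cancel_left] at this
    · have := mul_mem (sk t) (inv_mem (sk 0))
      rw [mul_inv_rev, ki, inv_inv] at this
      simpa [mul_assoc] using this
    · have e0 := ke 0
      rw [tt_zero, one_mul] at e0
      change k t * k 0 * hW * (k t * k 0)⁻¹ = tt t * hW
      rw [show k t * k 0 * hW * (k t * k 0)⁻¹ = k t * (k 0 * hW * (k 0)⁻¹) * (k t)⁻¹ by group, e0, ← ke t, ← mul_assoc, ← mul_assoc, k2, one_mul,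
        mul_assoc, ← mul_inv_rev, k2, inv_one, mul_one]
  rw [im, Set.ncard_range_of_injective fun t t' e => tt_inj (mul_right_cancel e)] at cd
  obtain ⟨g, hg⟩ := exists_prime_orderOf_dvd_card' (G := G₂) p ((p_dvd (K := K)).trans (by rw [← cd]; exact index_dvd_card _))
  rw [← orderOf_coe] at hg
  obtain ⟨t, e⟩ := h.mem_TT_of g.2.1.1 g.2.1.2 (n := 1) (by rw [pow_one, ← hg, pow_orderOf_eq_one])
  refine nx (h.fix_tt hx (t := t) ?_ ?_)
  · rintro rfl
    rw [← e, tt_zero, orderOf_one] at hg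
    exact (Fact.out : p.Prime).ne_one hg.symm
  · rw [e]; simpa using g.2.2.2

/-- `p = 2`: `x e4 = (u, s, r, w)`, `u ≠ 0` (`notR`), `tt (-s/u) * x`, singular (`sq`). `p ≠ 2`: `exists_fix`; `hW (x e4) = x v`, `v ∈ VW = F e4`, `semi`: `(u, -s, r, -w) = c (u, s, r, w)`, `c = 1`. -/
theorem exists_ur : ∃ x ∈ X, (x e4).u ≠ 0 ∧ (x e4).s = 0 ∧ (x e4).w = 0 := by
  by_cases hp : p = 2
  · obtain ⟨x, hx, nx⟩ := h.ne
    have hu : (x e4).u ≠ 0 := fun k => nx (h.notR hx k)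
    have m := mul_mem (h.tt_mem (-(x e4).s / (x e4).u)) hx
    have hs : ((tt (-(x e4).s / (x e4).u) * x : MulAut (W σ)) e4).s = 0 := by
      simp only [MulAut.mul_apply, tt_s]; field_simp; simp
    have := h.sq hp _ m e4 (by simp [qW])
    rw [qW, hs, zero_mul, tr_zero, add_zero] at this
    exact ⟨_, m, hu, hs, (mul_eq_zero.1 this).resolve_left hu⟩
  obtain ⟨x, hx, nx, e⟩ := h.exists_fix hp
  have hu : (x e4).u ≠ 0 := fun k => nx (h.notR hx k)
  have h2 : (2 : K) ≠ 0 := fun e => hp (two_iff.1 e)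
  obtain ⟨c, hc, -, k⟩ := h.semi hx ((x⁻¹ * hW * x : MulAut (W σ)) e4).hw
  have k := k e4
  rw [show sm _ _ e4 = (x⁻¹ * hW * x : MulAut (W σ)) e4 from
    W.ext (by rw [e.1]; simp) (by rw [e.2.1]; simp) (by rw [e.2.2]; simp) (by simp), MulAut.mul_apply, MulAut.mul_apply,
    MulAut.apply_inv_self] at k
  have k1 := congrArg W.u k
  have k2 := congrArg W.s k
  have k4 := congrArg W.w k
  simp only [hW, dW_u, dW_s, dW_w, sm_u, sm_s, sm_w, RingAut.one_apply, nm, map_neg, map_one] at k1 k2 k4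
  obtain rfl := mul_right_cancel₀ hu k1
  exact ⟨x, hx, hu, mul_left_cancel₀ h2 (by linear_combination -k2), mul_left_cancel₀ h2 (by linear_combination -k4)⟩

/-- `dW x e4 = (a ρ u, 0, a d^# ρ r, 0)` is orthogonal to `x e4`; `eq_of_perp` -/
theorem fix_r (hx : x ∈ X) (hu : (x e4).u ≠ 0) (hs : (x e4).s = 0) (hw : (x e4).w = 0) {a d : K} {ρ : RingAut K} {k : Ok σ a d}
    (hd : dW a d ρ k ∈ X) : sh σ d * ρ ((x e4).r / (x e4).u) = (x e4).r / (x e4).u := by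
  obtain ⟨c, hc, e⟩ := h.eq_of_perp hx (mul_mem hd hx) (by simp [bW, hs, hw])
  have k1 := congrArg W.u e
  have k3 := congrArg W.r e
  simp only [MulAut.mul_apply, dW_u, dW_r, sm_u, sm_r] at k1 k3
  have := (map_ne_zero ρ).2 hu
  rw [map_div₀, ← mul_div_assoc, div_eq_div_iff this hu]
  exact mul_left_cancel₀ k.a0 (by linear_combination (x e4).u * k3 - (x e4).r * k1)

/-- Proof. `exists_ur`; suppose `r ≠ 0`. `q > 3`: `hb`, `exists_sq_ne_one`, `sh_fx`. `q = 2`: `h2`, `exists_nm_one`. `q = 3` (`p = 3`, `F = {0, 1, -1}`: `exists_sq_ne_one`-type count, every `ρ` is trivial on `F`): `X₀ = {y ∈ X | bW (y a) (y b) = bW a b}`, normal in `X` (`sim`), contains `TT` as a Sylow subgroup (`SylIn.of_le`).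
`n ∈ X₀` normalising `TT`: `n = tt t * dW a d ρ`; `ρ³ = 1` (`ρ` is trivial on `F`: `ρ x = x`, `σ x` or `σ² x` are the roots of the minimal polynomial; or `|RingAut K| = 3` by `CL.FieldAut.card_ringAut`, `|K| = 3³`), `rho_eq_one`; `fix_r`: `d^# = 1`; `a² N(d) = 1`, `a² = 1`, so `d = 1` and `n` centralises `TT` (`dW_tt`).
Burnside: `X₀ = L TT`, `L` a normal `3'`-subgroup; `TT` is not cyclic (exponent 3, order 27), `CL.coprime_le_of_forall_centralizer_le`: `L ≤ St` (`ti`). So `X₀ ≤ St`; for `y ∈ X`, `y⁻¹ tt 1 y ∈ X₀`, `fix_tt`: `y ∈ St`, against `ne`. -/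
theorem pt0 : ∃ x ∈ X, x e4 ∈ V1W := by
  obtain ⟨x, hx, hu, hs, hw⟩ := h.exists_ur
  refine ⟨x, hx, hs, by_contra fun hr => ?_, hw⟩
  have z0 := div_ne_zero hr hu
  have fx : ∀ a d k, dW a d 1 k ∈ X → sh σ d = 1 := fun a d k m => (mul_eq_right₀ z0).1 (h.fix_r hx hu hs hw m)
  have q2 := two_le_card (σ := σ)
  rcases Nat.lt_trichotomy (Nat.card (Fx σ)) 3 with hq | hq | hq
  · obtain ⟨d, d0, -, -, e⟩ := exists_nm_one (σ := σ)
    exact e (fx _ _ _ (h.h2 (by omega) d ⟨map_one _, one_ne_zero, d0⟩))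
  swap
  · obtain ⟨c, hc, c0, e⟩ := exists_sq_ne_one hq
    have := fx _ _ _ (h.hb c ⟨by simp [hc], by simp [c0], by simp [c0]⟩ hc)
    rw [sh_fx (by simp [hc]), inv_pow, inv_eq_one] at this
    exact e this
  have cK : Nat.card K = 3 ^ 3 := by rw [card_K (σ := σ), hq]
  obtain rfl : p = 3 := (Nat.prime_dvd_prime_iff_eq Fact.out Nat.prime_three).1 ((Fact.out : p.Prime).dvd_of_dvd_pow (cK ▸ p_dvd))
  have := Fintype.ofFinite K
  have := Fintype.ofFinite (Fx σ)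
  let X₀ : Subgroup (MulAut (W σ)) :=
    { carrier := {y | y ∈ X ∧ ∀ a b, bW (y a) (y b) = bW a b}
      one_mem' := ⟨one_mem _, fun _ _ => rfl⟩
      mul_mem' := fun ha hb => ⟨mul_mem ha.1 hb.1, fun a b => (ha.2 _ _).trans (hb.2 _ _)⟩
      inv_mem' := fun ha => ⟨inv_mem ha.1, fun a b => by rw [← ha.2, MulAut.apply_inv_self, MulAut.apply_inv_self]⟩ }
  have T0 : TT σ ≤ X₀ := by rintro _ ⟨t, rfl⟩; exact ⟨h.tt_mem t, bW_tt t⟩
  obtain ⟨L, l1, l2, l3, l4⟩ := burn (h.syl.of_le T0 fun _ k => k.1) fun n hn k => by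
    obtain ⟨t', e⟩ := k _ ⟨1, rfl⟩
    obtain ⟨t, a, d, ρ, ok, m, rfl⟩ := h.std' hn.1 (h.ti _ hn.1 _ _ one_ne_zero e.symm)
    obtain rfl := h.rho_eq_one m (by
      rw [← CL.FieldAut.card_ringAut (F := K) (p := 3) (f := 3) (by rw [← cK, Nat.card_eq_fintype_card])]; exact pow_card_eq_one')
    have b := hn.2 e1 e4
    rw [MulAut.mul_apply, MulAut.mul_apply, bW_tt, bW_dW, ← mul_sh, fx _ _ _ m] at b
    have a2 : a ^ 2 = 1 := by
      have := FiniteField.pow_card_sub_one_eq_one (⟨a, ok.fx⟩ : Fx σ) fun e => ok.a0 (congrArg Subtype.val e)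
      rw [← Nat.card_eq_fintype_card, hq] at this
      exact congrArg Subtype.val this
    obtain rfl : d = 1 := by simpa [a2, bW] using b
    rintro _ ⟨s, rfl⟩
    rw [mul_assoc, dW_tt, ← mul_assoc, ← mul_assoc, ← tt_add, ← tt_add, add_comm]; simp
  have : IsMulCommutative (TT σ) := ⟨⟨by rintro ⟨_, a, rfl⟩ ⟨_, b, rfl⟩; exact Subtype.ext (by simp [← tt_add, add_comm])⟩⟩
  have l5 : L ≤ St h := CL.coprime_le_of_forall_centralizer_le (TT σ) L _ (fun hc => by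
      have cT : Nat.card (TT σ) = 3 ^ 3 := cK ▸ (Nat.card_congr (Equiv.ofInjective tt fun _ _ => tt_inj)).symm
      have := hc.exponent_eq_card ▸ Monoid.exponent_dvd_of_forall_pow_eq_one (G := TT σ) (n := 3) (by
        rintro ⟨_, t, rfl⟩; exact Subtype.ext (by simp [tt_pow, tt_zero, three_iff.2 rfl]))
      rw [cT] at this; norm_num at this) (T0.trans l2) l3 (by
    rintro _ ⟨t, rfl⟩ t1 y ⟨hy, hc⟩
    exact ⟨(l1 hy).1, h.ti y (l1 hy).1 t t (by rintro rfl; exact t1 tt_zero) (by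
      rw [mem_centralizer_singleton_iff.1 hc, mul_inv_cancel_right])⟩)
  obtain ⟨y, hy, ny⟩ := h.ne
  refine ny (h.fix_tt hy one_ne_zero (l4.trans (sup_le l5 (by rintro _ ⟨t, rfl⟩; exact tt_St h t))
    ⟨mul_mem (mul_mem (inv_mem hy) (h.tt_mem 1)) hy, fun a b => ?_⟩).2)
  obtain ⟨ζ, hζ⟩ := h.sim _ (inv_mem hy)
  rw [MulAut.mul_apply, MulAut.mul_apply, MulAut.mul_apply, MulAut.mul_apply, hζ, bW_tt, ← hζ, MulAut.inv_apply_self, MulAut.inv_apply_self]

end QD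

end CL.D3
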