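/-
S5261: `X` contains the standard `SL₂(q³)` and the torus.
-/
import Cfsg.Agent.FUS.D3.LinC
import Cfsg.Agent.FUS.D3.Hua

set_option autoImplicit false
set_option linter.unusedSimpArgs false
set_option linter.unusedSectionVars false

namespace CL.D3

open CL.Fus Subgroup

variable {K : Type*} [Field K] [Finite K] {σ : K →+* K} [T : Tri σ] {p : ℕ} [Fact p.Prime] [CharP K p]
  {X : Subgroup (MulAut (W σ))} {x : MulAut (W σ)}

namespace LD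

theorem b4 (y : W σ) : bW y e4 = y.u := by simp [bW]
theorem b1 (y : W σ) : bW y e1 = -y.w := by simp [bW]
theorem bV1 {v : W σ} (hv : v ∈ V1W) (y : W σ) : bW y v = -(v.u * y.w) := by simp [bW, hv.1, hv.2.1, hv.2.2]
theorem bV {v : W σ} (hv : v ∈ VW) (y : W σ) : bW y v = y.u * v.w := by simp [bW, hv.1, hv.2.1, hv.2.2]
theorem bA {a b : W σ} (ha : a ∈ AW) (hb : b ∈ AW) : bW a b = 0 := by simp [bW, ha.1, ha.2, hb.1, hb.2]
theorem bA1 {a b : W σ} (ha : a ∈ A1W) (hb : b ∈ A1W) : bW a b = 0 := by simp [bW, ha.1, ha.2, hb.1, hb.2]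
theorem e4_ne : (e4 : W σ) ≠ 1 := fun k => one_ne_zero (α := K) (congrArg W.w k)
theorem u_ne (e : x e4 ∈ V1W) : (x e4).u ≠ 0 := fun k =>
  e4_ne (x.injective ((W.ext k e.1 e.2.1 e.2.2 : x e4 = 1).trans (map_one x).symm))
theorem notV (e : x e4 ∈ V1W) : x e4 ∉ VW := fun k => u_ne e k.1
theorem dec (y : W σ) : y = sm y.u y.hu e1 * e2 y.s * e3 y.r * sm y.w y.hw e4 := by ext <;> simp

/-- two elements mapping `V` to `V₁` -/
theorem fixV (h : QD p X) {y : MulAut (W σ)} (hx : x ∈ X) (hy : y ∈ X) (e : x e4 ∈ V1W) (e' : y e4 ∈ V1W) :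
    (x⁻¹ * y : MulAut (W σ)) e4 ∈ VW := by
  obtain ⟨c, hc, k⟩ := h.eq_of_perp hx hy (by rw [bV1 e, e'.2.2]; simp)
  obtain ⟨c₀, hc₀, k₀⟩ := h.semi' hx hc
  rw [MulAut.mul_apply, k, ← k₀, MulAut.inv_apply_self]
  exact ⟨by simp, by simp, by simp⟩

theorem k0 (h : QD p X) (hx : x ∈ X) (hu : (x e4).u ≠ 0) (hs : (x e4).s = 0) : x e4 ∈ V1W := by
  obtain ⟨x₀, h₀, e₀⟩ := h.pt0
  have key : ∀ t, (x e4).u * nm σ t + tr σ (t * (x e4).r) = (x e4).w → x e4 ∈ V1W := fun t ht => by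
    obtain ⟨c, hc, k⟩ := h.eq_of_perp (mul_mem (h.tt_mem t) h₀) hx (by
      simp only [bW, MulAut.mul_apply, tt_u, tt_s, tt_r, tt_w, e₀.1, e₀.2.1, e₀.2.2, hs, zero_mul, zero_add, tr_zero, add_zero, sub_zero,
        mul_assoc, tr_smul (x₀ e4).hu, ← ht]
      ring)
    have k1 := congrArg W.u k
    have k2 := congrArg W.s k
    have k3 := congrArg W.r k
    have k4 := congrArg W.w k
    simp only [sm_u, sm_s, sm_r, sm_w, MulAut.mul_apply, tt_u, tt_s, tt_r, tt_w, e₀.1, e₀.2.1, e₀.2.2, hs, zero_add] at k1 k2 k3 k4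
    have : t = 0 := by
      rw [← mul_assoc, ← k1] at k2
      exact (mul_eq_zero.1 k2.symm).resolve_left hu
    subst this
    exact ⟨hs, by simpa [cr, sh] using k3, by simpa [nm] using k4⟩
  rcases cube_or (σ := σ) with hc | ⟨ω, hω, h1, h3⟩
  · obtain ⟨t₀, t0, k, -⟩ := exists_perp2 (σ := σ) (x e4).r (x e4).r
    have n0 : nm σ t₀ ≠ 0 := by simpa using t0
    obtain ⟨c, hc, e⟩ := hc ((x e4).w / ((x e4).u * nm σ t₀)) (by simp)
    refine key (c * t₀) ?_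
    rw [mul_assoc, tr_smul hc, k, nm_mul, nm_fx hc, e]; field_simp; simp
  · have ω0 : ω ≠ 0 := by rintro rfl; simp at h3
    have ok : Ok σ (ω ^ 2) ω⁻¹ := ⟨by simp [hω], by simp [ω0], by simp [ω0]⟩
    have hi : σ ω⁻¹ = ω⁻¹ := by simp [hω]
    obtain ⟨c, hc, k⟩ := h.eq_of_perp hx (mul_mem (h.hb ω ok hω) hx) (by
      simp only [bW, MulAut.mul_apply, dW_u, dW_s, dW_r, dW_w, hs, RingAut.one_apply, nm_fx hi, inv_pow, h3]
      simp; ring)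
    have k1 := congrArg W.u k
    have k3 := congrArg W.r k
    simp only [sm_u, sm_r, MulAut.mul_apply, dW_u, dW_r, RingAut.one_apply, sh_fx hi, inv_pow, mul_inv_cancel₀ ok.a0] at k1 k3
    have hr : (x e4).r = 0 := by
      by_contra hr
      rw [← mul_right_cancel₀ hu k1] at k3
      exact h1 (by rw [← h3, pow_succ, ← mul_right_cancel₀ hr k3, one_mul])
    obtain ⟨t, ht⟩ := nm_surj (σ := σ) (c := (x e4).w / (x e4).u) (by simp)
    exact key t (by rw [ht, hr]; field_simp; simp)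

theorem w_zero (h : QD p X) (hx : x ∈ X) (e : x e4 ∈ V1W) {y : W σ} : (x y).w = 0 ↔ y.u = 0 := by
  rw [← b4, ← h.b_eq_zero hx, bV1 e, neg_eq_zero, mul_eq_zero, or_iff_right (u_ne e)]

theorem inv_notV (h : QD p X) (hx : x ∈ X) (e : x e4 ∈ V1W) : x⁻¹ e4 ∉ VW := fun k => notV e (by simpa using h.stab_inv (inv_mem hx) k)

end LD

open LD

namespace QD

variable (h : QD p X)
include h

/-- Proof. `x₀` from `pt0`, `x₀ e4 = sm u₀ e1`, `u₀ ≠ 0`. `u = (x e4).u ≠ 0` (`notR`); replace `x` by `tt (-s/u) * x`: `x e4 = u (1, 0, r, w)`. If `N(t) + T(t r) = w` for some `t` then `bW (x e4) (tt t x₀ e4) = 0`, `eq_of_perp`: `x e4 ∈ F (1, t, t^#, N t)`, `t = 0`.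
`cube_or`: if cubing is onto `F` take `t = c t₀`, `T(t₀ r) = 0`, `t₀ ≠ 0`, `c³ N(t₀) = w`. Else `ω³ = 1 ≠ ω`: `dW ω² ω⁻¹ 1` (`hb`) maps `x e4` to `u (ω², 0, r, ω⁻¹ w)`, orthogonal to `x e4`; `eq_of_perp`: `r = ω² r`, `r = 0`; `nm_surj`. -/
theorem k_one (hx : x ∈ X) (e : x e4 ∉ VW) : ∃ t, (tt t * x : MulAut (W σ)) e4 ∈ V1W := by
  have hu : (x e4).u ≠ 0 := fun k => e (h.notR hx k)
  refine ⟨-(x e4).s / (x e4).u, k0 h (mul_mem (h.tt_mem _) hx) hu ?_⟩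
  simp only [MulAut.mul_apply, tt_s]; field_simp; simp

/-- `x e4 ∈ VW` or `x e4 = c (1, -t, t^#, -N t)`; `sh_sh` -/
theorem cone (hx : x ∈ X) : (x e4).w * (x e4).s = sh σ (x e4).r ∧ (x e4).u * (x e4).r = sh σ (x e4).s := by
  by_cases e : x e4 ∈ VW
  · simp [e.1, e.2.1, e.2.2, sh]
  obtain ⟨t, k⟩ := h.k_one hx e
  have : x e4 = tt (-t) ((tt t * x : MulAut (W σ)) e4) := by rw [tt_neg, MulAut.mul_apply, MulAut.inv_apply_self]
  generalize (tt t * x : MulAut (W σ)) e4 = v at k this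
  rw [this]
  simp only [tt_u, tt_s, tt_r, tt_w, k.1, k.2.1, k.2.2]
  wsimp0; constructor <;> ring

/-- `std'` -/
theorem stab_A (hx : x ∈ X) (e : x e4 ∈ VW) {y : W σ} (hy : y ∈ AW) : x y ∈ AW := by
  obtain ⟨t, a, d, ρ, k, -, rfl⟩ := h.std' hx e
  exact ⟨by simp [hy.1], by simp [hy.1, hy.2]⟩

/-- Proof. Let `y = e3 r`, `x⁻¹ y ∈ AW` (write `A₁ = x AW`; `A₁` is isotropic, orthogonal to `e1`, so `w = 0` on `A₁`), `t ≠ 0`. `x₁ = x⁻¹` and `x₂ = x⁻¹ tt t x` do not fix `V` (`stab_inv`, `fix_tt`); `k_one` for both and `semi`: `tt τ x₁ e4 ∈ F x₂ e4` for some `τ`. So `τ₁ = x tt τ x⁻¹` has `(tt t x)⁻¹ τ₁` fixing `V`, hence `AW` (`stab_A`): `τ₁ y ∈ tt t A₁`.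
`τ₁ y = x (tt τ (x⁻¹ y)) ∈ y · x VW`, so `y' = τ₁ y = (u, 0, r, 0) ∈ A₁` and `tt (-t) y' = (u, -u t, r + u t^#, -T(r t) - u N t) ∈ A₁`: `T(r t) = -u N t`, `bW y' (tt (-t) y') = -u T(t r) = 0`, so `u = 0`, `T(r t) = 0`. `tr_nondeg`. -/
theorem A_inf (hx : x ∈ X) (e : x e4 ∈ V1W) {r : K} (hr : x⁻¹ (e3 r) ∈ AW) : r = 0 := by
  refine tr_nondeg (σ := σ) fun t => ?_
  rcases eq_or_ne t 0 with rfl | ht
  · simp
  have hx₂ : x⁻¹ * tt t * x ∈ X := mul_mem (mul_mem (inv_mem hx) (h.tt_mem t)) hx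
  obtain ⟨τ₁, k₁⟩ := h.k_one (inv_mem hx) (inv_notV h hx e)
  obtain ⟨τ₂, k₂⟩ := h.k_one hx₂ fun k => notV e (h.fix_tt hx ht k)
  have m₁ := mul_mem (h.tt_mem τ₁) (inv_mem hx)
  have m₂ := mul_mem (h.tt_mem τ₂) hx₂
  have z := h.stab_A (mul_mem (inv_mem m₂) m₁) (fixV h m₂ m₁ k₂ k₁) (y := e3 r) ⟨rfl, rfl⟩
  rw [show (tt τ₂ * (x⁻¹ * tt t * x))⁻¹ * (tt τ₁ * x⁻¹) = x⁻¹ * tt (-t) * (x * tt (-τ₂ + τ₁) * x⁻¹) by
    rw [tt_add, tt_neg, tt_neg]; group] at z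
  simp only [MulAut.mul_apply] at z
  obtain ⟨c, hc, e₀⟩ : ∃ c hc, tt (-τ₂ + τ₁) (x⁻¹ (e3 r)) = x⁻¹ (e3 r) * sm c hc e4 :=
    ⟨tr σ ((x⁻¹ (e3 r) : W σ).r * (-τ₂ + τ₁)), σ_tr _, by
      generalize (x⁻¹ (e3 r) : W σ) = v at hr
      ext <;> simp [hr.1, hr.2, cr]⟩
  obtain ⟨c', hc', -, e₁⟩ := h.semi hx hc
  have m : tt (-τ₂ + τ₁) (x⁻¹ (e3 r)) ∈ AW := by rw [e₀]; exact mul_mem hr ⟨by simp, by simp⟩
  have b := (h.b_eq_zero hx _ _).2 (bA m z)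
  have w := (w_zero h hx e).2 z.1
  rw [MulAut.apply_inv_self] at b w
  rw [e₀, map_mul, MulAut.apply_inv_self, e₁] at b w
  have hu : σ (c' * (x e4).u) = c' * (x e4).u := by simp [hc']
  simp only [bW, tt_u, tt_s, tt_r, tt_w, W.mul_u, W.mul_s, W.mul_r, W.mul_w, sm_u, sm_s, sm_r, sm_w, e3_u, e3_s, e3_r, e3_w, e.1, e.2.1,
    e.2.2, zero_add, mul_zero, add_zero, zero_mul, tr_zero, sub_zero] at b w
  generalize c' * (x e4).u = u at b w hu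
  rw [w, mul_assoc, tr_smul hu, mul_zero, zero_add, neg_mul, tr_neg, mul_comm t] at b
  rw [mul_neg, tr_neg] at w
  rcases mul_eq_zero.1 b with rfl | b
  · simpa using w
  · simpa using b

/-- Proof. `A₁ = x AW` is an `F`-subspace (`semi'`) containing `V1W`, invariant under every `dW ∈ X` (`x⁻¹ dW x` fixes `V`). Let `(0, s, r, 0) ∈ A₁`. `q > 2`: `h_b(c)` gives `(0, c s, r, 0)`, subtract `c (0, s, r, 0)`: `(1 - c) r = 0` (`A_inf`). `q = 2`: `(0, d s, d^# r, 0) ∈ A₁` for all `d` (also `d = 0`), so `e3 ((d × e) r) ∈ A₁` (`sh_add`), `cr_all_zero`. So `A₁ ≤ A1W`.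
Conversely `y ∈ A1W` is orthogonal to `A1W ≥ x AW`, so `x⁻¹ y ∈ AW^⊥ = AW`. -/
theorem A_one (hx : x ∈ X) (e : x e4 ∈ V1W) (y : W σ) : x y ∈ A1W ↔ y ∈ AW := by
  have key : ∀ y ∈ AW, x y ∈ A1W := fun y hy => by
    let B : Subgroup (W σ) := AW.comap (x⁻¹ : MulAut (W σ)).toMonoidHom
    have mB : ∀ z, z ∈ B ↔ x⁻¹ z ∈ AW := fun _ => Iff.rfl
    have hsm : ∀ c hc, ∀ z ∈ B, sm c hc z ∈ B := fun c hc z hz => by
      obtain ⟨c', hc', -, k⟩ := h.semi (inv_mem hx) hc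
      rw [mB, k]; exact ⟨by rw [sm_u, ((mB z).1 hz).1, mul_zero], by rw [sm_s, ((mB z).1 hz).2, mul_zero]⟩
    have hd : ∀ a d ρ k, dW a d ρ k ∈ X → ∀ z ∈ B, dW a d ρ k z ∈ B := fun a d ρ k hk z hz => by
      have := h.stab_A (mul_mem (inv_mem hx) (mul_mem hk hx))
        (fixV h hx (mul_mem hk hx) e ⟨by simp [e.1], by simp [e.2.1], by simp [e.2.2]⟩) ((mB z).1 hz)
      simpa [mB] using this
    have w := (w_zero h hx e).2 hy.1
    refine ⟨?_, w⟩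
    have m : e2 (x y).s * e3 (x y).r ∈ B := by
      have := mul_mem (show x y ∈ B by simpa [mB] using hy)
        (inv_mem (hsm ((x y).u / (x e4).u) (by simp) (x e4) (by rw [mB, MulAut.inv_apply_self]; exact ⟨rfl, rfl⟩)))
      convert this using 1
      ext <;> simp [e.1, e.2.1, e.2.2, w, u_ne e]
    generalize (x y).s = s at m
    generalize (x y).r = r at m
    by_cases hq : Nat.card (Fx σ) = 2
    · have f : ∀ d, e2 (d * s) * e3 (sh σ d * r) ∈ B := fun d => by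
        rcases eq_or_ne d 0 with rfl | d0
        · convert one_mem B; ext <;> simp [sh]
        · convert hd _ _ _ _ (h.h2 hq d ⟨map_one _, one_ne_zero, d0⟩) _ m using 1
          ext <;> simp
      by_contra hr
      refine one_ne_zero (cr_all_zero (σ := σ) (s := 1) fun t => (mul_eq_zero.1 (h.A_inf hx e ((mB _).1 ?_))).resolve_right hr)
      convert mul_mem (mul_mem (f (1 + t)) (inv_mem (f 1))) (inv_mem (f t)) using 1
      ext <;> simp [sh_add] <;> ring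
    · obtain ⟨c, hc, c0, c1⟩ := exists_ne_one hq
      have ok : Ok σ (c ^ 2) c⁻¹ := ⟨by simp [hc], by simp [c0], by simp [c0]⟩
      refine (mul_eq_zero.1 (h.A_inf hx e (r := (1 - c) * r) ((mB _).1 ?_))).resolve_left (sub_ne_zero.2 c1.symm)
      convert mul_mem (hd _ _ _ _ (h.hb c ok hc) _ m) (inv_mem (hsm c hc _ m)) using 1
      ext <;> simp [sh_fx (show σ c⁻¹ = c⁻¹ by simp [hc])] <;> field_simp <;> ring
  refine ⟨fun hy => ⟨(w_zero h hx e).1 hy.2, tr_nondeg (σ := σ) fun r => ?_⟩, key y⟩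
  simpa [bW] using (h.b_eq_zero hx _ _).1 (bA1 hy (key (e3 r) ⟨rfl, rfl⟩))

/-- Proof. `x₀` from `pt0`; `k_one` for `x₀⁻¹`: `tt t x₀⁻¹ e4 ∈ V1W`; `γ = x₀ tt (-t)` maps `VW` to `V1W` and `V1W` to `VW`; `γ AW = A1W` (`A_one`), `γ A1W = AW` (`γ x₀` fixes `V`). `θ = aW⁻¹ γ` leaves `VW, V1W, AW, A1W`, `{u = 0}`, `{w = 0}` (orthogonal complements) invariant: `θ (e2 s) = e2 (f s)`, `θ (e3 r) = e3 (g r)`, `θ e1 = sm a e1`, `θ e4 = sm β e4`; `f, g : K ≃+ K` (injective, finite).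
`(1, t, t^#, N t) = tt t e1 = c (tt t x₀) e4`; `cone` for `γ tt t x₀` (first identity; `γ = aW θ`), `semi`: `a g(t^#) = (f t)^#`. With `δ = f / a`: `exists_form` (`hs` from `semi`, `h2` from `sim`: `ζ (T(s r)) = T(f s g r)`). So `f = a d ρ`; the `semi`-constant of `c` is `ρ c`; `g = a d^# ρ` (`r = N(t)⁻¹ t^#`, `t = r⁻¹`), `β = a N(d)` (`a β = ζ 1`, `ζ (T(s r)) = a² N(d) ρ T(s r)`). -/
theorem exists_gamma : ∃ a d ρ k, aW * dW a d ρ k ∈ X := by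
  obtain ⟨x₀, h₀, e₀⟩ := h.pt0
  obtain ⟨t₀, k₀⟩ := h.k_one (inv_mem h₀) (inv_notV h h₀ e₀)
  obtain ⟨γ, hγ, g1, g2⟩ : ∃ γ ∈ X, γ e4 ∈ V1W ∧ γ⁻¹ e4 ∈ V1W :=
    ⟨(tt t₀ * x₀⁻¹)⁻¹, inv_mem (mul_mem (h.tt_mem _) (inv_mem h₀)), by
      rw [mul_inv_rev, inv_inv, ← tt_neg, MulAut.mul_apply, show tt (-t₀) e4 = e4 by ext <;> simp [cr]]; exact e₀, by rwa [inv_inv]⟩
  obtain ⟨θ, rfl⟩ : ∃ θ, γ = aW * θ := ⟨aW⁻¹ * γ, by simp⟩
  have a1 : ∀ y, θ y ∈ AW ↔ y ∈ AW := fun y => by rw [← h.A_one hγ g1 y]; simp [mem_AW, mem_A1W, and_comm]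
  have a2 : ∀ y, θ y ∈ A1W ↔ y ∈ A1W := fun y => by
    have := h.A_one (inv_mem hγ) g2 ((aW * θ : MulAut (W σ)) y)
    rw [MulAut.inv_apply_self] at this
    rw [this]; simp [mem_AW, mem_A1W, and_comm]
  have a3 : ∀ y, (θ y).u = 0 ↔ y.u = 0 := fun y => w_zero h hγ g1
  have a4 : ∀ y, (θ y).w = 0 ↔ y.w = 0 := fun y => by
    have := w_zero h (inv_mem hγ) g2 (y := (aW * θ : MulAut (W σ)) y)
    rw [MulAut.inv_apply_self] at this
    rw [this]; simp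
  have hs : ∀ c hc, ∃ c' hc', (c ≠ 0 → c' ≠ 0) ∧ ∀ y, θ (sm c hc y) = sm c' hc' (θ y) := fun c hc => by
    obtain ⟨c', hc', n, k⟩ := h.semi hγ hc
    refine ⟨c', hc', n, fun y => aW.injective ((k y).trans ?_)⟩
    ext <;> simp
  obtain ⟨ζ, hζ⟩ := h.sim _ hγ
  simp only [MulAut.mul_apply, bW_aW] at hζ
  have E2 : ∀ s, θ (e2 s) = e2 (θ (e2 s)).s := fun s =>
    W.ext ((a3 _).2 rfl) rfl ((a2 _).2 ⟨rfl, rfl⟩).1 ((a4 _).2 rfl)
  have E3 : ∀ r, θ (e3 r) = e3 (θ (e3 r)).r := fun s =>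
    W.ext ((a3 _).2 rfl) ((a1 _).2 ⟨rfl, rfl⟩).2 rfl ((a4 _).2 rfl)
  have E4 : θ e4 = sm (θ e4).w (θ e4).hw e4 := by
    refine W.ext ?_ ?_ ?_ ?_ <;> simp
    exacts [(a3 _).2 rfl, by simpa using g1.2.1, g1.1]
  have E1 : θ e1 = sm (θ e1).u (θ e1).hu e1 := by
    obtain ⟨c, hc, -, k⟩ := h.semi hγ (c := ((aW * θ : MulAut (W σ))⁻¹ e4 : W σ).u⁻¹) (by simp)
    have n := u_ne g2
    have := k ((aW * θ : MulAut (W σ))⁻¹ e4)
    rw [MulAut.apply_inv_self, show sm _ _ ((aW * θ : MulAut (W σ))⁻¹ e4) = e1 from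
      W.ext (inv_mul_cancel₀ n) (by rw [sm_s, g2.1]; simp) (by rw [sm_r, g2.2.1]; simp) (by rw [sm_w, g2.2.2]; simp)] at this
    refine W.ext ?_ ?_ ?_ ?_ <;> simp
    exacts [by simpa using congrArg W.r this, by simpa using congrArg W.s this, (a4 _).2 rfl]
  obtain ⟨a, ha, E1⟩ : ∃ a ha, θ e1 = sm a ha e1 := ⟨_, _, E1⟩
  obtain ⟨β, hβ, E4⟩ : ∃ a ha, θ e4 = sm a ha e4 := ⟨_, _, E4⟩
  have a0 : a ≠ 0 := by
    rintro rfl
    have := congrArg W.u (θ.injective (E1.trans (show _ = θ 1 by rw [map_one]; ext <;> simp)))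
    simp at this
  obtain ⟨f, hf⟩ : ∃ f : K ≃+ K, ∀ s, θ (e2 s) = e2 (f s) := by
    refine ⟨AddEquiv.ofBijective (AddMonoidHom.mk' (fun s => (θ (e2 s)).s) fun s s' => by
      rw [show e2 (s + s') = (e2 s * e2 s' : W σ) by ext <;> simp, map_mul, W.mul_s]) (Finite.injective_iff_bijective.1 fun s s' e => ?_), E2⟩
    exact congrArg W.s (θ.injective ((E2 s).trans ((congrArg e2 e).trans (E2 s').symm)))
  obtain ⟨g, hg⟩ : ∃ g : K ≃+ K, ∀ r, θ (e3 r) = e3 (g r) := by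
    refine ⟨AddEquiv.ofBijective (AddMonoidHom.mk' (fun s => (θ (e3 s)).r) fun s s' => by
      rw [show e3 (s + s') = (e3 s * e3 s' : W σ) by ext <;> simp, map_mul, W.mul_r]) (Finite.injective_iff_bijective.1 fun s s' e => ?_), E3⟩
    exact congrArg W.r (θ.injective ((E3 s).trans ((congrArg e3 e).trans (E3 s').symm)))
  have h1 : ∀ t, g (sh σ t) = a⁻¹ * sh σ (f t) := fun t => by
    have k := (h.cone (mul_mem hγ (mul_mem (h.tt_mem t) h₀))).1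
    obtain ⟨c, hc, c0, e⟩ := hs _ (x₀ e4).hu
    obtain ⟨c', hc', -, e'⟩ := hs _ (σ_nm t)
    have : tt t (x₀ e4) = sm _ (x₀ e4).hu (e1 * e2 t * e3 (sh σ t) * sm _ (σ_nm t) e4) := by
      ext <;> simp [e₀.1, e₀.2.1, e₀.2.2, cr]
    simp only [MulAut.mul_apply, this, e, e', map_mul, E1, E4, hf, hg] at k
    simp at k
    rw [show sh σ (-(c * f t)) = c ^ 2 * sh σ (f t) by rw [← sh_fx hc, ← sh_mul]; simp [sh]] at k
    have := c0 (u_ne e₀)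
    field_simp at k ⊢
    exact k
  have h2 : ∀ r t, ζ (tr σ (r * t)) = tr σ (g r * f t) := fun r t => by
    have := hζ (e3 r) (e2 t)
    rw [hf, hg] at this
    simpa [bW, mul_comm] using this.symm
  obtain ⟨ρ, hρ⟩ := exists_form f g (a := a⁻¹) (by simp [ha]) (by simp [a0]) ζ (fun c hc => by
    obtain ⟨c', hc', -, e⟩ := hs c hc
    refine ⟨c', hc', fun t => ?_⟩
    have := e (e2 t)
    rw [show sm c hc (e2 t) = e2 (c * t) by ext <;> simp, hf, hf] at this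
    exact congrArg W.s this) h1 h2
  have f0 : f 1 ≠ 0 := by simp
  obtain ⟨d, hd⟩ : ∃ d, f 1 = a * d := ⟨a⁻¹ * f 1, by field_simp⟩
  have d0 : d ≠ 0 := by rintro rfl; simp at hd
  rw [hd] at hρ
  have hs' : ∀ c hc y, θ (sm c hc y) = sm (ρ c) (by rw [σ_map, hc]) (θ y) := fun c hc y => by
    obtain ⟨c', hc', -, e⟩ := hs c hc
    have := e (e2 1)
    rw [show sm c hc (e2 1) = e2 c by ext <;> simp, hf, hf] at this
    have := congrArg W.s this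
    simp only [sm_s, e2_s, hρ c, hd] at this
    obtain rfl : ρ c = c' := mul_left_cancel₀ (mul_ne_zero a0 d0) (this.trans (mul_comm _ _))
    exact e y
  have hg' : ∀ r, g r = a * sh σ d * ρ r := fun r => by
    rcases eq_or_ne r 0 with rfl | r0
    · simp
    have n1 := (map_ne_zero σ).2 r0
    have n2 := (map_ne_zero σ).2 n1
    have := hs' _ (σ_nm r) (e3 (sh σ r⁻¹))
    rw [show sm _ (σ_nm r) (e3 (sh σ r⁻¹)) = e3 r by
      refine W.ext (by simp) (by simp) ?_ (by simp)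
      simp only [sm_r, e3_r]; asimp; field_simp, hg, hg, h1, hρ] at this
    have := congrArg W.r this
    simp only [sm_r, e3_r] at this
    have m0 := (map_ne_zero ρ).2 r0
    have m1 := (map_ne_zero σ).2 m0
    have m2 := (map_ne_zero σ).2 m1
    rw [this, map_nm, map_inv₀]; asimp; simp only [ha]; field_simp
  have hβ' : β = a * nm σ d := by
    obtain ⟨s, e⟩ := exists_tr_mul (σ := σ) (r := 1) (c := 1) one_ne_zero (map_one σ)
    have k1 := h2 s 1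
    have k2 := hζ e1 e4
    rw [E1, E4] at k2
    rw [e, hg', hρ, show a * sh σ d * ρ s * (a * d * ρ 1) = a * a * nm σ d * ρ (s * 1) by rw [← mul_sh, map_mul]; ring,
      tr_smul (by simp [ha]), ← map_tr, e, map_one] at k1
    simp [bW, k1] at k2
    exact mul_left_cancel₀ a0 (by rw [k2]; ring)
  refine ⟨a, d, ρ, ⟨ha, a0, d0⟩, ?_⟩
  convert hγ using 2
  refine MulEquiv.ext fun y => ?_
  conv_rhs => rw [dec y]
  simp only [map_mul, hs', E1, E4, hf, hg, hg', hρ, hβ']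
  ext <;> simp <;> ring

/-- `γ tt t γ⁻¹ = aW tt (d ρ t) aW⁻¹` (`dW_tt`), so all `aW tt t aW⁻¹ ∈ X`; `sl2_rel` (`t = 1`: `aW ∈ X`), `tor_split`, `hb`, `dW_mul` -/
theorem main : aW ∈ X ∧ ∀ a d (k : Ok σ a d), dW a d 1 k ∈ X := by
  obtain ⟨a, d, ρ, k, hγ⟩ := h.exists_gamma
  have h1 : ∀ t, aW * tt t * aW⁻¹ ∈ X := fun t => by
    have := mul_mem (mul_mem hγ (h.tt_mem (ρ⁻¹ (d⁻¹ * t)))) (inv_mem hγ)
    rwa [mul_assoc aW, dW_tt, show d * ρ (ρ⁻¹ (d⁻¹ * t)) = t by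
      rw [show ρ (ρ⁻¹ (d⁻¹ * t)) = _ from ρ.apply_symm_apply _, mul_inv_cancel_left₀ k.d0], show ∀ A B C : MulAut (W σ),
        A * (B * C) * (A * C)⁻¹ = A * B * A⁻¹ from fun A B C => by group] at this
  have h2 : ∀ t (ht : t ≠ 0) k, aW * dW (nm σ t) (t⁻¹ ^ 2) 1 k ∈ X := fun t ht k => by
    rw [← sl2_rel ht]; exact mul_mem (mul_mem (h.tt_mem _) (h1 _)) (h.tt_mem _)
  have h3 : aW ∈ X := by
    have := h2 1 one_ne_zero (by simpa [nm] using ok_one)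
    rwa [dW_congr _ ok_one (by simp [nm]) (by simp) rfl, dW_one, mul_one] at this
  refine ⟨h3, fun a d k => ?_⟩
  obtain ⟨c, e, c0, e0, he, rfl, rfl⟩ := tor_split k
  have := mul_mem ((mul_mem_cancel_left h3).1 (h2 c⁻¹ (by simp [c0]) ⟨σ_nm _, by simp [c0], by simp [c0]⟩))
    (h.hb e ⟨by simp [he], by simp [e0], by simp [e0]⟩ he)
  rwa [dW_mul, dW_congr _ k (by simp [nm, mul_comm]) (by simp) (mul_one _)] at this

end QD

end CL.D3
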