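/-
S5261: standard position (model: FUS/RF4/Std).
-/
import Cfsg.Agent.FUS.D3.Ess
import Cfsg.Agent.FUS.U5.Gen

set_option autoImplicit false
set_option linter.unusedSimpArgs false
set_option linter.unusedSectionVars false

namespace CL.D3

open CL.Fus CL.RF4 Subgroup Cfsg Cfsg.FusionSystem
open scoped commutatorElement

variable {K : Type*} [Field K] [Finite K] {σ : K →+* K} [T : Tri σ] {p : ℕ} [Fact p.Prime] [CharP K p]
  {F F' : FusionSystem (⊤ : Subgroup (U σ))}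

/-- the automorphisms fixing the coordinates `u` and `t` -/
def K0 (σ : K →+* K) [Tri σ] : Subgroup (MulAut (U σ)) where
  carrier := {α | ∀ g, (α g).u = g.u ∧ (α g).t = g.t}
  one_mem' _ := ⟨rfl, rfl⟩
  mul_mem' {a b} ha hb g := ⟨(ha _).1.trans (hb g).1, (ha _).2.trans (hb g).2⟩
  inv_mem' {a} ha g := by simpa [eq_comm] using ha (a⁻¹ g)

namespace StdA

theorem pow_fix {G : Type*} [Group G] [Finite G] (hG : IsPGroup p G) {α : MulAut G} {B C : Subgroup G}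
    (hB : ∀ y ∈ B, α y ∈ B) (h : ∀ y ∈ C, α y * y⁻¹ ∈ B) (h' : ∃ n : ℕ, ∀ y ∈ B, (α ^ p ^ n) y = y) :
    ∃ n : ℕ, ∀ y ∈ C, (α ^ p ^ n) y = y := by
  obtain ⟨n, hn⟩ := h'
  obtain ⟨m, hm⟩ := hG.exists_card_eq
  refine ⟨n + m, fun y hy => ?_⟩
  have h1 : ∀ k : ℕ, (α ^ k) y * y⁻¹ ∈ B := fun k => by
    induction k with
    | zero => simp
    | succ k ih => simpa [pow_succ', mul_assoc] using mul_mem (hB _ ih) (h y hy)
  have h2 : ∀ k : ℕ, ((α ^ p ^ n) ^ k) y = ((α ^ p ^ n) y * y⁻¹) ^ k * y := fun k => by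
    induction k with
    | zero => simp
    | succ k ih => rw [pow_succ', MulAut.mul_apply, ih, map_mul, hn _ (pow_mem (h1 _) k), pow_succ, mul_assoc,
        inv_mul_cancel_right]
  rw [pow_add, pow_mul, h2, ← hm, pow_card_eq_one', one_mul]

end StdA

open StdA AutA
open scoped Pointwise

/-- `sm_of_ut` with `dd 1 1 1 = 1`: `α` is trivial on the factors of `1 < Z < V < A₀ < R₀ < S` (`map_mem`, `div_mem_*`); copy `pow_fix` of FUS/RF4/Std with `p` (`β = 1` on `B`, `β y = y d`, `d ∈ B` ⇒ `β ^ k y = y d ^ k`). -/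
theorem isPGroup_K0 : IsPGroup p (K0 σ) := by
  rintro ⟨α, hα⟩
  have s : Sm α (1 : MulAut (U σ)) := sm hα
  simp only [Sm, MulAut.one_apply] at s
  have q := isPGroup_U (σ := σ) p
  have s1 := pow_fix q (fun y => mZ α) (C := sV) (fun y hy => eq_Z (mV α hy) hy ((s y).2.2.2.2.1 hy)) ⟨0, fun y hy => by
    have k := mZ α hy
    have := (s y).2.2.2.2.2 hy
    rw [pow_zero, pow_one]; msimp at k hy; csimp; simp only [k, hy, this, and_self]⟩
  have s2 := pow_fix q (fun y => mV α) (C := sA) (fun y hy => eq_V (mA α hy) hy ((s y).2.2.2.1 hy)) s1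
  have s3 := pow_fix q (fun y => mA α) (C := sR) (fun y hy => div_mem_sA.2 ⟨(s y).1, (s y).2.2.1 hy, (s y).2.1⟩) s2
  obtain ⟨n, hn⟩ := pow_fix q (fun y => mR α) (C := ⊤) (fun y _ => div_mem_sR.2 (hα y)) s3
  exact ⟨n, Subtype.ext (MulEquiv.ext fun y => hn y trivial)⟩

/-- `(β x).u` depends only on `x.u` (`map_mem`, `div_mem_Q'`), the same for `t` -/
theorem K0_normal : (K0 σ).Normal := by
  refine ⟨fun α hα β g => ?_⟩
  obtain ⟨x, rfl⟩ := β.surjective g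
  rw [MulAut.mul_apply, MulAut.mul_apply, MulAut.inv_apply_self]
  exact ⟨dQ' β (div_mem_Q'.2 (hα x).1), div_mem_Q.1 (by simpa using mQ β (div_mem_Q.2 (hα x).2))⟩

/-- As `CL.RF4.exists_std`: Schur–Zassenhaus complement `H` to `Inn` in `Aut_F(S)`, `coprime_le_conj H K0 D0`. -/
theorem std_of_form (hF : F.IsSaturated p)
    (h : ∀ f, Mor F ⊤ f → ∃ a d ρ, Ok σ a d ∧ ∀ g, (f g).u = a * (ρ : RingAut K) g.u ∧ (f g).t = d * ρ g.t) :
    ∃ k ∈ K0 σ, ∃ F' : FusionSystem (⊤ : Subgroup (U σ)), Corr k k.symm F F' ∧ Std F' := by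
  have hS := sylIn_inn_top isPGroup_top hF
  have hN : ((Inn (⊤ : Subgroup (U σ))).subgroupOf (F.autGroup ⊤)).Normal := inferInstance
  have h2 : (Nat.card ((Inn (⊤ : Subgroup (U σ))).subgroupOf (F.autGroup ⊤))).Coprime
      ((Inn (⊤ : Subgroup (U σ))).subgroupOf (F.autGroup ⊤)).index := by
    obtain ⟨n, hn⟩ := ((isPGroup_subgroupOf_iff hS.le).2 hS.isPGroup).exists_card_eq
    rw [hn]
    exact ((Nat.Prime.coprime_iff_not_dvd Fact.out).2 hS.not_dvd_relIndex).pow_left _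
  obtain ⟨H, hH⟩ := exists_right_complement'_of_coprime h2
  let c : F.autGroup ⊤ →* MulAut (U σ) := (MulAut.congr topEquiv).toMonoidHom.comp (Subgroup.subtype _)
  have hc : ∀ (γ : F.autGroup ⊤) g, c γ g = autFun γ.1 g := fun γ g => (autFun_of_mem γ.1 (mem_top g)).symm
  have := K0_normal (σ := σ)
  have hK := isPGroup_K0 (σ := σ) (p := p)
  obtain ⟨k, hk0, hk⟩ := coprime_le_conj (H.map c) (K0 σ) (D0 σ) le_normalizer_of_normal (by
    obtain ⟨n, hn⟩ := hK.exists_card_eq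
    rw [hn]
    exact (((Nat.Prime.coprime_iff_not_dvd Fact.out).2 fun k => hS.not_dvd_relIndex
      ((k.trans (card_map_dvd H c)).trans hH.symm.index_eq_card.symm.dvd)).pow_left _).symm)
    (Or.inr (have := hK.isNilpotent; inferInstance)) (by
      rintro _ ⟨γ, -, rfl⟩
      obtain ⟨a, d, ρ, ok, e⟩ := h _ (mor_autFun le_rfl γ.2)
      refine ⟨c γ * (dd a d ρ ok)⁻¹, fun g => ?_, _, ⟨a, d, ρ, ok, rfl⟩, by simp⟩
      obtain ⟨x, rfl⟩ := (dd a d ρ ok).surjective g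
      rw [MulAut.mul_apply, MulAut.inv_apply_self, hc]
      exact e x)
  obtain ⟨F', hF'⟩ := (isoOn_top k⁻¹).exists_corr F
  refine ⟨_, inv_mem hk0, F', hF', fun f hf => ?_⟩
  have h1 := hF'.mor' hf
  rw [hF'.iso.symm.img_eq] at h1
  obtain ⟨γ, hγ, e⟩ := h1.exists_aut h1.img_top
  obtain ⟨⟨n, h⟩, e'⟩ := (hH.existsUnique ⟨γ, hγ⟩).exists
  obtain ⟨u, -, hu⟩ := mem_inn_iff.1 n.2
  obtain ⟨_, ⟨a, d, ρ, ok, rfl⟩, e2⟩ := (mem_smul_pointwise_iff_exists ..).1 (hk (mem_map_of_mem c h.2))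
  refine ⟨k⁻¹ u, a, d, ρ, ok, fun g => ?_⟩
  have e3 := e (x := k g) trivial
  rw [show γ = n.1.1 * h.1.1 from (congrArg Subtype.val e').symm, autFun_mul _ _ (mem_top _), ← hc h.1, ← e2,
    show autFun n.1.1 _ = _ from hu (mem_top _)] at e3
  apply k.injective
  simpa [cj, eq_comm] using e3

theorem exists_std (hq : Nat.card (Fx σ) ≠ 2) (hF : F.IsSaturated p) :
    ∃ (β : MulAut (U σ)) (F' : FusionSystem (⊤ : Subgroup (U σ))), Corr β β.symm F F' ∧ Std F' :=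
  let ⟨k, _, h⟩ := std_of_form hF fun f hf => by
    obtain ⟨α, hα⟩ := exists_aut_top hf
    obtain ⟨a, d, ρ, h, e⟩ := aut_form hq α
    exact ⟨a, d, ρ, h, fun g => hα g ▸ ⟨(e g).1, (e g).2.1⟩⟩
  ⟨k, h⟩

theorem dd_mem (hS : Std F) {f : U σ → U σ} (hf : Mor F ⊤ f) :
    ∃ x a d ρ h, Mor F ⊤ (dd (σ := σ) a d ρ h) ∧ ∀ g, f g = cj x (dd a d ρ h g) :=
  let ⟨x, a, d, ρ, h, e⟩ := hS f hf
  ⟨x, a, d, ρ, h, (hf.cj_comp (s := x⁻¹) trivial).congr fun g _ => by rw [Function.comp, e, cj_inv_cj], e⟩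

/-- the `dd a d ρ` in `F` -/
def DF (F : FusionSystem (⊤ : Subgroup (U σ))) : Subgroup (MulAut (U σ)) where
  carrier := {α | α ∈ D0 σ ∧ Mor F ⊤ α}
  one_mem' := ⟨one_mem _, mor_id F le_rfl⟩
  mul_mem' ha hb := ⟨mul_mem ha.1 hb.1, ha.2.comp hb.2 fun _ _ => trivial⟩
  inv_mem' {a} ha := ⟨inv_mem ha.1, (Mor.of_leftInv ha.2 fun x _ => a.symm_apply_apply x).mono (Mor.img_top ha.2).ge⟩

/-- An element of order `p` (Cauchy) of `DF F` is a `p`-element of `Aut_F(S)`, so inner (`sylIn_inn_top`: `Inn` is a normal Sylow subgroup), so fixes `u`, `t`: `a = 1`, `d = 1`, `ρ = 1`. -/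
theorem coprime_DF (hF : F.IsSaturated p) : (Nat.card (DF F)).Coprime p := by
  refine ((Nat.Prime.coprime_iff_not_dvd Fact.out).2 fun k => CL.U5.not_dvd_of isPGroup_top hF (DF F).subtype ⊤ (fun x _ => x.2.2)
    (fun x u e => ?_) (by rwa [card_top])).symm
  obtain ⟨_, ⟨a, d, ρ, ok, rfl⟩, hm⟩ := x
  replace e : ∀ g, dd a d ρ ok g = cj u g := e
  have e1 : a = 1 := by have := congrArg U.u (e (y1 1 (map_one σ))); usimp at this; simpa using this
  have e2 : ∀ t, d * ρ t = t := fun t => by have := congrArg U.t (e (y6 t)); usimp at this; simpa using this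
  have e3 : d = 1 := by simpa using e2 1
  exact Subtype.ext ((dd_congr ok ok_one e1 e3 (RingEquiv.ext fun t => by simpa [e3] using e2 t)).trans (dd_one _))

end CL.D3
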