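/-
S5261: the automizer of `Q'` (model: FUS/RF4/Ext, Big).
-/
import Cfsg.Agent.FUS.D3.Std

set_option autoImplicit false
set_option linter.unusedSimpArgs false
set_option linter.unusedSectionVars false

namespace CL.D3

open CL.Fus CL.RF4 Subgroup Cfsg Cfsg.FusionSystem
open scoped commutatorElement

variable {K : Type*} [Field K] [Finite K] {σ : K →+* K} [T : Tri σ] {p : ℕ} [Fact p.Prime] [CharP K p]
  {F F' : FusionSystem (⊤ : Subgroup (U σ))}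

open EsA EsB EsC

namespace QP

variable {g h : U σ}

theorem au_pair {Ω : Type*} [Group Ω] {P : Subgroup Ω} {f f' : Ω → Ω} (h : IsoOn P P f f') : Au P {f, f'} :=
  ⟨by rintro _ (rfl | rfl); exacts [h.hom, h.hom'], by rintro _ (rfl | rfl); exacts [h.maps, h.maps'], by
    rintro _ (rfl | rfl)
    exacts [⟨f', Or.inr rfl, fun y hy => ⟨h.left y hy, h.right y hy⟩⟩, ⟨f, Or.inl rfl, fun y hy => ⟨h.right y hy, h.left y hy⟩⟩]⟩

theorem cj_eq_br {Ω : Type*} [Group Ω] (x g : Ω) : cj x g = ⁅x, g⁆ * g := by simp [cj, commutatorElement_def]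

theorem cjV (x : U σ) (hg : g ∈ sV) : cj x g ∈ sV ∧ (cj x g).v = g.v + x.u * g.w ∧ (cj x g).w = g.w := by
  rw [cj_eq_br, br_V x hg]; msimp at hg ⊢; csimp; simp only [hg]; usimp; ring

theorem cjV' {x : U σ} (hx : x ∈ Q') (hg : g ∈ sV) : cj x g = g := cj_eq_self_iff.2 (comm_V hx hg)

theorem mulVA (hg : g ∈ sV) (hh : h ∈ sA) : (g * h).r = h.r := by msimp at hg hh; csimp; simp only [hg, hh]; usimp

theorem cjA (x : U σ) (hg : g ∈ sA) : cj x g ∈ sA ∧ (cj x g).r = g.r :=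
  ⟨Normal.conj_mem inferInstance g hg x, by rw [cj_eq_br, mulVA (brAV x hg) hg]⟩

theorem eqV (hg : g ∈ sV) (hh : h ∈ sV) (e1 : g.v = h.v) (e2 : g.w = h.w) : g = h := by
  msimp at hg hh; csimp; simp only [hg, hh, e1, e2, and_self]

theorem mulA (hg : g ∈ sA) (hh : h ∈ sA) : (g * h).v = g.v + h.v ∧ (g * h).w = g.w + h.w := by
  msimp at hg hh; csimp; simp only [hg, hh]; usimp

theorem VQ : sV ≤ Q' (σ := σ) := fun _ h => h.1
theorem AQ : sA ≤ Q' (σ := σ) := fun _ h => h.1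
theorem ZQ : sZ ≤ Q' (σ := σ) := fun _ h => h.1
theorem YV : sY5 ≤ sV (σ := σ) := fun _ hg => ⟨hg.1, hg.2.1, hg.2.2.2.1, hg.2.2.2.2⟩
theorem mem_Z (hg : g ∈ sV) (e : g.w = 0) : g ∈ sZ := ⟨hg.1, hg.2.1, hg.2.2.1, e, hg.2.2.2⟩
theorem mem_Y (hg : g ∈ sV) (e : g.v = 0) : g ∈ sY5 := ⟨hg.1, hg.2.1, e, hg.2.2.1, hg.2.2.2⟩
theorem mem_V (hg : g ∈ sA) (e : g.r = 0) : g ∈ sV := ⟨hg.1, hg.2.1, e, hg.2.2⟩
theorem y3V (c : K) (hc : σ c = c) : y3 c hc ∈ sV := ⟨rfl, rfl, rfl, rfl⟩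
theorem y3Z (c : K) (hc : σ c = c) : y3 c hc ∈ sZ := ⟨rfl, rfl, rfl, rfl, rfl⟩
theorem y5V (c : K) (hc : σ c = c) : y5 c hc ∈ sV := ⟨rfl, rfl, rfl, rfl⟩
theorem y4A (c : K) : y4 c ∈ sA (σ := σ) := ⟨rfl, rfl, rfl⟩

end QP

open QP

/-- `V = Z(Q')`, `A₀ = {g | ⁅g, Q'⁆ ≤ V}` (`br_r`, `cr_all_zero`) -/
theorem ivQ' {A : Set (U σ → U σ)} (hA : Au Q' A) : Ivs Q' A sV ∧ Ivs Q' A sA := by
  have iV : Ivs Q' A (sV (σ := σ)) := hA.iv_Zn.congr (fun y hy => ⟨fun e => by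
      have k := fun r => (cA hy (y4A r)).1 (e.2 _ rfl)
      have yA : y ∈ sA := ⟨hy, tr_nondeg fun r => mul_comm r y.s ▸ (k r).1, tr_nondeg fun r => mul_comm r y.t ▸ (k r).2⟩
      exact mem_V yA (tr_nondeg fun s => ((cA (show y2 s ∈ Q' from rfl) yA).1 (e.2 _ rfl).symm).1),
    fun e => ⟨hy, fun x hx => (comm_V hx e).symm⟩⟩) hA
  exact ⟨iV, (hA.iv_comm hA.iv_self iV).congr (fun y hy => ⟨fun e => ⟨hy, cr_all_zero (σ := σ) fun t => by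
      simpa [cr0', eq_comm] using (brV hy (show y6 t ∈ Q' from rfl)).1 (e _ rfl rfl), cr_all_zero (σ := σ) fun s => by
      simpa [cr0, cr_comm s] using (brV hy (show y2 s ∈ Q' from rfl)).1 (e _ rfl rfl)⟩, fun e x _ _ => br_symm (brAV x e)⟩) hA⟩

/-- `R₀ = {g ∈ Q' | ⁅g, A₀⁆ ≤ Z}`; the chain `1 < Z < V < A₀ < R₀ < Q'` (`br_*`); `ext_of_chain` -/
theorem extQ' (hF : F.IsSaturated p) (hc : F.IsCentric Q') {f : U σ → U σ} (hf : Mor F Q' f) (h1 : ∀ x ∈ Q', f x ∈ Q')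
    (h2 : ∀ x ∈ sZ, f x ∈ sZ) : ∃ g, Mor F ⊤ g ∧ Set.EqOn g f (Q' (σ := σ)) := by
  refine ext_of_chain isPGroup_top hF hc le_normalizer_of_normal (X := sZ) le_normalizer_of_normal (fun A hA iZ s _ => ?_) hf h1
    fun x _ hx => h2 x hx
  obtain ⟨iV, iA⟩ := ivQ' hA
  have iR : Ivs Q' A (sR (σ := σ)) := (hA.iv_comm iA iZ).congr (fun y hy => ⟨fun e => ⟨hy, tr_nondeg (σ := σ) fun r =>
    mul_comm r y.t ▸ (brAZ (y4A r)).1 (e _ rfl (y4A r))⟩, fun e x _ hx => (brAZ hx).2 (by simp [e.2])⟩) hA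
  exact ((((Ch.base hA iZ fun y _ hy => comm_Z s hy).step iZ iV fun y _ hy => brVZ s hy).step iV iA fun y _ hy => brAV s hy).step iA iR
    fun y _ hy => brR s hy).step iR Iv.top fun y _ _ => ⟨br_u s y, br_t s y⟩

/-- `Z = {⁅y2 1, a⁆ | a ∈ A₀}`, so `f Z = {⁅g, a⁆ | a ∈ A₀}`, `g = f (y2 1)` (`ivQ'` for `{f, f'}`). If `Ind g.s g.t` this is all of `V` (`br_Q'A`, `Ind.exists_tr2`), so `f Z = V = f V`, false (`y5 1`). So `(g.s, g.t) = (x τ, y τ)` (`not_ind`); `(x, y) ≠ 0` as `f Z ≠ 1`. -/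
theorem map_Z {f f' : U σ → U σ} (h : IsoOn Q' Q' f f') : ∃ x y, σ x = x ∧ σ y = y ∧ (x ≠ 0 ∨ y ≠ 0) ∧
    ∀ z ∈ sZ, f z ∈ sV ∧ ∃ e, σ e = e ∧ (f z).v = x * e ∧ (f z).w = y * e := by
  obtain ⟨iV, iA⟩ := ivQ' (au_pair h)
  have h2 : y2 1 ∈ Q' (σ := σ) := rfl
  have hg := h.maps _ h2
  have n : ¬ Ind σ (f (y2 1)).s (f (y2 1)).t := fun i => by
    have v := iV f (Or.inl rfl) _ rfl (y5V 1 (map_one σ))
    obtain ⟨r, e1, e2⟩ := i.exists_tr2 (x := -(f (y5 1 (map_one σ))).v) (y := (f (y5 1 (map_one σ))).w) (by simp) (by simp)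
    have a := iA f' (Or.inr rfl) _ rfl (y4A r)
    have := h.injOn (br_mem h2 a.1) (show y5 1 (map_one σ) ∈ Q' from rfl) (by
      rw [h.hom.map_commutator h2 a.1, h.right _ rfl, br_Q'A hg (y4A r)]
      exact eqV ⟨rfl, rfl, rfl, rfl⟩ v (by simp [mul_comm _ r, e1]) (by simp [mul_comm _ r, e2]))
    rw [br_Q'A h2 a] at this
    simpa using congrArg U.w this
  obtain ⟨τ, x, y, hx, hy, e1, e2⟩ := not_ind n
  refine ⟨-x, y, by simp [hx], hy, by_contra fun k => ?_, fun z hz => ⟨iV f (Or.inl rfl) _ (ZQ hz) (sZ_le_sV hz), ?_⟩⟩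
  · push Not at k
    have := iA f' (Or.inr rfl) _ hg ⟨hg, by simp [e1, neg_eq_zero.1 k.1], by simp [e2, k.2]⟩
    rw [h.left _ h2] at this
    exact one_ne_zero this.2.1
  obtain ⟨r, hr⟩ := exists_tr_mul (σ := σ) (r := 1) (c := -z.v) one_ne_zero (by simp)
  have ez : z = ⁅(y2 1 : U σ), y4 r⁆ := by
    rw [br_Q'A h2 (y4A r)]; exact eqV (sZ_le_sV hz) ⟨rfl, rfl, rfl, rfl⟩ (by simp [show tr σ r = -z.v by simpa using hr]) (by simp [hz.2.2.2.1])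
  have a := iA f (Or.inl rfl) _ rfl (y4A r)
  rw [ez, h.hom.map_commutator h2 rfl, br_Q'A hg a, e1, e2]
  exact ⟨tr σ (τ * (f (y4 r)).r), σ_tr _, by simp only [mul_assoc, tr_smul hx, neg_mul], by simp only [mul_assoc, tr_smul hy]⟩

/-- `cj (y1 c)` maps `(v, w) ∈ V` to `(v + c w, w)` -/
theorem line_cases {f f' : U σ → U σ} (h : IsoOn Q' Q' f f') :
    (∀ x ∈ sZ, f x ∈ sZ) ∨ ∃ c hc, ∀ x ∈ sZ, cj (y1 c hc) (f x) ∈ sY5 := by
  obtain ⟨x, y, hx, hy, -, k⟩ := map_Z h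
  by_cases y0 : y = 0
  · exact Or.inl fun z hz => let ⟨v, e, _, _, e2⟩ := k z hz; mem_Z v (by rw [e2, y0, zero_mul])
  refine Or.inr ⟨-x / y, by simp [hx, hy], fun z hz => ?_⟩
  obtain ⟨v, e, -, e1, e2⟩ := k z hz
  exact mem_Y (cjV _ v).1 (by rw [(cjV _ v).2.1, e1, e2, y1_u]; field_simp; ring)

/-- Proof. `exists_move`, `extQ'`, `line_cases`: `w ∈ Aut_F(Q')` with `w Z ≤ Y₅`, so `w Z = Y₅` (finite). `u_a = w ∘ cj (y1 a) ∘ w⁻¹` fixes `Y₅` pointwise, `u_a v ∈ v Y₅` for `v ∈ V` (`⁅y1 a, V⁆ ≤ Z`), and fixes `r` on `A₀` (`ivQ'`). By `map_Z`, `u_a (y3 v) = (v, s_a v)` (`x ≠ 0`, `s_a = y / x`).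
`a ↦ s_a` is injective on `F` (`s_a = s_b` ⇒ `u_a = u_b` on `V = Z Y₅` ⇒ `cj (y1 a) = cj (y1 b)` on `V`), so onto. `n = cj (y1 (-1/s)) ∘ u ∘ cj (y1 (-1/s))`. -/
theorem exists_ns (hF : F.IsSaturated p) (hE : F.IsEssential p Q') {s : K} (hs : σ s = s) (h0 : s ≠ 0) :
    ∃ n, Mor F Q' n ∧ (∀ x ∈ Q', n x ∈ Q') ∧ (∀ x ∈ sA, n x ∈ sA ∧ (n x).r = x.r) ∧
      ∀ x ∈ sV, (n x).v = -x.w / s ∧ (n x).w = s * x.v := by
  obtain ⟨f, f', hf, hf', i, k⟩ := exists_move hF hE (X := sZ) fun f => extQ' hF (centric_of hF hE)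
  obtain ⟨c, hc, k1⟩ := (line_cases i).resolve_left k
  obtain ⟨w, w', m, m', i0, wZ⟩ : ∃ w w', Mor F Q' w ∧ Mor F Q' w' ∧ IsoOn Q' Q' w w' ∧ ∀ x ∈ sZ, w x ∈ sY5 (σ := σ) :=
    ⟨_, _, hf.cj_comp trivial, hf'.comp (mor_cj' F Q' _) (isoOn_cj (P := Q') (y1 c hc)).maps', i.trans (isoOn_cj _), k1⟩
  obtain ⟨iV, iA⟩ := ivQ' (au_pair i0)
  have wV := fun x (hx : x ∈ sV) => iV w (Or.inl rfl) x (VQ hx) hx
  have wV' := fun x (hx : x ∈ sV) => iV w' (Or.inr rfl) x (VQ hx) hx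
  have wY : ∀ y ∈ sY5, w' y ∈ sZ := fun y hy => by
    obtain ⟨c, e⟩ := (Finite.injective_iff_surjective (f := fun c : Fx σ => (⟨(w (y3 c (σ_coe c))).w, U.hw _⟩ : Fx σ))).1 (fun a b e =>
      Subtype.ext (congrArg U.v (i0.injOn (ZQ (y3Z (a : K) (σ_coe a))) (ZQ (y3Z (b : K) (σ_coe b))) (eqV (YV (wZ _ (y3Z ..))) (YV (wZ _ (y3Z ..)))
        ((wZ _ (y3Z ..)).2.2.1.trans (wZ _ (y3Z ..)).2.2.1.symm) (congrArg Subtype.val e))))) ⟨y.w, y.hw⟩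
    rw [← eqV (YV (wZ _ (y3Z ..))) (YV hy) ((wZ _ (y3Z ..)).2.2.1.trans hy.2.2.1.symm) (congrArg Subtype.val e), i0.left _ rfl]
    exact y3Z ..
  have e0 : ∀ a x, x ∈ Q' → ⁅a, w' x⁆ ∈ Q' → w (cj a (w' x)) = w ⁅a, w' x⁆ * x := fun a x hx e => by
    rw [cj_eq_br, i0.map_mul e (i0.maps' x hx), i0.right x hx]
  have ua : ∀ a : Fx σ, ∃ s : Fx σ, ∀ x ∈ sV, w (cj (y1 (a : K) (σ_coe a)) (w' x)) ∈ sV ∧ (w (cj (y1 (a : K) (σ_coe a)) (w' x))).v = x.v ∧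
      (w (cj (y1 (a : K) (σ_coe a)) (w' x))).w = s * x.v + x.w := fun a => by
    have ia := (i0.symm.trans (isoOn_cj (y1 (a : K) (σ_coe a)))).trans i0
    have e1 : ∀ x ∈ sV, (w (cj (y1 (a : K) (σ_coe a)) (w' x))).v = x.v := fun x hx => by
      have k := brVZ (y1 (a : K) (σ_coe a)) (wV' x hx)
      rw [e0 _ _ (VQ hx) (ZQ k), (mulA (sV_le_sA (YV (wZ _ k))) (sV_le_sA hx)).1, (wZ _ k).2.2.1, zero_add]
    obtain ⟨x, y, hx, hy, -, k⟩ := map_Z ia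
    have x0 : x ≠ 0 := fun e => by
      obtain ⟨-, e', -, k, -⟩ := k _ (y3Z 1 (map_one σ))
      exact one_ne_zero ((e1 _ (y3V ..)).symm.trans (k.trans (by rw [e, zero_mul])))
    refine ⟨⟨y / x, by simp [mem_Fx, hx, hy]⟩, fun z hz => ⟨wV _ (cjV _ (wV' z hz)).1, e1 z hz, ?_⟩⟩
    obtain ⟨v, e, -, k1, k2⟩ := k _ (y3Z z.v z.hv)
    have k3 := ia.map_mul (show y3 z.v z.hv ∈ Q' from rfl) (show y5 z.w z.hw ∈ Q' from rfl)
    rw [← eqV hz (mul_mem (y3V z.v z.hv) (y5V z.w z.hw)) (by usimp) (by usimp)] at k3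
    have k4 : w (cj (y1 (a : K) (σ_coe a)) (w' (y5 z.w z.hw))) = y5 z.w z.hw := by
      rw [cj_eq_self_iff.2 (comm_Z _ (wY _ ⟨rfl, rfl, rfl, rfl, rfl⟩)), i0.right _ rfl]
    simp only [Function.comp] at k1 k2 k3 v
    rw [e1 _ (y3V ..), y3_v] at k1
    rw [k3, k4, (mulA (sV_le_sA v) (sV_le_sA (y5V ..))).2, k2, k1, y5_w]
    field_simp
  choose t ht using ua
  obtain ⟨a, ha⟩ := (Finite.injective_iff_surjective (f := t)).1 (fun a b e => by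
    have v := wV _ (y5V 1 (map_one σ))
    have := eqV (ht a _ v).1 (ht b _ v).1 ((ht a _ v).2.1.trans (ht b _ v).2.1.symm) (by rw [(ht a _ v).2.2, (ht b _ v).2.2, e])
    rw [i0.left _ rfl] at this
    have := congrArg U.v (i0.injOn (VQ (cjV _ (y5V ..)).1) (VQ (cjV _ (y5V ..)).1) this)
    rw [(cjV _ (y5V ..)).2.1, (cjV _ (y5V ..)).2.1] at this
    exact Subtype.ext (by simpa using this)) ⟨s, hs⟩
  have hs' : σ (-1 / s) = -1 / s := by simp [hs]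
  have q := fun x => (isoOn_cj (P := Q' (σ := σ)) x).maps
  refine ⟨cj (y1 _ hs') ∘ w ∘ cj (y1 (a : K) (σ_coe a)) ∘ w' ∘ cj (y1 _ hs'),
    (m.comp ((m'.comp (mor_cj' F _ _) (q _)).cj_comp trivial) fun g hg => q _ _ (i0.maps' _ (q _ g hg))).cj_comp trivial,
    fun g hg => q _ _ (i0.maps _ (q _ _ (i0.maps' _ (q _ g hg)))), fun x hx => ?_, fun x hx => ?_⟩
  · obtain ⟨k1, k2⟩ := cjA (y1 _ hs') hx
    have k3 := brAV (y1 (a : K) (σ_coe a)) (iA w' (Or.inr rfl) _ (AQ k1) k1)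
    have k4 := mul_mem (sV_le_sA (wV _ k3)) k1
    simp only [Function.comp]
    rw [e0 _ _ (AQ k1) (VQ k3)]
    exact ⟨(cjA _ k4).1, by rw [(cjA _ k4).2, mulVA (wV _ k3) k1, k2]⟩
  · obtain ⟨k1, k2, k3⟩ := cjV (y1 _ hs') hx
    obtain ⟨k4, k5, k6⟩ := ht a _ k1
    simp only [Function.comp]
    rw [(cjV _ k4).2.1, (cjV _ k4).2.2, k5, k6, ha, k2, k3, y1_u]
    constructor <;> field_simp <;> ring

/-- an automorphism of `Q'` in `F` leaving `Z` and `Y₅` invariant: `extQ'`, `dd_mem`; `cj x (dd (y5 1)) ∈ Y₅` gives `x.u = 0` -/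
theorem stabQ' (hF : F.IsSaturated p) (hS : Std F) (hc : F.IsCentric Q') {f : U σ → U σ} (hf : Mor F Q' f) (h : ∀ x ∈ Q', f x ∈ Q')
    (h3 : ∀ x ∈ sZ, f x ∈ sZ) (h5 : ∀ x ∈ sY5, f x ∈ sY5) :
    ∃ x ∈ Q', ∃ a d ρ k, Mor F ⊤ (dd (σ := σ) a d ρ k) ∧ ∀ g ∈ Q', f g = cj x (dd a d ρ k g) := by
  obtain ⟨k, hk, e⟩ := extQ' hF hc hf h h3
  obtain ⟨x, a, d, ρ, ok, hd, hx⟩ := dd_mem hS hk
  refine ⟨x, ?_, a, d, ρ, ok, hd, fun g hg => by rw [← e hg, hx]⟩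
  have e1 := (h5 (y5 1 (map_one σ)) ⟨rfl, rfl, rfl, rfl, rfl⟩).2.2.1
  rw [← e (show y5 1 (map_one σ) ∈ Q' from rfl), hx, (cjV _ (AutA.mV _ (y5V ..))).2.1] at e1
  simpa [ok.a0, ok.d0, mem_Q'] using e1

/-- `a d^# ρ r = a' d'^# ρ' r` gives `ρ = ρ'`; `a² N(d)`, `a N(d)` give `a`, `N(d)`; `d = N(d) / d^#` (`mul_sh`) -/
theorem dd_eq_of_A {a d a' d' : K} {ρ ρ' : RingAut K} (h : Ok σ a d) (h' : Ok σ a' d') (e1 : ∀ r, a * sh σ d * ρ r = a' * sh σ d' * ρ' r)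
    (e2 : a ^ 2 * nm σ d = a' ^ 2 * nm σ d') (e3 : a * nm σ d = a' * nm σ d') : a = a' ∧ d = d' ∧ ρ = ρ' := by
  have k1 : a * sh σ d = a' * sh σ d' := by simpa using e1 1
  have n : a' * nm σ d' ≠ 0 := by simp [h'.a0, h'.d0]
  obtain rfl : a = a' := mul_right_cancel₀ n (by linear_combination e2 - a * e3)
  have k2 := mul_left_cancel₀ h.a0 k1
  refine ⟨rfl, mul_right_cancel₀ (mt (sh_eq_zero (σ := σ)).1 h.d0) (by rw [mul_sh, k2, mul_sh, mul_left_cancel₀ h.a0 e3]), RingEquiv.ext fun r => ?_⟩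
  exact mul_left_cancel₀ (mul_ne_zero h.a0 (mt (sh_eq_zero (σ := σ)).1 h.d0)) (by rw [e1, k2])

/-- `n_s ∘ n_1` with `s = -1 / c` acts on `V` as `(c v, w / c)`; `stabQ'` (`cj x`, `x ∈ Q'`, is trivial on `V` and on `A₀ / V`), `dd_eq_of_A` -/
theorem hb_mem (hF : F.IsSaturated p) (hS : Std F) (hE : F.IsEssential p Q') : Hb F := by
  intro c h hc
  have c0 : c ≠ 0 := by simpa using h.d0
  obtain ⟨n, m, q, a1, v1⟩ := exists_ns hF hE (s := -1 / c) (by simp [hc]) (by simp [c0])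
  obtain ⟨n', m', q', a2, v2⟩ := exists_ns hF hE (map_one σ) one_ne_zero
  have k : ∀ x ∈ sV, n (n' x) ∈ sV ∧ (n (n' x)).v = c * x.v ∧ (n (n' x)).w = c⁻¹ * x.w := fun x hx => by
    have k1 := mem_V (a2 x (sV_le_sA hx)).1 ((a2 x (sV_le_sA hx)).2.trans hx.2.2.1)
    refine ⟨mem_V (a1 _ (sV_le_sA k1)).1 ((a1 _ (sV_le_sA k1)).2.trans k1.2.2.1), ?_⟩
    rw [(v1 _ k1).1, (v1 _ k1).2, (v2 x hx).1, (v2 x hx).2]
    constructor <;> field_simp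
  obtain ⟨x, hx, a, d, ρ, ok, hd, e⟩ := stabQ' hF hS (centric_of hF hE) (m.comp m' q') (fun x hx => q _ (q' x hx))
    (fun x hx => mem_Z (k x (sZ_le_sV hx)).1 ((k x (sZ_le_sV hx)).2.2.trans (by rw [hx.2.2.2.1, mul_zero])))
    fun x hx => mem_Y (k x (YV hx)).1 ((k x (YV hx)).2.1.trans (by rw [hx.2.2.1, mul_zero]))
  have hi : σ c⁻¹ = c⁻¹ := by simp [hc]
  obtain ⟨e1, e2, e3⟩ := dd_eq_of_A (ρ := ρ) (ρ' := 1) ok h (fun r => by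
      have := congrArg U.r (e (y4 r) rfl)
      rw [(cjA _ (AutA.mA _ (y4A r))).2, Function.comp, (a1 _ (a2 _ (y4A r)).1).2, (a2 _ (y4A r)).2, dd_r, y4_r] at this
      rw [← this, sh_fx hi, RingAut.one_apply]; field_simp)
    (by
      have := congrArg U.v (e (y3 1 (map_one σ)) rfl)
      rw [cjV' hx (AutA.mV _ (y3V ..)), Function.comp, (k _ (y3V ..)).2.1, dd_v, y3_v, map_one, mul_one, mul_one] at this
      rw [← this, nm_fx hi]; field_simp)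
    (by
      have := congrArg U.w (e (y5 1 (map_one σ)) rfl)
      rw [cjV' hx (AutA.mV _ (y5V ..)), Function.comp, (k _ (y5V ..)).2.2, dd_w, y5_w, map_one, mul_one, mul_one] at this
      rw [← this, nm_fx hi]; field_simp)
  rwa [dd_congr ok h e1 e2 e3] at hd

/-- Proof. `ε` fixes `s, t`: `ε ⁅g, a⁆ = ⁅g, a⁆`, `br_Q'A`, `tr_nondeg` (every `r` is `(ε (y4 r)).r`). `s ↦ (ε (y2 s)).r` is additive with `r(d s) = d^# r(s)` (`h2` with `a = 1`): `eq_zero_of_sh`. Then `v, w` of `ε (y2 s)` are additive and invariant under `s ↦ d s`, `N d = 1`, `d ≠ 1` (`exists_nm_one`), so vanish on `(d - 1) s`. The same for `y6`, and for `y4` with `d^# ≠ 1`. `eq_prod`. -/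
theorem rigidQ' (ε : U σ → U σ) (h1 : IsHomOn Q' ε) (h0 : ∀ g ∈ Q', ε g ∈ Q') (h2 : ∀ d (h : Ok σ 1 d), ∀ g ∈ Q', ε (dd 1 d 1 h g) = dd 1 d 1 h (ε g))
    (h3 : ∀ g ∈ sV, ε g = g) (h4 : ∀ g ∈ sA, ε g ∈ sA ∧ (ε g).r = g.r) : ∀ g ∈ Q', ε g = g := by
  have st : ∀ g ∈ Q', (ε g).s = g.s ∧ (ε g).t = g.t := fun g hg => by
    have k : ∀ r, tr σ ((ε g).s * r) = tr σ (g.s * r) ∧ tr σ ((ε g).t * r) = tr σ (g.t * r) := fun r => by
      have := h3 _ (brAV g (y4A r))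
      rw [h1.map_commutator hg rfl, br_Q'A (h0 g hg) (h4 _ (y4A r)).1, br_Q'A hg (y4A r), (h4 _ (y4A r)).2] at this
      exact ⟨neg_injective (congrArg U.v this), congrArg U.w this⟩
    exact ⟨sub_eq_zero.1 (tr_nondeg (σ := σ) fun r => by rw [sub_mul, tr_sub, (k r).1, sub_self]),
      sub_eq_zero.1 (tr_nondeg (σ := σ) fun r => by rw [sub_mul, tr_sub, (k r).2, sub_self])⟩
  obtain ⟨d, d0, d1, dn, ds⟩ := exists_nm_one (σ := σ)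
  have ok : ∀ {d : K}, d ≠ 0 → Ok σ 1 d := fun h => ⟨map_one _, one_ne_zero, h⟩
  have k0 : ∀ Y : K → U σ, (∀ a, Y a ∈ Q') → (∀ a b, Y (a + b) = Y a * Y b) → (∀ d (h : d ≠ 0) a, dd 1 d 1 (ok h) (Y a) = Y (d * a)) →
      (∀ a b, (ε (Y a) * ε (Y b)).r = (ε (Y a)).r + (ε (Y b)).r) → ∀ a, (ε (Y a)).r = 0 := fun Y q add hd hr =>
    eq_zero_of_sh (σ := σ) (AddMonoidHom.mk' (fun a => (ε (Y a)).r) fun a b => by rw [add, h1 (q a) (q b), hr]) fun d s h => by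
      simp only [AddMonoidHom.mk'_apply]; rw [← hd d h, h2 d _ _ (q s), dd_r]; simp
  have k1 : ∀ (Y : K → U σ) (m : K), m ≠ 1 → (∀ a, Y a ∈ Q') → (∀ a b, Y (a + b) = Y a * Y b) → (∀ a, dd 1 d 1 (ok d0) (Y a) = Y (m * a)) →
      (∀ a b, (ε (Y a) * ε (Y b)).v = (ε (Y a)).v + (ε (Y b)).v ∧ (ε (Y a) * ε (Y b)).w = (ε (Y a)).w + (ε (Y b)).w) →
      ∀ a, (ε (Y a)).v = 0 ∧ (ε (Y a)).w = 0 := fun Y m m1 q add hd hr a => by
    have e := h2 d (ok d0) _ (q (a / (m - 1)))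
    rw [hd, show m * (a / (m - 1)) = a + a / (m - 1) by field_simp [sub_ne_zero.2 m1]; ring, add, h1 (q _) (q _)] at e
    have e1 := congrArg U.v e
    have e2 := congrArg U.w e
    rw [(hr ..).1, dd_v, dn] at e1
    rw [(hr ..).2, dd_w, dn] at e2
    exact ⟨by simpa using e1, by simpa using e2⟩
  have u0 : ∀ g ∈ Q', (ε g).u = 0 := h0
  have q2 : ∀ a, y2 a ∈ Q' (σ := σ) := fun _ => rfl
  have q4 : ∀ a, y4 a ∈ Q' (σ := σ) := fun _ => rfl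
  have q6 : ∀ a, y6 a ∈ Q' (σ := σ) := fun _ => rfl
  have r2 := k0 y2 q2 (fun a b => by usimp) (fun d h a => by dsimp'; simp) fun a b => by
    rw [U.mul_r, u0 _ (q2 _), (st _ (q2 _)).2]; simp [cr0]
  have r6 := k0 y6 q6 (fun a b => by usimp) (fun d h a => by dsimp'; simp) fun a b => by
    rw [U.mul_r, u0 _ (q6 _), (st _ (q6 _)).1]; simp [cr0']
  have v2 := k1 y2 d d1 q2 (fun a b => by usimp) (fun a => by dsimp'; simp) fun a b => by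
    rw [U.mul_v, U.mul_w, u0 _ (q2 _), (st _ (q2 a)).2, r2]; simp [sh0]
  have v6 := k1 y6 d d1 q6 (fun a b => by usimp) (fun a => by dsimp'; simp) fun a b => by
    rw [U.mul_v, U.mul_w, u0 _ (q6 _), (st _ (q6 b)).1, r6, r6]; simp [sh0]
  have v4 := k1 y4 _ ds q4 (fun a b => by usimp) (fun a => by dsimp'; simp) fun a b => mulA (h4 _ (y4A a)).1 (h4 _ (y4A b)).1
  have e2 : ∀ a, ε (y2 a) = y2 a := fun a => U.ext (u0 _ rfl) (st _ rfl).1 (v2 a).1 (r2 a) (v2 a).2 (st _ rfl).2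
  have e6 : ∀ a, ε (y6 a) = y6 a := fun a => U.ext (u0 _ rfl) (st _ rfl).1 (v6 a).1 (r6 a) (v6 a).2 (st _ rfl).2
  have e4 : ∀ a, ε (y4 a) = y4 a := fun a => U.ext (u0 _ rfl) (st _ rfl).1 (v4 a).1 (h4 _ (y4A a)).2 (v4 a).2 (st _ rfl).2
  intro g hg
  have e : g = y2 g.s * (y3 g.v g.hv * (y4 g.r * (y5 g.w g.hw * y6 g.t))) := by usimp; exact hg
  have q3 := VQ (y3V g.v g.hv)
  have q5 := VQ (y5V g.w g.hw)
  rw [e, h1 (q2 _) (mul_mem q3 (mul_mem (q4 _) (mul_mem q5 (q6 _)))), h1 q3 (mul_mem (q4 _) (mul_mem q5 (q6 _))),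
    h1 (q4 _) (mul_mem q5 (q6 _)), h1 q5 (q6 _), e2, e4, e6, h3 _ (y3V ..), h3 _ (y5V ..)]

theorem wb_dd {a d : K} (ρ : RingAut K) (h : Ok σ a d) (h' : Ok σ a⁻¹ (a * d)) {g : U σ} (hg : g ∈ Q') :
    wb (dd a d ρ h g) = dd a⁻¹ (a * d) ρ h' (wb g) := by
  have := h.a0
  rw [mem_Q'] at hg; dsimp'; asimp; simp only [σ_map, h.fx, σ3, U.hu, U.hv, U.hw, map_zero, mul_zero]
  and_intros <;> first | trivial | (field_simp; try ring) | ring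

/-- Proof. `n` from `exists_ns` with `s = -1` agrees with `wb` on `V` and `A₀ / V`. For `δ ∈ DF F`, `n δ n⁻¹` leaves `Z`, `Y₅` invariant: `stabQ'`; `exists_norm` (`coprime_DF`): `n' = cj u ∘ n`, `n' δ = δ' n'`, `δ' ∈ DF F`. For `δ = dd 1 d 1`: `δ' = dd 1 d 1` (`dd_eq_of_A`; `n'` still agrees with `wb` on `V`, `A₀ / V`). `ε = wb' ∘ n'` (note `wb' ∘ dd 1 d 1 = dd 1 d 1 ∘ wb'` from `wb_dd`), `rigidQ'`. -/
theorem wb_mem (hF : F.IsSaturated p) (hS : Std F) (hE : F.IsEssential p Q') (ht : Ht F) : Mor F Q' wb := by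
  obtain ⟨n, m, q, a1, v1⟩ := exists_ns hF hE (s := -1) (by simp) (by simp)
  obtain ⟨n', m', i⟩ := exists_isoOn m q
  obtain ⟨iV, -⟩ := ivQ' (au_pair i)
  have nV := fun x (hx : x ∈ sV) => iV n (Or.inl rfl) x (VQ hx) hx
  have nV' := fun x (hx : x ∈ sV) => iV n' (Or.inr rfl) x (VQ hx) hx
  have v2 : ∀ x ∈ sV, (n x).v = x.w ∧ (n x).w = -x.v := fun x hx => by simpa using v1 x hx
  have v3 : ∀ x ∈ sV, x.v = (n' x).w ∧ x.w = -(n' x).v := fun x hx => by simpa [i.right x (VQ hx)] using v2 _ (nV' x hx)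
  obtain ⟨u, hu, hn⟩ := exists_norm (isPGroup_U p) (coprime_DF hF) (fun α _ g hg => AutA.mQ' α hg) i fun α hα => by
    obtain ⟨⟨a, d, ρ, ok, rfl⟩, hd⟩ := hα
    obtain ⟨u, hu, a', d', ρ', ok', hd', e⟩ := stabQ' hF hS (centric_of hF hE)
      (m.comp ((hd.mono le_top).comp m' i.maps') fun x hx => AutA.mQ' _ (i.maps' x hx)) (fun x hx => q _ (AutA.mQ' _ (i.maps' x hx)))
      (fun x hx => have k := AutA.mV (dd a d ρ ok) (nV' x (sZ_le_sV hx)); mem_Z (nV _ k) ((v2 _ k).2.trans (by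
        rw [dd_v, neg_eq_zero.1 ((v3 x (sZ_le_sV hx)).2.symm.trans hx.2.2.2.1)]; simp)))
      fun x hx => have k := AutA.mV (dd a d ρ ok) (nV' x (YV hx)); mem_Y (nV _ k) ((v2 _ k).1.trans (by
        rw [dd_w, ← (v3 x (YV hx)).1, hx.2.2.1]; simp))
    exact ⟨u, hu, _, ⟨⟨_, _, _, ok', rfl⟩, hd'⟩, fun g hg => by simpa only [Function.comp, i.left g hg] using e _ (q g hg)⟩
  have q' : ∀ g ∈ Q', cj u (n g) ∈ Q' := fun g hg => cj_mem hu (q g hg)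
  have NV : ∀ g ∈ sV, cj u (n g) = n g := fun g hg => cjV' hu (nV g hg)
  have NA : ∀ g ∈ sA, cj u (n g) ∈ sA ∧ (cj u (n g)).r = g.r := fun g hg => ⟨(cjA u (a1 g hg).1).1, (cjA u (a1 g hg).1).2.trans (a1 g hg).2⟩
  refine (m.cj_comp (s := u) trivial).congr fun g hg => (isoOn_wb.right _ (q' g hg)).symm.trans (congrArg wb
    (rigidQ' (wb' ∘ cj u ∘ n) (isoOn_wb.hom'.comp (m.cj_comp (s := u) trivial).isHomOn q') (fun _ _ => rfl) (fun d h x hx => ?_)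
      (fun x hx => ?_) (fun x hx => ?_) g hg))
  · obtain ⟨_, ⟨⟨a', d', ρ', ok', rfl⟩, -⟩, e⟩ := hn _ ⟨⟨_, _, _, h, rfl⟩, ht 1 d h⟩
    obtain ⟨e1, e2, e3⟩ := dd_eq_of_A (ρ := ρ') (ρ' := 1) ok' h (fun r => by
        have := congrArg U.r (e (y4 r) rfl)
        rwa [(NA _ (AutA.mA _ (y4A r))).2, dd_r, dd_r, (NA _ (y4A r)).2, eq_comm] at this)
      (by
        have := congrArg U.v (e (y5 1 (map_one σ)) rfl)
        rw [NV _ (AutA.mV _ (y5V ..)), NV _ (y5V ..), (v2 _ (AutA.mV _ (y5V ..))).1, dd_v, dd_w, (v2 _ (y5V ..)).1] at this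
        simpa using this.symm)
      (by
        have := congrArg U.w (e (y3 1 (map_one σ)) rfl)
        rw [NV _ (AutA.mV _ (y3V ..)), NV _ (y3V ..), (v2 _ (AutA.mV _ (y3V ..))).2, dd_v, dd_w, (v2 _ (y3V ..)).2] at this
        simpa using this.symm)
    have h' : Ok σ 1⁻¹ (1 * d) := by simpa using h
    have := wb_dd 1 h h' (isoOn_wb.maps' _ (q' x hx))
    rw [isoOn_wb.right _ (q' x hx), dd_congr h' h inv_one (one_mul d) rfl] at this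
    simp only [Function.comp]
    rw [e x hx, dd_congr ok' h e1 e2 e3, ← this, isoOn_wb.left _ (AutA.mQ' _ rfl)]
  · have k := nV x hx
    simp only [Function.comp]
    rw [NV x hx]
    msimp at k hx; dsimp'; simp [k, hx, v2 x hx, cr0]
  · have k := NA x hx
    simp only [Function.comp]
    exact ⟨⟨rfl, k.1.2.2, neg_eq_zero.2 k.1.2.1⟩, by rw [wb'_r, k.2, k.1.2.2, cr0, sub_zero]⟩

end CL.D3
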