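/-
S5261: the automizer of `Q`.
-/
import Cfsg.Agent.FUS.D3.Std
import Cfsg.Agent.FUS.D3.LinD

set_option autoImplicit false
set_option linter.unusedSimpArgs false
set_option linter.unusedSectionVars false
set_option linter.unusedVariables false
set_option linter.unnecessarySeqFocus false

namespace CL.D3

open CL.Fus CL.RF4 Subgroup Cfsg Cfsg.FusionSystem
open scoped commutatorElement

variable {K : Type*} [Field K] [Finite K] {σ : K →+* K} [T : Tri σ] {p : ℕ} [Fact p.Prime] [CharP K p]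
  {F F' : FusionSystem (⊤ : Subgroup (U σ))}

namespace QS

variable {f f' : U σ → U σ} {g h : U σ}

theorem b0 (i : IsoOn Q Q f f') (hg : g ∈ Q) (hh : h ∈ Q) : bf (f g) (f h) = 0 ↔ bf g h = 0 := by
  rw [← comm_Q hg hh, ← comm_Q (i.maps _ hg) (i.maps _ hh), ← i.map_mul hg hh, ← i.map_mul hh hg, i.eq_iff (mul_mem hg hh) (mul_mem hh hg)]

theorem Z_le : sZ ≤ Q (σ := σ) := fun _ k => k.2.2.2.2
theorem V_le : sV ≤ Q (σ := σ) := fun _ k => k.2.2.2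

theorem mapZ (i : IsoOn Q Q f f') (hg : g ∈ sZ) : f g ∈ sZ := by
  have m := i.maps _ (Z_le hg)
  have := bW_nondeg (y := pW (f g)) fun z => by
    rw [← pW_lW z, bW_pW, ← i.right _ (lW_mem z), b0 i (Z_le hg) (i.maps' _ (lW_mem z)), ← comm_Q (Z_le hg) (i.maps' _ (lW_mem z)),
      comm_Z _ hg]
  simpa using (pW_eq_iff m (one_mem _)).1 this

theorem wd (i : IsoOn Q Q f f') (hg : g ∈ Q) : pW (f (lW (pW g))) = pW (f g) := by
  rw [pW_eq_iff (i.maps _ (lW_mem _)) (i.maps _ hg), ← i.map_inv hg, ← i.map_mul (lW_mem _) (inv_mem hg)]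
  exact mapZ i ((pW_eq_iff (lW_mem _) hg).1 rfl)

theorem exX (i : IsoOn Q Q f f') : ∃ x : MulAut (W σ), ∀ g ∈ Q, pW (f g) = x (pW g) :=
  ⟨⟨⟨fun y => pW (f (lW y)), fun y => pW (f' (lW y)), fun y => by
      simp only [wd i.symm (i.maps _ (lW_mem y)), i.left _ (lW_mem y), pW_lW], fun y => by
      simp only [wd i (i.maps' _ (lW_mem y)), i.right _ (lW_mem y), pW_lW]⟩, fun y z => by
    have := wd i (mul_mem (lW_mem y) (lW_mem z))
    rw [pW_mul (lW_mem y), i.map_mul (lW_mem y) (lW_mem z), pW_mul (i.maps _ (lW_mem y))] at this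
    exact this⟩, fun _ hg => (wd i hg).symm⟩

theorem extW {x y : MulAut (W σ)} (e : ∀ g ∈ Q, x (pW g) = y (pW g)) : x = y := MulEquiv.ext fun z => e _ (lW_mem z)

/-- the action of `Aut(Q)` on `W` -/
theorem exΦ : ∃ Φ : MulAut (Q (σ := σ)) →* MulAut (W σ), ∀ α, ∀ g ∈ Q, pW (autFun α g) = Φ α (pW g) := by
  choose x hx using fun α : MulAut (Q (σ := σ)) => exX (isoOn_autFun α)
  exact ⟨MonoidHom.mk' x fun α β => extW fun g hg => by
    rw [← hx _ g hg, autFun_mul _ _ hg, hx _ _ (autFun_mem β hg), hx _ g hg]; rfl, hx⟩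

theorem fZ (hf : IsHomOn Q f) (h1 : ∀ g ∈ Q, f g ∈ Q) (hg : g ∈ Q) (hh : h ∈ Q) :
    f (y3 (bf g h) (σ_bf g h)) = y3 (bf (f g) (f h)) (σ_bf _ _) := by
  rw [← br_Q hg hh, hf.map_commutator hg hh, br_Q (h1 _ hg) (h1 _ hh)]

theorem fixZ (hf : IsHomOn Q f) (h1 : ∀ g ∈ Q, f g ∈ Q) (e : ∀ g ∈ Q, pW (f g) = pW g) (hg : g ∈ sZ) : f g = g := by
  have := fZ hf h1 (g := y1 g.v g.hv) (h := y5 1 (map_one σ)) rfl rfl
  simp only [← bW_pW, e _ (show y1 g.v g.hv ∈ Q from rfl), e _ (show y5 1 (map_one σ) ∈ Q from rfl)] at this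
  rwa [show y3 _ _ = g from U.ext hg.1.symm hg.2.1.symm (by simp [bW]) hg.2.2.1.symm hg.2.2.2.1.symm hg.2.2.2.2.symm] at this

theorem mem_V (hg : g ∈ Q) : g ∈ sV ↔ pW g ∈ VW := ⟨fun k => ⟨k.1, k.2.1, k.2.2.1⟩, fun k => ⟨k.1, k.2.1, k.2.2, hg⟩⟩

theorem dd_Q {a d : K} {ρ : RingAut K} (k : Ok σ a d) (hg : g ∈ Q) : dd a d ρ k g ∈ Q := by rw [mem_Q] at *; simp [hg]

theorem dW_mem {a d : K} {ρ : RingAut K} {k : Ok σ a d} (m : Mor F ⊤ (dd a d ρ k)) :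
    ∃ f, Mor F Q f ∧ (∀ g ∈ Q, f g ∈ Q) ∧ ∀ g ∈ Q, pW (f g) = dW a d ρ k (pW g) :=
  ⟨_, m.mono le_top, fun _ => dd_Q k, fun g _ => pW_dd k g⟩

theorem cj_Q {u : U σ} (hu : u ∈ Q) (hg : g ∈ Q) : cj u g = y3 (bf u g) (σ_bf u g) * g := by
  rw [← br_Q hu hg, commutatorElement_def, inv_mul_cancel_right, cj]

end QS

open QS

/-- `α ∈ N = Aut_F(Q) ⊓ stabAut Q sV ≥ Aut_S(Q)` (as in `CL.RF4.ext_of_chain`); `N ≤ extAut F Q` by `cx_of`, `stabV`; `ext_extAutQ` -/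
theorem extQ (hF : F.IsSaturated p) (hE : F.IsEssential p Q) {f : U σ → U σ} (hf : Mor F Q f) (h1 : ∀ x ∈ Q, f x ∈ Q)
    (h2 : ∀ x ∈ sV, f x ∈ sV) : ∃ g, Mor F ⊤ g ∧ Set.EqOn g f (Q (σ := σ)) := by
  obtain ⟨α, hα, e⟩ := hf.exists_aut (hf.img_eq_self h1)
  have hN : F.autGroup Q ⊓ stabAut Q sV ≤ extAut F Q := by
    by_contra k
    refine stabV (cx_of (N := F.autGroup Q ⊓ stabAut Q sV) isPGroup_top hF hE (le_inf (autInducedBy_le_autGroup F le_top) fun β hβ x hx => ?_) inf_le_left k) ?_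
    · obtain ⟨s, -, e'⟩ := mem_autInducedBy_iff.1 hβ
      rw [e' hx]
      exact (mem_normalizer_iff.1 (le_normalizer_of_normal (K := ⊤) (mem_top s)) x).symm
    · rintro _ ⟨γ, hγ, rfl⟩ y hy k
      exact (hγ.2 y hy).2 k
  obtain ⟨g, hg, e'⟩ := ext_extAutQ hF (hN ⟨hα, mem_stabAut_of_finite V_le fun x hx => e (V_le hx) ▸ h2 x hx⟩)
  exact ⟨g, hg, e'.trans e⟩

/-- the image of `Aut_F(Q)` in `Aut(W)` -/
def XW (F : FusionSystem (⊤ : Subgroup (U σ))) : Subgroup (MulAut (W σ)) where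
  carrier := {x | ∃ f, Mor F Q f ∧ (∀ g ∈ Q, f g ∈ Q) ∧ ∀ g ∈ Q, pW (f g) = x (pW g)}
  one_mem' := ⟨id, mor_id F le_top, fun _ h => h, fun _ _ => rfl⟩
  mul_mem' := fun ⟨f, h1, h2, h3⟩ ⟨f', k1, k2, k3⟩ => ⟨f ∘ f', h1.comp k1 k2, fun g hg => h2 _ (k2 g hg), fun g hg => by
    rw [Function.comp, h3 _ (k2 g hg), k3 g hg]; rfl⟩
  inv_mem' := fun {x} ⟨f, h1, h2, h3⟩ =>
    let ⟨f', k, i⟩ := exists_isoOn h1 h2
    ⟨f', k, i.maps', fun g hg => x.injective (by rw [← h3 _ (i.maps' g hg), i.right g hg, MulAut.apply_inv_self])⟩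

/-- `Z = Z(Q)` is invariant (`comm_Q`, `bW_nondeg`); `x y = pW (f (lW y))`, `pW_eq_iff` -/
theorem exists_XW {f : U σ → U σ} (hf : Mor F Q f) (h1 : ∀ g ∈ Q, f g ∈ Q) : ∃ x ∈ XW F, ∀ g ∈ Q, pW (f g) = x (pW g) := by
  obtain ⟨f', -, i⟩ := exists_isoOn hf h1
  obtain ⟨x, hx⟩ := exX i
  exact ⟨x, ⟨f, hf, h1, hx⟩, hx⟩

/-- `f` is trivial on `Q / Z`, so on `Z` (commutators, `br_Q`); `mem_inn_of_chain` (FUS/CRTools; `isRadical_of_essential`) with the chain `1 < Z < Q` -/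
theorem inner_of_triv (hF : F.IsSaturated p) (hE : F.IsEssential p Q) {f : U σ → U σ} (hf : Mor F Q f) (h1 : ∀ g ∈ Q, f g ∈ Q)
    (e : ∀ g ∈ Q, pW (f g) = pW g) : ∃ u ∈ Q, ∀ g ∈ Q, f g = cj u g := by
  obtain ⟨α, hα, k⟩ := hf.exists_aut (hf.img_eq_self h1)
  have iZ : AutInv (F.autGroup Q) (sZ (σ := σ)) := fun β _ y _ hy => mapZ (isoOn_autFun β) hy
  obtain ⟨u, hu, e'⟩ := mem_inn_iff.1 (mem_inn_of_chain isPGroup_top (isRadical_of_essential isPGroup_top hF hE) hα le_rfl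
    (.tail (.single (.inl ⟨autInv_bot _, iZ, fun y hy hz => by rw [k hy, fixZ hf.isHomOn h1 e hz]; simp⟩))
      (.inl ⟨iZ, autInv_of_le _ le_rfl, fun y hy _ => by
        rw [k hy]; exact Normal.mem_comm inferInstance ((pW_eq_iff (h1 y hy) hy).1 (e y hy))⟩)))
  exact ⟨u, hu, fun g hg => (k hg).symm.trans (e' hg)⟩

theorem QS.std0 (hF : F.IsSaturated p) (hS : Std F) (hE : F.IsEssential p Q) {x : MulAut (W σ)} (hx : x ∈ XW F) (e : ∀ v ∈ VW, x v ∈ VW) :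
    ∃ t a d ρ k, Mor F ⊤ (dd (σ := σ) a d ρ k) ∧ x = tt t * dW a d ρ k := by
  obtain ⟨f, hf, h1, h2⟩ := hx
  obtain ⟨g, hg, k⟩ := extQ hF hE hf h1 fun y hy => (mem_V (h1 _ (V_le hy))).2 (h2 _ (V_le hy) ▸ e _ ((mem_V (V_le hy)).1 hy))
  obtain ⟨y, a, d, ρ, ok, m, e'⟩ := dd_mem hS hg
  exact ⟨y.t, a, d, ρ, ok, m, extW fun z hz => by rw [← h2 z hz, ← k hz, e', pW_cj _ (dd_Q ok hz), pW_dd]; rfl⟩

/-- Proof. `Φ : F.autGroup Q →* MulAut (W σ)` (`exists_XW`, uniqueness), range `XW F`, image of `Aut_S(Q)` is `TT` (`pW_cj`); the image of a Sylow subgroup is Sylow (`sylIn_of_fullyNormalized`). `sim`: `ζ c = (f (y3 c)).v` for `c ∈ F`, `br_Q`. `sq`: `g ^ 2 = y3 (qf g)`. `std`: `extQ`, `dd_mem`, `pW_cj`, `pW_dd`.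
`ti`: `α c_{y6 t} α⁻¹ c_{y6 t'}⁻¹` is trivial on `W`, so inner (`inner_of_triv`); `RelSPE.mem_of_conj_mem` with `relSPE_extAut_of_essential`; `ext_extAutQ`, `map_mem`. `ne`: `exists_move`, `extQ` (and `VW = F e4`: prove `x e4 ∈ VW → f V ≤ V` through `R₀ = C_Q(y5 1) = C_Q(f (y5 1))`, `V = Z(R₀)`). -/
theorem qd (hF : F.IsSaturated p) (hS : Std F) (hE : F.IsEssential p Q) (hb : Hb F) (h2 : H2 F) : QD p (XW F) := by
  obtain ⟨Φ, hΦ⟩ := exΦ (σ := σ)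
  have hT := sylIn_of_fullyNormalized isPGroup_top hF hE.2.1
  have nQ : ∀ s : U σ, s ∈ normalizer (Q (σ := σ) : Set (U σ)) := fun s => le_normalizer_of_normal (K := ⊤) (mem_top s)
  have cΦ : ∀ s, Φ (cjAut Q s (nQ s)) = tt s.t := fun s => extW fun g hg => by rw [← hΦ _ g hg, autFun_cjAut _ hg, pW_cj _ hg]
  have lift : ∀ x ∈ XW F, ∃ α ∈ F.autGroup Q, Φ α = x := fun x ⟨f, hf, h1, h3⟩ => by
    obtain ⟨α, hα, e⟩ := hf.exists_aut (hf.img_eq_self h1)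
    exact ⟨α, hα, extW fun g hg => by rw [← hΦ _ g hg, e hg, h3 g hg]⟩
  refine ⟨?_, fun x ⟨f, hf, h1, h3⟩ => ?_, fun hp x ⟨f, hf, h1, h3⟩ a ha => ?_, fun x hx e => ?_, fun x hx t t' ht e => ?_, ?_,
    fun c k hc => dW_mem (hb c k hc), fun hq d k => dW_mem (h2 hq d k)⟩
  · convert hT.map Φ using 1
    · refine le_antisymm ?_ ?_
      · rintro _ ⟨t, rfl⟩
        exact ⟨_, cjAut_mem_autInducedBy (mem_top (y6 t)) (nQ _), cΦ _⟩
      · rintro _ ⟨α, hα, rfl⟩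
        obtain ⟨s, -, hs, rfl⟩ := mem_autInducedBy_iff_cjAut.1 hα
        exact ⟨_, (cΦ s).symm⟩
    · refine le_antisymm lift ?_
      rintro _ ⟨α, hα, rfl⟩
      exact ⟨_, mor_autFun le_top hα, fun _ => autFun_mem α, hΦ α⟩
  · classical
    refine ⟨fun c => if hc : σ c = c then (f (y3 c hc)).v else 0, fun a b => ?_⟩
    rw [← pW_lW a, ← pW_lW b, ← h3 _ (lW_mem a), ← h3 _ (lW_mem b), bW_pW, bW_pW]
    simp only [σ_bf, dif_pos, fZ hf.isHomOn h1 (lW_mem a) (lW_mem b), y3_v]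
  · have h2 : (2 : K) = 0 := two_iff.2 hp
    have sq : ∀ g ∈ Q (σ := σ), g * g = y3 (qf g) (by simp [qf]) := fun g hg => by
      rw [mem_Q] at hg
      csimp; simp only [hg, qf]; usimp
      refine ⟨?_, ?_, ?_, ?_, ?_⟩
      exacts [by linear_combination g.u * h2, by linear_combination g.s * h2, by linear_combination (g.v - g.u * g.w) * h2,
        by linear_combination g.r * h2, by linear_combination g.w * h2]
    have k := hf.map_mul (lW_mem a) (lW_mem a)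
    rw [sq _ (lW_mem a), sq _ (h1 _ (lW_mem a)), show y3 (qf (lW a)) (by simp [qf]) = 1 from U.ext rfl rfl ha rfl rfl rfl, hf.map_one] at k
    rw [← pW_lW a, ← h3 _ (lW_mem a), qW_pW]
    exact (congrArg U.v k).symm
  · obtain ⟨t, a, d, ρ, k, m, e⟩ := std0 hF hS hE hx e
    exact ⟨t, a, d, ρ, k, dW_mem m, e⟩
  · obtain ⟨α, hα, rfl⟩ := lift x hx
    have c := fun t : K => cjAut_mem_autInducedBy (mem_top (y6 t : U σ)) (nQ _)
    have m := mul_mem (mul_mem (mul_mem hα (hT.le (c t))) (inv_mem hα)) (inv_mem (hT.le (c t')))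
    obtain ⟨u, hu, k⟩ := inner_of_triv hF hE (mor_autFun le_top m) (fun _ => autFun_mem _) fun g hg => by
      rw [hΦ _ g hg, map_mul, map_mul, map_mul, map_inv, map_inv, cΦ, cΦ, y6_t, y6_t, e, mul_inv_cancel, MulAut.one_apply]
    have := (relSPE_extAut_of_essential isPGroup_top hF hE).mem_of_conj_mem hT (autGroup_le_normalizer_inn F Q) hα (c t)
      (mt (cjAut_mem_inn_iff le_top (centralizerIn_le_of_isCentric hE.1) (mem_top _) _).1 ht)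
      ((mul_mem_cancel_right (inv_mem (c t'))).1 (inn_le_autInducedBy le_top (mem_inn_iff.2 ⟨u, hu, k⟩)))
    obtain ⟨g, hg, e'⟩ := ext_extAutQ hF this
    obtain ⟨β, hβ⟩ := exists_aut_top hg
    have q : y5 1 (map_one σ) ∈ Q := rfl
    rw [show (e4 : W σ) = pW (y5 1 (map_one σ)) from rfl, ← hΦ _ _ q, ← mem_V (autFun_mem _ q), ← e' q, hβ]
    exact (map_mem β _).2.1.2 ⟨rfl, rfl, rfl, rfl⟩
  · obtain ⟨f, f', hf, -, i, n⟩ := exists_move hF hE (X := sV) fun f hf h1 h2 => extQ hF hE hf h1 h2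
    obtain ⟨x, hx, e⟩ := exists_XW hf i.maps
    refine ⟨x, hx, fun k => n fun y hy => (mem_V (i.maps _ (V_le hy))).2 ?_⟩
    have b : ∀ a b, bW (x a) (x b) = 0 ↔ bW a b = 0 := fun a b => by
      rw [← pW_lW a, ← pW_lW b, ← e _ (lW_mem a), ← e _ (lW_mem b), bW_pW, bW_pW, b0 i (lW_mem a) (lW_mem b)]
    have w0 : (x e4).w ≠ 0 := LA.w_ne k (by simpa using LA.e4_ne)
    have hy' := (mem_V (V_le hy)).1 hy
    have key : ∀ z : W σ, z.u = 0 → bW z (x (pW y)) = 0 := fun z hz => by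
      have := (b (x⁻¹ z) e4).1 (by rw [MulAut.apply_inv_self, LD.bV k, hz, zero_mul])
      rw [← MulAut.apply_inv_self _ x z, b, LD.bV hy', ← LD.b4, this, zero_mul]
    rw [e _ (V_le hy)]
    exact ⟨by simpa [bW] using key e4 rfl, tr_nondeg (σ := σ) fun r => by simpa [bW] using key (e3 r) rfl,
      tr_nondeg (σ := σ) fun s => by simpa [bW, mul_comm] using key (e2 s) rfl⟩

/-- `QD.k_one`, `QD.semi` -/
theorem point_cases (hF : F.IsSaturated p) (hS : Std F) (hE : F.IsEssential p Q) (hb : Hb F) (h2 : H2 F) {f : U σ → U σ} (hf : Mor F Q f)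
    (h1 : ∀ g ∈ Q, f g ∈ Q) : (∀ x ∈ sV, f x ∈ sV) ∨ ∃ t, ∀ x ∈ sV, cj (y6 t) (f x) ∈ sV1 := by
  obtain ⟨x, hx, e⟩ := exists_XW hf h1
  have h := qd hF hS hE hb h2
  by_cases k : x e4 ∈ VW
  · exact .inl fun y hy => (mem_V (h1 _ (V_le hy))).2 (e _ (V_le hy) ▸ h.stab hx LA.e4_mem LA.e4_ne k _ ((mem_V (V_le hy)).1 hy))
  obtain ⟨t, k⟩ := h.k_one hx k
  refine .inr ⟨t, fun y hy => ?_⟩
  obtain ⟨c, hc, -, e'⟩ := h.semi (mul_mem (h.tt_mem t) hx) y.hw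
  have : pW (cj (y6 t) (f y)) = sm c hc ((tt t * x : MulAut (W σ)) e4) := by
    rw [pW_cj _ (h1 _ (V_le hy)), e _ (V_le hy), ← e']
    exact congrArg (tt t * x : MulAut (W σ)) (show pW y = sm y.w y.hw e4 from
      W.ext (by simp [hy.1]) (by simp [hy.2.1]) (by simp [hy.2.2.1]) (by simp))
  exact ⟨(congrArg W.s this).trans (by rw [sm_s, k.1, mul_zero]), (congrArg W.r this).trans (by rw [sm_r, k.2.1, mul_zero]),
    (congrArg W.w this).trans (by rw [sm_w, k.2.2, mul_zero]), (cj6_t _ _).trans (h1 _ (V_le hy))⟩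

/-- `QD.main`; `std`-argument: `dW a d 1 = tt t * dW a' d' ρ'` with `dd a' d' ρ' ∈ F`; on `e1`: `t = 0`; `dW_inj` -/
theorem ht_mem (hF : F.IsSaturated p) (hS : Std F) (hE : F.IsEssential p Q) (hb : Hb F) (h2 : H2 F) : Ht F := by
  intro a d k
  obtain ⟨t, a', d', ρ, k', m, e⟩ := std0 hF hS hE ((qd hF hS hE hb h2).main.2 a d k) fun v hv =>
    ⟨by simp [hv.1], by simp [hv.2.1], by simp [hv.2.2]⟩
  obtain rfl : t = 0 := by simpa [k'.a0] using congrArg (fun α : MulAut (W σ) => (α e1).s) e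
  rw [tt_zero, one_mul] at e
  obtain ⟨rfl, rfl, rfl⟩ := dW_inj _ e
  exact m

theorem wa_dd {a d : K} (ρ : RingAut K) (h : Ok σ a d) (h' : Ok σ (a * nm σ d) d⁻¹) {g : U σ} (hg : g ∈ Q) :
    wa (dd a d ρ h g) = dd (a * nm σ d) d⁻¹ ρ h' (wa g) := by
  have n0 := h.d0
  have n1 := (map_ne_zero σ).2 n0
  have n2 := (map_ne_zero σ).2 n1
  dsimp'; asimp; simp only [σ_map, h.fx, σ3, U.hu, U.hv, U.hw]
  and_intros <;> field_simp <;> ring

/-- Proof. `n ∈ Aut_F(Q)` inducing `aW` (`QD.main`), `ε = wa' ∘ n` is trivial on `W` and `Z`; `χ y = (ε (lW y)).v` is additive on `W`, `ε g = g · y3 (χ (pW g))`. For `δ = dd a d 1` with `a² N(d) = 1` (trivial on `Z`), `δ₁ = dd (a N d) d⁻¹ 1`: `m = n⁻¹ δ₁⁻¹ n δ = ε⁻¹ δ⁻¹ ε δ ∈ Aut_F(Q)` (`ht_mem`, `wa_dd`) is trivial on `W`, so `= cj u₀` (`inner_of_triv`):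
`χ (δ y) - χ y = bW (pW u₀) y`. With `a = 1`, `N d = 1`, `d ≠ 1 ≠ d^#` (`exists_nm_one`): `χ (e2 s) = T(s r₁)`, `χ (e3 r) = -T(s₁ r)`, `r₁ = u₀.r / (d - 1)`, `s₁ = u₀.s / (d^# - 1)`. On `sm c e1`, `sm c e4`: `χ` is `F`-linear, for `q = 2` by `fx_two`, for `q > 2` using `a ≠ 0, 1`, `N d = a⁻²` (`nm_surj`; `a N d = a⁻¹ ≠ 1`).
So `χ y = bW (pW u₁) y`, `ε = cj u₁` on `Q` (`br_Q`), `wa = n ∘ cj u₁⁻¹`. -/
theorem wa_mem (hF : F.IsSaturated p) (hS : Std F) (hE : F.IsEssential p Q) (hb : Hb F) (h2 : H2 F) : Mor F Q wa := by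
  have ht := ht_mem hF hS hE hb h2
  obtain ⟨n, hn, n1, n2⟩ := (qd hF hS hE hb h2).main.1
  obtain ⟨n', hn', i⟩ := exists_isoOn hn n1
  have iε := i.trans isoOn_wa.symm
  obtain ⟨ε, hε⟩ : ∃ ε, ε = wa' ∘ n := ⟨_, rfl⟩
  rw [← hε] at iε
  have nε : ∀ g ∈ Q, n g = wa (ε g) := fun g hg => by rw [hε, Function.comp, isoOn_wa.right _ (n1 g hg)]
  have pε : ∀ g ∈ Q, pW (ε g) = pW g := fun g hg => aW.injective (by rw [← pW_wa, ← nε g hg, n2 g hg])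
  obtain ⟨χ, hχ⟩ : ∃ χ : U σ → K, ∀ g, (ε g).v = g.v + χ g := ⟨fun g => (ε g).v - g.v, fun g => by ring⟩
  have σχ : ∀ g, σ (χ g) = χ g := fun g => by rw [show χ g = (ε g).v - g.v by rw [hχ]; ring]; simp
  have add : ∀ g ∈ Q, ∀ h ∈ Q, χ (g * h) = χ g + χ h := fun g hg h hh => by
    have := congrArg U.v (iε.map_mul hg hh)
    obtain ⟨-, -, a3, a4⟩ := W.ext_iff.1 (pε g hg)
    obtain ⟨b1, b2, -, -⟩ := W.ext_iff.1 (pε h hh)
    simp only [pW_u, pW_s, pW_r, pW_w] at a3 a4 b1 b2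
    simp only [hχ, U.mul_v, a3, a4, b1, b2, mem_Q.1 hg, mem_Q.1 (iε.maps g hg)] at this
    linear_combination this
  have χZ : ∀ g ∈ sZ, χ g = 0 := fun g hg => by have := hχ g; rw [fixZ iε.hom iε.maps pε hg] at this; simpa using this
  have key : ∀ a d (k : Ok σ a d), a ^ 2 * nm σ d = 1 → ∃ u ∈ Q, ∀ g ∈ Q, χ (dd a d 1 k g) = χ g + bf u g := fun a d k e => by
    have k' : Ok σ (a * nm σ d) d⁻¹ := ⟨by simp [k.fx], by simp [k.a0, k.d0], by simp [k.d0]⟩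
    have m1 := (ht a d k).mono (Q := Q) le_top
    obtain ⟨δ', m2, j⟩ := exists_isoOn ((ht _ _ k').mono (Q := Q) le_top) fun _ => dd_Q k'
    have q1 : ∀ g ∈ Q, n (dd a d 1 k g) ∈ Q := fun g hg => n1 _ (dd_Q k hg)
    have q2 : ∀ g ∈ Q, δ' (n (dd a d 1 k g)) ∈ Q := fun g hg => j.maps' _ (q1 g hg)
    have q3 : ∀ g ∈ Q, n' (δ' (n (dd a d 1 k g))) ∈ Q := fun g hg => i.maps' _ (q2 g hg)
    have rel : ∀ g ∈ Q, dd a d 1 k (ε (n' (δ' (n (dd a d 1 k g))))) = ε (dd a d 1 k g) := fun g hg =>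
      isoOn_wa.injOn (dd_Q k (iε.maps _ (q3 g hg))) (iε.maps _ (dd_Q k hg)) (by
        rw [wa_dd 1 k k' (iε.maps _ (q3 g hg)), ← nε _ (q3 g hg), i.right _ (q2 g hg), j.right _ (q1 g hg), nε _ (dd_Q k hg)])
    obtain ⟨u, hu, e'⟩ := inner_of_triv hF hE (hn'.comp (m2.comp (hn.comp m1 fun _ => dd_Q k) q1) q2) q3 fun g hg =>
      (dW a d 1 k).injective (by
        have := congrArg pW (rel g hg)
        rwa [pW_dd, pε _ (q3 g hg), pε _ (dd_Q k hg), pW_dd] at this)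
    refine ⟨u, hu, fun g hg => ?_⟩
    have := congrArg U.v (rel g hg)
    rw [show n' (δ' (n (dd a d 1 k g))) = cj u g from e' g hg, cj_Q hu hg] at this
    simp only [dd_v, hχ, e, RingAut.one_apply, one_mul, add _ (show y3 (bf u g) (σ_bf u g) ∈ Q from rfl) g hg,
      χZ _ (show y3 (bf u g) (σ_bf u g) ∈ sZ from ⟨rfl, rfl, rfl, rfl, rfl⟩), U.mul_v] at this
    simp [nm, sh] at this
    linear_combination -this
  obtain ⟨s₁, r₁, c2, c4⟩ : ∃ s₁ r₁, (∀ s, χ (y2 s) = tr σ (s * r₁)) ∧ ∀ r, χ (y4 r) = -tr σ (s₁ * r) := by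
    obtain ⟨d, d0, d1, nd, sd⟩ := exists_nm_one (σ := σ)
    obtain ⟨u, -, e⟩ := key 1 d ⟨map_one _, one_ne_zero, d0⟩ (by simp [nd])
    have d1 := sub_ne_zero.2 d1
    have sd := sub_ne_zero.2 sd
    refine ⟨u.s / (sh σ d - 1), u.r / (d - 1), fun s => ?_, fun r => ?_⟩
    · have := e (y2 (s / (d - 1))) rfl
      rw [show dd 1 d 1 _ (y2 (s / (d - 1))) = y2 (s / (d - 1)) * y2 s by
        dsimp'; usimp; field_simp; ring, add _ rfl _ rfl, add_right_inj] at this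
      rw [this]; simp [bf]; congr 1; ring
    · have := e (y4 (r / (sh σ d - 1))) rfl
      rw [show dd 1 d 1 _ (y4 (r / (sh σ d - 1))) = y4 (r / (sh σ d - 1)) * y4 r by
        dsimp'; simp [cr, nm]; field_simp; ring, add _ rfl _ rfl, add_right_inj] at this
      rw [this]; simp [bf]; congr 1; ring
  obtain ⟨u₁, w₁, hu, hw, c1, c5⟩ : ∃ u₁ w₁, σ u₁ = u₁ ∧ σ w₁ = w₁ ∧ (∀ c hc, χ (y1 c hc) = -(c * w₁)) ∧ ∀ c hc, χ (y5 c hc) = u₁ * c := by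
    by_cases hq : Nat.card (Fx σ) = 2
    · refine ⟨χ (y5 1 (map_one σ)), -χ (y1 1 (map_one σ)), σχ _, by simp [σχ], fun c hc => ?_, fun c hc => ?_⟩ <;>
        rcases fx_two hq hc with rfl | rfl
      exacts [by simpa using χZ _ ⟨rfl, rfl, rfl, rfl, rfl⟩, by simp, by simpa using χZ _ ⟨rfl, rfl, rfl, rfl, rfl⟩, by simp]
    obtain ⟨a, ha, a0, a1⟩ := exists_ne_one hq
    obtain ⟨d, nd⟩ := nm_surj (σ := σ) (c := (a ^ 2)⁻¹) (by simp [ha])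
    have d0 : d ≠ 0 := by rintro rfl; exact a0 (by simpa [nm] using nd.symm)
    obtain ⟨u, -, e⟩ := key a d ⟨ha, a0, d0⟩ (by simp [nd, a0])
    have a2 := sub_ne_zero.2 a1
    have a3 := sub_ne_zero.2 a1.symm
    refine ⟨u.u * a / (1 - a), u.w / (a - 1), by simp [ha], by simp [ha], fun c hc => ?_, fun c hc => ?_⟩
    · have := e (y1 (c / (a - 1)) (by simp [ha, hc])) rfl
      rw [show dd a d 1 _ (y1 (c / (a - 1)) _) = y1 (c / (a - 1)) (by simp [ha, hc]) * y1 c hc by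
        dsimp'; simp [cr, nm, sh]; field_simp; ring, add _ rfl _ rfl, add_right_inj] at this
      rw [this]; simp [bf]; ring
    · have := e (y5 (c * a / (1 - a)) (by simp [ha, hc])) rfl
      rw [show dd a d 1 _ (y5 (c * a / (1 - a)) _) = y5 (c * a / (1 - a)) (by simp [ha, hc]) * y5 c hc by
        dsimp'; simp [cr, nd]; field_simp; ring, add _ rfl _ rfl, add_right_inj] at this
      rw [this]; simp [bf]; ring
  have uQ : (⟨u₁, s₁, 0, r₁, w₁, 0, hu, map_zero _, hw⟩ : U σ) ∈ Q := rfl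
  refine (hn.comp (mor_cj' F Q _) fun g hg => (isoOn_cj ⟨u₁, s₁, 0, r₁, w₁, 0, hu, map_zero _, hw⟩).maps' g hg).congr (g := wa) fun g hg => ?_
  have q := (isoOn_cj (P := Q) ⟨u₁, s₁, 0, r₁, w₁, 0, hu, map_zero _, hw⟩).maps' g hg
  rw [Function.comp, nε _ q]
  conv_rhs => rw [← cj_cj_inv ⟨u₁, s₁, 0, r₁, w₁, 0, hu, map_zero _, hw⟩ g]
  generalize cj _⁻¹ g = g at q
  obtain ⟨a1, a2, a3, a4⟩ := W.ext_iff.1 (pε g q)
  simp only [pW_u, pW_s, pW_r, pW_w] at a1 a2 a3 a4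
  have : χ g = χ (y1 g.u g.hu) + χ (y2 g.s) + χ (y4 g.r) + χ (y5 g.w g.hw) := by
    conv_lhs => rw [eq_prod g]
    have m1 : y1 g.u g.hu ∈ Q := rfl
    have m2 := mul_mem m1 (show y2 g.s ∈ Q from rfl)
    have m3 := mul_mem m2 (show y3 g.v g.hv ∈ Q from rfl)
    have m4 := mul_mem m3 (show y4 g.r ∈ Q from rfl)
    rw [add _ (mul_mem m4 (show y5 g.w g.hw ∈ Q from rfl)) (y6 g.t) q, add _ m4 (y5 _ _) rfl, add _ m3 (y4 _) rfl, add _ m2 (y3 _ _) rfl,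
      add _ m1 (y2 _) rfl, χZ (y3 _ _) ⟨rfl, rfl, rfl, rfl, rfl⟩, χZ (y6 _) ⟨rfl, rfl, rfl, rfl, q⟩]
    ring
  rw [cj_Q uQ q]
  congr 1
  csimp
  simp [a1, a2, a3, a4, hχ, this, c1, c2, c4, c5, bf, cr, nm, sh, mem_Q.1 q, mem_Q.1 (iε.maps g q)]
  ring

end CL.D3
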