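/-
S5261: the data of `³D₄(q)` that are used.
-/
import Cfsg.Agent.FUS.D3.Dd

set_option autoImplicit false

namespace CL.D3

open CL.Fus Subgroup

variable {K : Type*} [Field K] [Finite K]

/-- a group `G` with Sylow `p`-subgroup `U σ` which behaves like `³D₄(q)` -/
structure RD (p : ℕ) (σ : K →+* K) [Tri σ] (G : Type*) [Group G] where
  ι : U σ →* G
  inj : Function.Injective ι
  idx : ¬ p ∣ ι.range.index
  na : ∃ n, ∀ g ∈ Q, n * ι g * n⁻¹ = ι (wa g)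
  nb : ∃ n, ∀ g ∈ Q', n * ι g * n⁻¹ = ι (wb g)
  tor : ∀ a d h, ∃ x, ∀ g, x * ι g * x⁻¹ = ι (dd a d 1 h g)
  nrm : ∀ x ∈ normalizer (ι.range : Set G), ∃ u a d h, ∀ g, x * ι g * x⁻¹ = ι (cj u (dd a d 1 h g))
  φ : RingAut K →* MulAut G
  hφ : ∀ ρ g, φ ρ (ι g) = ι (fr ρ g)

end CL.D3
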