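/-
S5261: realisation by `³D₄(q)` extended by field automorphisms.
-/
import Cfsg.Agent.FUS.D3.QP
import Cfsg.Agent.FUS.D3.QS
import Cfsg.Agent.FUS.D3.RD
import Cfsg.Agent.FUS.Realized
import Cfsg.Agent.FUS.GroupFusion

set_option autoImplicit false
set_option linter.unusedSimpArgs false
set_option linter.unusedSectionVars false

namespace CL.D3

open CL.Fus CL.RF4 Subgroup Cfsg Cfsg.FusionSystem
open scoped commutatorElement

variable {K : Type*} [Field K] [Finite K] {σ : K →+* K} [T : Tri σ] {p : ℕ} [Fact p.Prime] [CharP K p]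
  {F F' : FusionSystem (⊤ : Subgroup (U σ))}

theorem le_of_gen (hF : F.IsSaturated p) (hS : Std F) (ht : Ht F) (h : ∀ f, Mor F ⊤ f → Mor F' ⊤ f) (ha : Mor F Q wa) (ha' : Mor F' Q wa)
    (hb : Mor F Q' wb) (hb' : Mor F' Q' wb) : F ≤ F' := by
  refine alperin_isSubsystemOf isPGroup_top hF fun P f hP hf e => ?_
  have key : ∀ {P X : Subgroup (U σ)} [P.Normal] {f w w' : U σ → U σ} (s : U σ), Mor F P f → (∀ x ∈ P, f x ∈ P) → Mor F P w → Mor F' P w →
      IsoOn P P w w' → (∀ f, Mor F P f → (∀ x ∈ P, f x ∈ P) → (∀ x ∈ X, f x ∈ X) → ∃ g, Mor F ⊤ g ∧ Set.EqOn g f P) →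
      ((∀ x ∈ X, f x ∈ X) ∨ ∀ x ∈ X, w (cj s (f x)) ∈ X) → Mor F' P f := fun {P X _ f w w'} s hf m hw hw' i ex k => by
    rcases k with k | k
    · obtain ⟨g, hg, e⟩ := ex f hf m k
      exact ((h g hg).mono le_top).congr e
    have m1 : ∀ x ∈ P, cj s (f x) ∈ P := fun x hx => (isoOn_cj s).maps _ (m x hx)
    obtain ⟨g, hg, e⟩ := ex _ (hw.comp (hf.cj_comp (s := s) trivial) m1) (fun x hx => i.maps _ (m1 x hx)) k
    obtain ⟨w'', hw'', i'⟩ := exists_isoOn hw' i.maps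
    refine ((hw''.comp (((h g hg).mono le_top).congr e) fun x hx => i.maps _ (m1 x hx)).cj_comp (s := s⁻¹) trivial).congr
      fun x hx => ?_
    simp only [Function.comp, i'.left _ (m1 x hx), cj_inv_cj]
  have m : ∀ x ∈ P, f x ∈ P := img_le_iff.1 e.le
  rcases hP with rfl | hP
  · exact h f hf
  obtain ⟨f', -, i⟩ := exists_isoOn hf m
  rcases ess_cases hF hP with rfl | rfl
  · rcases point_cases hF hS hP (fun _ k _ => ht _ _ k) (fun _ _ k => ht _ _ k) hf m with k | ⟨t, k⟩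
    · exact key 1 hf m ha ha' isoOn_wa (fun f => extQ hF hP) (Or.inl k)
    refine key (y6 t) hf m ha ha' isoOn_wa (fun f => extQ hF hP) (Or.inr fun x hx => ?_)
    obtain ⟨e1, e2, e3, -⟩ := k x hx
    exact ⟨by rw [wa_u, e3, neg_zero], e2, by rw [wa_r, e1, neg_zero], rfl⟩
  · rcases line_cases i with k | ⟨c, hc, k⟩
    · exact key 1 hf m hb hb' isoOn_wb (fun f => extQ' hF (centric_of hF hP)) (Or.inl k)
    refine key (y1 c hc) hf m hb hb' isoOn_wb (fun f => extQ' hF (centric_of hF hP)) (Or.inr fun x hx => ?_)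
    obtain ⟨-, e2, e3, e4, e5⟩ := k x hx
    exact ⟨rfl, by rw [wb_s, e5, neg_zero], by simp [e2, e4, cr], by simp [e2, e3, e5, tr], e2⟩

theorem realizable {G : Type*} [Group G] [Finite G] (R : RD p σ G) (hF : F.IsSaturated p) (hS : Std F) (ht : Ht F) (ha : Mor F Q wa)
    (hb : Mor F Q' wb) : F.IsRealizable p := by
  let Ψ : Subgroup (RingAut K) := (DF F).comap (fr (σ := σ))
  have hΨ : ∀ ρ, ρ ∈ Ψ ↔ Mor F ⊤ (fr ρ) := fun ρ => ⟨fun h => h.2, fun h => ⟨⟨_, _, _, _, fr_eq ρ⟩, h⟩⟩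
  let H := G ⋊[R.φ.comp Ψ.subtype] Ψ
  have : Finite (RingAut K) := Finite.of_injective _ DFunLike.coe_injective
  have : Finite H := Finite.of_equiv _ SemidirectProduct.equivProd.symm
  let ι : U σ →* H := SemidirectProduct.inl.comp R.ι
  have hι : Function.Injective ι := SemidirectProduct.inl_injective.comp R.inj
  let κ : (⊤ : Subgroup (U σ)) →* H := ι.comp (⊤ : Subgroup (U σ)).subtype
  have hκ : Function.Injective κ := hι.comp (subtype_injective _)
  obtain ⟨e', he⟩ := exists_isoOn_of_injective κ hκ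
  obtain ⟨E, hE⟩ := he.symm.exists_corr (groupFusionSystem κ.range)
  have hr : E.IsRealizedBy κ := hE.symm.isRealizedBy fun x => (homFn_coe κ x).symm
  have hm : ∀ P f, Mor E P f ↔ ∃ g : H, ∀ x ∈ P, ι (f x) = cj g (ι x) := fun P f =>
    ((isRealizedBy_iff (e := ι) fun _ => rfl).1 hr).2 P f le_top fun _ _ => trivial
  have hκr : κ.range = R.ι.range.map SemidirectProduct.inl := by
    rw [MonoidHom.range_comp, range_subtype, ← MonoidHom.range_eq_map, MonoidHom.range_comp]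
  have fi : Function.Injective (fr (σ := σ)) := fun ρ ρ' e => RingEquiv.ext fun t => by
    simpa [fr_eq] using congrArg (fun α : MulAut (U σ) => (α (y6 t)).t) e
  have hR : E.IsRealizable p := isRealizable_of_isRealizedBy hr ⟨IsPGroup.toSylow (P := κ.range)
    (hκr ▸ ((isPGroup_U p).of_surjective _ R.ι.rangeRestrict_surjective).map _) (by
      rw [hκr, index_map_of_injective _ SemidirectProduct.inl_injective, SemidirectProduct.range_inl_eq_ker_rightHom, index_ker,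
        (Fact.out : p.Prime).dvd_mul, not_or]
      exact ⟨R.idx, fun k => (Nat.Prime.coprime_iff_not_dvd Fact.out).1 (coprime_DF hF).symm
        (k.trans ((card_subgroup_dvd_card _).trans (card_comap_dvd_of_injective _ _ fi)))⟩), rfl⟩
  have hin : ∀ {P f} (x : G), (∀ g ∈ P, x * R.ι g * x⁻¹ = R.ι (f g)) → Mor E P f := fun x h =>
    (hm _ _).2 ⟨.inl x, fun g hg => by simp only [ι, cj, MonoidHom.comp_apply, ← h g hg, map_mul, map_inv]⟩
  have Ea : Mor E Q wa := let ⟨n, h⟩ := R.na; hin n h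
  have Eb : Mor E Q' wb := let ⟨n, h⟩ := R.nb; hin n h
  have Et : Ht E := fun a d k => let ⟨x, h⟩ := R.tor a d k; hin x fun g _ => h g
  have hr' : ∀ (ψ : Ψ) g, cj (SemidirectProduct.inr ψ : H) (ι g) = ι (fr ψ.1 g) := fun ψ g => by
    simp only [ι, cj, MonoidHom.comp_apply, ← R.hφ, ← map_inv]
    exact (SemidirectProduct.inl_aut ψ _).symm
  have key : ∀ f, Mor E ⊤ f → ∃ u a d k, ∃ ρ ∈ Ψ, ∀ g, f g = cj u (dd a d 1 k (fr ρ g)) := fun f hf => by
    obtain ⟨y, hy⟩ := (hm _ _).1 hf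
    have e : ∀ g, R.ι (f g) = y.left * R.ι (fr y.right.1 g) * y.left⁻¹ := fun g =>
      SemidirectProduct.inl_injective (φ := R.φ.comp Ψ.subtype) (by
        have := hy g trivial
        rw [← y.inl_left_mul_inr_right, cj_mul, hr'] at this
        simpa only [ι, cj, MonoidHom.comp_apply, map_mul, map_inv] using this)
    obtain ⟨u, a, d, k, hx⟩ := R.nrm y.left (mem_normalizer_fintype (by
      rintro _ ⟨g, rfl⟩
      obtain ⟨g, rfl⟩ := (fr y.right.1).surjective g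
      exact ⟨_, e g⟩))
    exact ⟨u, a, d, k, _, y.right.2, fun g => R.inj (by rw [e, hx])⟩
  have ES : Std E := fun f hf =>
    let ⟨u, a, d, k, ρ, _, e⟩ := key f hf
    ⟨u, a, d, ρ, k, fun g => by rw [e, dd_eq_mul_fr ρ k]; rfl⟩
  rwa [FusionSystem_ext (F := F) (E := E) fun P => (le_of_gen hF hS ht (fun f hf => ?_) ha Ea hb Eb P).antisymm
    (le_of_gen (isSaturated_of_isRealizable hR) ES Et (fun f hf => ?_) Ea ha Eb hb P)]
  · obtain ⟨u, a, d, ρ, k, hd, e⟩ := dd_mem hS hf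
    have hρ : ρ ∈ Ψ := by
      have := mul_mem (inv_mem (show dd a d 1 k ∈ DF F from ⟨⟨_, _, _, _, rfl⟩, ht a d k⟩)) (show dd a d ρ k ∈ DF F from ⟨⟨_, _, _, _, rfl⟩, hd⟩)
      rwa [dd_eq_mul_fr ρ k, inv_mul_cancel_left] at this
    have h1 : Mor E ⊤ (fr ρ) := (hm _ _).2 ⟨.inr ⟨ρ, hρ⟩, fun g _ => (hr' ⟨ρ, hρ⟩ g).symm⟩
    exact (((Et a d k).comp h1 fun _ _ => trivial).cj_comp (s := u) trivial).congr fun g _ => by rw [e, dd_eq_mul_fr ρ k]; rfl
  · obtain ⟨u, a, d, k, ρ, hρ, e⟩ := key f hf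
    exact (((ht a d k).comp ((hΨ _).1 hρ) fun _ _ => trivial).cj_comp (s := u) trivial).congr fun g _ => (e g).symm

end CL.D3
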