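/-
S5261: standard position for `q = 2`.
-/
import Cfsg.Agent.FUS.D3.Std

set_option autoImplicit false
set_option linter.unusedSimpArgs false
set_option linter.unusedSectionVars false

namespace CL.D3

open CL.Fus CL.RF4 Subgroup Cfsg Cfsg.FusionSystem
open scoped commutatorElement

variable {K : Type*} [Field K] [Finite K] {σ : K →+* K} [T : Tri σ] {p : ℕ} [Fact p.Prime] [CharP K p]
  {F F' : FusionSystem (⊤ : Subgroup (U σ))}

namespace Two

theorem dih {G : Type*} [Group G] {s b : G} (hs : s * s = 1) (hb : b * b = 1) (m : ℕ) :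
    (s * b) ^ m * s * ((s * b) ^ m)⁻¹ = (s * b) ^ (2 * m + 1) * b := by
  have e : s * b * b = s := by rw [mul_assoc, hb, mul_one]
  have e' : b * (s * b)⁻¹ = s * b * b := by rw [e, mul_inv_rev, mul_inv_cancel_left, inv_eq_of_mul_eq_one_right hs]
  induction m with
  | zero => simp [e]
  | succ m ih =>
    generalize s * b = z at *
    calc z ^ (m + 1) * s * (z ^ (m + 1))⁻¹ = z * (z ^ m * s * (z ^ m)⁻¹) * z⁻¹ := by group
      _ = z ^ (2 * m + 2) * (b * z⁻¹) := by rw [ih]; group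
      _ = _ := by rw [e']; group

/-- automorphisms of an elementary abelian group as linear maps -/
def autLin (p : ℕ) (V : Type*) [AddCommGroup V] [Module (ZMod p) V] : MulAut (Multiplicative V) ≃ (V ≃ₗ[ZMod p] V) where
  toFun α := { AddEquiv.toMultiplicative.symm α with map_smul' := ZMod.map_smul (AddEquiv.toMultiplicative.symm α) }
  invFun e := AddEquiv.toMultiplicative e.toAddEquiv
  left_inv _ := rfl
  right_inv _ := rfl

end Two

/-- Proof. `p = 2` (`p_le_card`). `X = Aut_F(Q)`, `I = Inn Q`, `T = Aut_S(Q)`, `H = extAut F Q` (`relSPE_extAut_of_essential`), `c_t = cjAut Q (y6 t)`, `c_t² = 1`, `c_t ∉ I` for `t ≠ 0` (`cjAut_mem_inn_iff`). `γ ∈ X ∖ H`, `s = γ c_t γ⁻¹`. `CL.RF4.CxF.odd_pair`: `(s c_t')^(2m+1) ∈ I`; the involutions `s`, `c_t'` satisfy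
`y s y⁻¹ = c_t' · i`, `y = (c_t' s)^(m+1)`..., `i ∈ I` (dihedral: `(c s)^(m+1) s (c s)^-(m+1) = (c s)^(2m+2) s = (c s)^(2m+1) c`). So `x = y γ` has `x c_t x⁻¹ ∈ I c_t' ⊆ T`, `x ∈ H` (`RelSPE.mem_of_conj_mem`); `ext_extAutQ`: `f ∈ Aut_F(S)` extends `x`; `c_{f (y6 t)} = x c_t x⁻¹` on `Q`, so `f (y6 t) (y6 t')⁻¹ ∈ Q` (`cjAut_mem_inn_iff`). -/
theorem trans_two (hq : Nat.card (Fx σ) = 2) (hF : F.IsSaturated p) (hE : F.IsEssential p Q) {t t' : K} (ht : t ≠ 0) (ht' : t' ≠ 0) :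
    ∃ f, Mor F ⊤ f ∧ (f (y6 t)).t = t' := by
  obtain rfl : p = 2 := le_antisymm (hq ▸ p_le_card (σ := σ)) (Fact.out : p.Prime).two_le
  have h2 := (two_iff (K := K) (p := 2)).2 rfl
  have hn : ∀ g : U σ, g ∈ normalizer ((Q : Subgroup (U σ)) : Set (U σ)) := fun g => le_normalizer_of_normal (mem_top g)
  have hH := relSPE_extAut_of_essential isPGroup_top hF hE
  have hT := sylIn_of_fullyNormalized isPGroup_top hF hE.2.1
  have cI : ∀ g, cjAut Q g (hn g) ∈ Inn Q ↔ g ∈ Q := fun g =>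
    cjAut_mem_inn_iff le_top (centralizerIn_le_of_isCentric hE.1) (mem_top g) _
  have c2 : ∀ t : K, cjAut Q (y6 t : U σ) (hn _) * cjAut Q (y6 t) (hn _) = 1 := fun t => by
    have : (y6 t * y6 t : U σ) = 1 := by usimp; linear_combination t * h2
    rw [← cjAut_mul, cjAut_eq_one_iff, this]; exact one_mem _
  have cT : ∀ g, cjAut Q g (hn g) ∈ autInducedBy ⊤ Q := fun g => cjAut_mem_autInducedBy (mem_top g) _
  obtain ⟨γ, hγ, hγ'⟩ := SetLike.exists_of_lt hH.2.1
  obtain ⟨k, ⟨m, rfl⟩, hk⟩ := CxF.odd_pair hH hT (autGroup_le_normalizer_inn F Q) (cT (y6 t)) (mt (cI _).1 ht) (c2 t ▸ one_mem _)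
    (cT (y6 t')) (mt (cI _).1 ht') (c2 t' ▸ one_mem _) hγ hγ'
  have e := Two.dih (s := γ * cjAut Q (y6 t) (hn _) * γ⁻¹) (by rw [conj_mul, c2]; simp) (c2 t') m
  have hz := pow_mem (mul_mem (mul_mem (mul_mem hγ (hT.le (cT (y6 t)))) (inv_mem hγ)) (hT.le (cT (y6 t')))) m
  generalize (γ * cjAut Q (y6 t) (hn _) * γ⁻¹ * cjAut Q (y6 t') (hn _)) ^ (2 * m + 1) = i at e hk
  generalize (γ * cjAut Q (y6 t) (hn _) * γ⁻¹ * cjAut Q (y6 t') (hn _)) ^ m = z at e hz
  have e' : z * γ * cjAut Q (y6 t) (hn _) * (z * γ)⁻¹ = i * cjAut Q (y6 t') (hn _) := by rw [← e]; group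
  obtain ⟨f, hf, ef⟩ := ext_extAutQ hF (hH.mem_of_conj_mem hT (autGroup_le_normalizer_inn F Q) (mul_mem hz hγ) (cT (y6 t))
    (mt (cI _).1 ht) (by rw [cj, e']; exact mul_mem (hH.1.le hk) (cT _)))
  have e2 : cjAut Q (f (y6 t)) (hn _) = z * γ * cjAut Q (y6 t) (hn _) * (z * γ)⁻¹ := mulAut_ext_autFun fun y hy => by
    have k := autFun_mem (z * γ)⁻¹ hy
    rw [autFun_cjAut _ hy, autFun_mul _ _ hy, autFun_mul _ _ k, ← ef (autFun_mem _ k), autFun_cjAut _ k,
      hf.map_cj (mem_top _) (mem_top _), ef k, autFun_autFun_inv _ hy]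
  refine ⟨f, hf, div_mem_Q.1 ((cI (f (y6 t) * (y6 t')⁻¹)).1 ?_)⟩
  rw [cjAut_mul (hn _) (hn _), cjAut_inv (hn _), e2, e', mul_inv_cancel_right]
  exact hk

/-- `K` is a 3-dimensional space over `ZMod 2`; `MulAut (Multiplicative K) ≃ (K ≃+ K) ≃ (K ≃ₗ[ZMod 2] K) ≃ GL (Fin 3) (ZMod 2)`, `Matrix.card_GL_field` -/
theorem card_aut_eight (hK : Nat.card K = 8) : Nat.card (MulAut (Multiplicative K)) = 168 := by
  have := Fintype.ofFinite K
  have h2 : (2 : K) = 0 := by
    have := FiniteField.cast_card_eq_zero K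
    rw [← Nat.card_eq_fintype_card, hK] at this
    exact pow_eq_zero_iff three_ne_zero |>.1 (by linear_combination (norm := (push_cast; ring1)) this)
  let : Module (ZMod 2) K := AddCommGroup.zmodModule (n := 2) fun x => by simp [h2]
  have h := Module.natCard_eq_pow_finrank (K := ZMod 2) (V := K)
  rw [Nat.card_zmod, hK] at h
  have h3 : Module.finrank (ZMod 2) K = 3 := Nat.pow_right_injective le_rfl h.symm
  rw [Nat.card_congr ((Two.autLin 2 K).trans ((LinearMap.GeneralLinearGroup.generalLinearEquiv _ _).symm.trans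
    (Matrix.GeneralLinearGroup.toLin' (Module.finBasisOfFinrankEq (ZMod 2) K h3)).symm).toEquiv), Matrix.card_GL_field]
  simp [Fin.prod_univ_three]

namespace Two

theorem cj_u (x g : U σ) : (cj x g).u = g.u := by usimp; ring
theorem cj_t (x g : U σ) : (cj x g).t = g.t := by usimp; ring

theorem fix_u (hq : Nat.card (Fx σ) = 2) (α : MulAut (U σ)) (g : U σ) : (α g).u = g.u := by
  have k : (α g).u = 0 ↔ g.u = 0 := (map_mem α g).2.2.2.2.2
  rcases fx_two hq g.hu with e | e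
  · rw [k.2 e, e]
  · rw [e, (fx_two hq (α g).hu).resolve_left fun e' => one_ne_zero (e.symm.trans (k.1 e'))]

theorem step {β : MulAut (U σ)} (c : Corr β β.symm F F') (hF : F.IsSaturated p) (hE : F.IsEssential p Q) :
    F'.IsSaturated p ∧ F'.IsEssential p Q ∧ (F.IsEssential p Q' → F'.IsEssential p Q') ∧ (F'.IsRealizable p → F.IsRealizable p) := by
  have i : ∀ P : Subgroup (U σ), (∀ g, β g ∈ P ↔ g ∈ P) → img β P = P := fun P h =>
    le_antisymm (img_le_iff.2 fun g => (h g).2) fun g hg => β.apply_symm_apply g ▸ mem_img_of_mem _ ((h _).1 (by simpa))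
  refine ⟨c.isSaturated hF, ?_, fun h => ?_, c.symm.isRealizable⟩
  · rw [← i Q fun g => (map_mem β g).2.2.2.2.1]; exact (c.isEssential_iff le_top).2 hE
  · rw [← i Q' fun g => (map_mem β g).2.2.2.2.2]; exact (c.isEssential_iff le_top).2 h

/-- the action on the coordinate `t` -/
noncomputable def Φ : MulAut (U σ) →* MulAut (Multiplicative K) := MonoidHom.mk'
  (fun α => AddEquiv.toMultiplicative (exists_delta α).choose) fun α β => MulEquiv.ext fun x => by
    change Multiplicative.ofAdd _ = Multiplicative.ofAdd ((exists_delta α).choose ((exists_delta β).choose (y6 x.toAdd : U σ).t))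
    rw [← (exists_delta β).choose_spec, ← (exists_delta α).choose_spec]
    exact congrArg _ ((exists_delta (α * β)).choose_spec (y6 x.toAdd)).symm

theorem Φ_apply (α : MulAut (U σ)) (g : U σ) : (Φ α (Multiplicative.ofAdd g.t)).toAdd = (α g).t := ((exists_delta α).choose_spec g).symm

theorem Φ_eq_one {α : MulAut (U σ)} (h : ∀ g, (α g).t = g.t) : Φ α = 1 :=
  MulEquiv.ext fun x => Multiplicative.toAdd.injective ((Φ_apply α (y6 x.toAdd)).trans (h _))

/-- `Aut_F(S)` -/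
def Γ (F : FusionSystem (⊤ : Subgroup (U σ))) : Subgroup (MulAut (U σ)) := (F.autGroup ⊤).map (MulAut.congr topEquiv).toMonoidHom

theorem mem_Γ {α : MulAut (U σ)} : α ∈ Γ F ↔ Mor F ⊤ α :=
  ⟨by rintro ⟨γ, hγ, rfl⟩; exact (mor_autFun le_rfl hγ).congr fun g _ => autFun_of_mem γ (mem_top g), fun h => by
    obtain ⟨γ, hγ, e⟩ := h.exists_aut h.img_top
    exact ⟨γ, hγ, MulEquiv.ext fun g => (autFun_of_mem γ (mem_top g)).symm.trans (e (mem_top g))⟩⟩

/-- the torus -/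
def μ : Kˣ →* MulAut (U σ) := MonoidHom.mk' (fun d => dd 1 d 1 ⟨map_one _, one_ne_zero, d.ne_zero⟩) fun d d' => by
  rw [dd_mul]; exact dd_congr _ _ (by simp) (by simp) (by simp)

theorem Φμ_inj : Function.Injective ((Φ (σ := σ)).comp μ) := fun d d' e => Units.ext (by
  have := congrArg (fun α : MulAut (Multiplicative K) => (α (Multiplicative.ofAdd (y6 1 : U σ).t)).toAdd) e
  simp only [MonoidHom.comp_apply, Φ_apply] at this
  simpa [μ] using this)

theorem card8 (hq : Nat.card (Fx σ) = 2) : Nat.card K = 8 := by rw [card_K (σ := σ), hq]; rfl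

theorem card7 (hq : Nat.card (Fx σ) = 2) : Nat.card Kˣ = 7 := by rw [Nat.card_units, card8 hq]

theorem exists_tor [CharP K 2] (hq : Nat.card (Fx σ) = 2) (hF : F.IsSaturated 2) (hE : F.IsEssential 2 Q) :
    ∃ (β : MulAut (U σ)) (F₁ : FusionSystem (⊤ : Subgroup (U σ))), Corr β β.symm F F₁ ∧ ∀ d (h : Ok σ 1 d), Mor F₁ ⊤ (dd 1 d 1 h) := by
  have : Fact (Nat.Prime 7) := ⟨by norm_num⟩
  have h7 : 7 ∣ Nat.card (Γ F) := by
    refine Dvd.dvd.trans ?_ (card_map_dvd (Γ F) Φ)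
    have e : MulAction.orbit ((Γ F).map Φ) (Multiplicative.ofAdd (1 : K)) = {1}ᶜ := by
      ext x
      refine ⟨?_, fun hx => ?_⟩
      · rintro ⟨δ, rfl⟩ k
        exact one_ne_zero (α := K) (congrArg Multiplicative.toAdd ((map_eq_one_iff δ.1 δ.1.injective).1 k))
      · obtain ⟨f, hf, e⟩ := trans_two hq hF hE one_ne_zero (t' := x.toAdd) hx
        obtain ⟨α, hα⟩ := exists_aut_top hf
        exact ⟨⟨Φ α, mem_map_of_mem _ (mem_Γ.2 (hf.congr fun g _ => hα g))⟩,
          Multiplicative.toAdd.injective ((Φ_apply α (y6 1)).trans (hα _ ▸ e))⟩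
    have := MulAction.index_stabilizer ((Γ F).map Φ) (Multiplicative.ofAdd (1 : K))
    rw [e, Set.ncard_compl, Set.ncard_singleton, Nat.card_congr Multiplicative.toAdd, card8 hq] at this
    exact (show _ = 7 from this) ▸ index_dvd_card _
  obtain ⟨⟨η, hη⟩, o⟩ := exists_prime_orderOf_dvd_card' 7 h7
  rw [Subgroup.orderOf_mk] at o
  have inj : Function.Injective (μ (σ := σ)) := Function.Injective.of_comp (f := Φ) Φμ_inj
  have c7 : Nat.card (μ (σ := σ)).range = 7 := by rw [← Nat.card_congr (MonoidHom.ofInjective inj).toEquiv, card7 hq]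
  have syl : SylIn 7 (μ (σ := σ)).range ⊤ := sylIn_of_not_dvd_relIndex le_top (IsPGroup.of_card (n := 1) c7) fun k => by
    have k1 := (μ (σ := σ)).range.card_mul_index
    have k2 := (Φ (σ := σ)).ker.card_mul_index
    obtain ⟨n, hn⟩ := ((isPGroup_K0 (σ := σ) (p := 2)).to_le (H := Φ.ker) fun α hα g =>
      ⟨fix_u hq α g, by rw [← Φ_apply, MonoidHom.mem_ker.1 hα]; rfl⟩).exists_card_eq
    rw [relIndex_top_right] at k
    rw [index_ker, hn, ← k1, c7] at k2
    have k3 : 7 * 7 ∣ 2 ^ n * Nat.card (Φ (σ := σ)).range := k2 ▸ Nat.mul_dvd_mul_left 7 k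
    have k4 := (Nat.Coprime.dvd_of_dvd_mul_left (Nat.Coprime.pow_right n (by norm_num)) k3).trans (card_subgroup_dvd_card _)
    rw [card_aut_eight (card8 hq)] at k4
    norm_num at k4
  obtain ⟨β, -, hβ⟩ := syl.exists_conj_le (C := zpowers η) le_top (IsPGroup.of_card (n := 1) (by rw [Nat.card_zpowers, o, pow_one]))
  obtain ⟨d₁, e⟩ := hβ η (mem_zpowers η)
  obtain ⟨F₁, c⟩ := (isoOn_top β).exists_corr F
  refine ⟨β, F₁, c, fun d h => ?_⟩
  have m := c.mor (mem_Γ.1 hη)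
  rw [c.iso.img_eq] at m
  have m' : μ d₁ ∈ Γ F₁ := e ▸ mem_Γ.2 m
  obtain ⟨n, hn⟩ := mem_zpowers_of_prime_card (card7 hq) (g := d₁) (g' := Units.mk0 d h.d0) (by
    rintro rfl
    rw [map_one, eq_comm, mul_inv_eq_one, mul_eq_left] at e
    simp [e] at o)
  have := zpow_mem m' n
  rw [← map_zpow, show d₁ ^ n = _ from hn] at this
  exact mem_Γ.1 this

theorem form [CharP K 2] (hq : Nat.card (Fx σ) = 2) (hF : F.IsSaturated 2) (h : ∀ d (h : Ok σ 1 d), Mor F ⊤ (dd 1 d 1 h)) {α : MulAut (U σ)}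
    (hα : Mor F ⊤ α) : ∃ (d : K) (ρ : RingAut K), d ≠ 0 ∧ ∀ g, (α g).t = d * ρ g.t := by
  have odd : ¬ 2 ∣ Nat.card ((Γ F).map Φ) := by
    have := ((sylIn_inn_top isPGroup_top hF).map ((Φ (σ := σ)).comp (MulAut.congr topEquiv).toMonoidHom)).not_dvd_relIndex
    have e : (Inn (⊤ : Subgroup (U σ))).map ((Φ (σ := σ)).comp (MulAut.congr topEquiv).toMonoidHom) = ⊥ :=
      (Subgroup.map_eq_bot_iff _).2 fun γ hγ => Φ_eq_one fun g => by
        obtain ⟨x, -, e⟩ := mem_inn_iff.1 hγ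
        rw [← cj_t x g, ← e (mem_top g), autFun_of_mem γ (mem_top g)]; rfl
    rwa [e, relIndex_bot_left, ← Subgroup.map_map] at this
  set Δ := (Γ F).map Φ
  set S := ((Φ (σ := σ)).comp μ).range
  have hS : S ≤ Δ := by rintro _ ⟨d, rfl⟩; exact mem_map_of_mem _ (mem_Γ.2 (h d ⟨map_one _, one_ne_zero, d.ne_zero⟩))
  have c7 : Nat.card (S.subgroupOf Δ) = 7 := by
    rw [Nat.card_congr (subgroupOfEquivOfLe hS).toEquiv, ← Nat.card_congr (MonoidHom.ofInjective Φμ_inj).toEquiv, card7 hq]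
  have hN : (S.subgroupOf Δ).Normal := by
    have k1 := (S.subgroupOf Δ).card_mul_index
    have k2 := card_subgroup_dvd_card Δ
    rw [card_aut_eight (card8 hq), ← k1, c7] at k2
    rw [c7] at k1
    rw [← k1] at odd
    have k3 : (S.subgroupOf Δ).index ∣ 2 ^ 3 * 3 := Nat.dvd_of_mul_dvd_mul_left (by norm_num) k2
    rcases (Nat.dvd_prime Nat.prime_three).1 (Nat.Coprime.dvd_of_dvd_mul_left (Nat.Coprime.pow_right 3
      ((Nat.Prime.coprime_iff_not_dvd Nat.prime_two).2 fun k => odd (k.mul_left 7)).symm) k3) with e | e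
    · rw [index_eq_one.1 e]; infer_instance
    · exact normal_of_index_eq_minFac_card (by rw [← k1, e]; norm_num)
  obtain ⟨δ, hδ⟩ := exists_delta α
  have d0 : δ 1 ≠ 0 := by simp
  have key : ∀ a b, δ (a * b) * δ 1 = δ a * δ b := fun a b => by
    by_cases a0 : a = 0
    · simp [a0]
    obtain ⟨d, e⟩ : Φ α * Φ (μ (Units.mk0 a a0)) * (Φ α)⁻¹ ∈ S :=
      hN.conj_mem ⟨_, hS ⟨Units.mk0 a a0, rfl⟩⟩ ⟨Units.mk0 a a0, rfl⟩ ⟨Φ α, mem_map_of_mem _ (mem_Γ.2 hα)⟩
    rw [eq_mul_inv_iff_mul_eq, MonoidHom.comp_apply, ← map_mul, ← map_mul] at e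
    have k : ∀ b, d * δ b = δ (a * b) := fun b => by
      have := congrArg (fun γ : MulAut (Multiplicative K) => (γ (Multiplicative.ofAdd (y6 b : U σ).t)).toAdd) e
      simp only [Φ_apply, MulAut.mul_apply] at this
      simpa [μ, hδ] using this
    rw [← k, ← mul_one a, ← k]; ring
  let ρ : K →+* K :=
    { toFun := fun a => δ a / δ 1
      map_one' := div_self d0
      map_mul' := fun a b => by field_simp; exact key a b
      map_zero' := by simp
      map_add' := fun a b => by rw [map_add, add_div] }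
  exact ⟨δ 1, σe ρ, d0, fun g => by rw [hδ]; exact (mul_div_cancel₀ _ d0).symm⟩

end Two

/-- Proof. `|K| = 8`. `Φ : MulAut (U σ) →* MulAut (Multiplicative K)`, `α ↦ δ_α` (`exists_delta`); every `α` fixes `u` (`fx_two`, `map_mem`), so `ker Φ = K0`, a 2-group; `49 ∤ |MulAut (U σ)|`. `Γ F = {α : MulAut (U σ) | Mor F ⊤ α}` (a subgroup, cf. `DF`) acts on `K` through `Φ` with an orbit `K ∖ 0` of length 7 (`trans_two`),
so has an element `η` of order 7. `d₀` a generator of `Kˣ` (any `d₀ ≠ 0, 1`), `dd 1 d₀ 1` has order 7; `⟨η⟩`, `⟨dd 1 d₀ 1⟩` are Sylow 7-subgroups of `MulAut (U σ)`, conjugate by `β`. Transport (`IsoOn.exists_corr`, `isoOn_top`): `F₁` contains all `dd 1 d 1`.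
`Δ = Φ(Γ F₁)` has odd order (`Inn ≤ ker Φ` is a Sylow 2-subgroup of `Aut_F₁(S)`, `sylIn_inn_top`; or: an involution of `Δ` lifts to a 2-element, which is inner) dividing 168, so dividing 21; `Σ = {x ↦ d x}` has order 7, index `1` or `3` in `Δ`, so is normal (`normal_of_index_eq_minFac_card`).
`δ ∈ Δ`: `δ (d x) = d' δ x`, so `ρ d = δ d / δ 1` is multiplicative (`CL.RF4.exists_ringAut`-type argument), `δ = δ 1 * ρ`. `std_of_form` (`a = 1`, `ρ g.u = g.u`): `F₂`, `k ∈ K0`. `H2`: `k ∘ dd 1 d 1 ∘ k⁻¹ = cj x ∘ dd a' d' ρ'` with `dd a' d' ρ' ∈ F₂` (`dd_mem`); compare `u`, `t`: `a' = 1`, `d' = d`, `ρ' = 1`. Compose the `Corr` (`Corr.trans`, or transport once by `k * β`). -/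
theorem two (hq : Nat.card (Fx σ) = 2) (hF : F.IsSaturated p) (hE : F.IsEssential p Q) :
    ∃ F' : FusionSystem (⊤ : Subgroup (U σ)), F'.IsSaturated p ∧ F'.IsEssential p Q ∧ (F.IsEssential p Q' → F'.IsEssential p Q') ∧
      (F'.IsRealizable p → F.IsRealizable p) ∧ Std F' ∧ H2 F' := by
  obtain rfl : p = 2 := le_antisymm (hq ▸ p_le_card (σ := σ)) (Fact.out : p.Prime).two_le
  obtain ⟨β, F₁, c1, h1⟩ := Two.exists_tor hq hF hE
  obtain ⟨a1, a2, a3, a4⟩ := Two.step c1 hF hE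
  obtain ⟨k, hk, F₂, c2, hS⟩ := std_of_form a1 fun f hf => by
    obtain ⟨α, hα⟩ := exists_aut_top hf
    obtain ⟨d, ρ, d0, e⟩ := Two.form hq a1 h1 (α := α) (hf.congr fun g _ => hα g)
    refine ⟨1, d, ρ, ⟨map_one _, one_ne_zero, d0⟩, fun g => ⟨?_, hα g ▸ e g⟩⟩
    rw [hα, Two.fix_u hq]
    rcases fx_two hq g.hu with e | e <;> simp [e]
  obtain ⟨b1, b2, b3, b4⟩ := Two.step c2 a1 a2
  refine ⟨F₂, b1, b2, b3 ∘ a3, a4 ∘ b4, hS, fun _ d h => ?_⟩
  have m := c2.mor (h1 d h)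
  rw [c2.iso.img_eq] at m
  obtain ⟨x, a, d', ρ, h', m', e⟩ := dd_mem hS m
  have hk' := (K0 σ).inv_mem hk
  have eu : ∀ g : U σ, g.u = a * ρ g.u := fun g => by
    have := congrArg U.u (e g)
    rw [Two.cj_u, Function.comp, Function.comp, (hk _).1, dd_u, show (k.symm g).u = g.u from (hk' g).1] at this
    simpa using this
  have et : ∀ g : U σ, d * g.t = d' * ρ g.t := fun g => by
    have := congrArg U.t (e g)
    rw [Two.cj_t, Function.comp, Function.comp, (hk _).2, dd_t, show (k.symm g).t = g.t from (hk' g).2] at this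
    simpa using this
  have k1 : d = d' := by simpa using et (y6 1)
  rwa [dd_congr h h' (by simpa using eu (y1 1 (map_one σ))) k1 (RingEquiv.ext fun s => by simpa [k1, h'.d0] using et (y6 s))]

end CL.D3
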