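/-
S5261: assembly.
-/
import Cfsg.Agent.FUS.D3.Real
import Cfsg.Agent.FUS.D3.Two
import Cfsg.Agent.FUS.S4.Tools

set_option autoImplicit false
set_option linter.unusedSimpArgs false
set_option linter.unusedSectionVars false

namespace CL.D3

open CL.Fus CL.RF4 Subgroup Cfsg Cfsg.FusionSystem
open scoped commutatorElement

variable {K : Type*} [Field K] [Finite K] {σ : K →+* K} [T : Tri σ] {p : ℕ} [Fact p.Prime] [CharP K p]
  {F F' : FusionSystem (⊤ : Subgroup (U σ))}

theorem main {G : Type*} [Group G] [Finite G] (R : RD p σ G) (hF : F.IsSaturated p) : F.IsRealizable p := by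
  by_cases h : F.IsEssential p Q ∧ F.IsEssential p Q'
  swap
  · refine S4F.realizable_of_constrained isPGroup_top (S4F.constrained_of_unique isPGroup_top hF fun R R' hR hR' => ?_)
    rcases ess_cases hF hR with rfl | rfl <;> rcases ess_cases hF hR' with rfl | rfl
    exacts [rfl, absurd ⟨hR, hR'⟩ h, absurd ⟨hR', hR⟩ h, rfl]
  have key : ∀ F : FusionSystem (⊤ : Subgroup (U σ)), F.IsSaturated p → F.IsEssential p Q → F.IsEssential p Q' → Std F → H2 F →
      F.IsRealizable p := fun F hF h h' hS h2 =>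
    have hb := hb_mem hF hS h'
    have ht := ht_mem hF hS h hb h2
    realizable R hF hS ht (wa_mem hF hS h hb h2) (wb_mem hF hS h' ht)
  by_cases hq : Nat.card (Fx σ) = 2
  · obtain ⟨F₁, h1, h2, h3, h4, h5, h6⟩ := two hq hF h.1
    exact h4 (key F₁ h1 h2 (h3 h.2) h5 h6)
  obtain ⟨β, F₁, hc, hS⟩ := exists_std hq hF
  have e : ∀ P : Subgroup (U σ), (∀ x, β x ∈ P ↔ x ∈ P) → F.IsEssential p P → F₁.IsEssential p P := fun P k hP => by
    have := (hc.isEssential_iff le_top).2 hP
    rwa [show img β P = P from le_antisymm (img_le_iff.2 fun x hx => (k x).2 hx) fun x hx => by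
      simpa using mem_img_of_mem (f := β) (show β.symm x ∈ P from (k _).1 (by simpa using hx))] at this
  exact hc.symm.isRealizable (key F₁ (hc.isSaturated hF) (e _ (fun x => (map_mem β x).2.2.2.2.1) h.1)
    (e _ (fun x => (map_mem β x).2.2.2.2.2) h.2) hS fun k => absurd k hq)

end CL.D3
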