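/-
S5261: `U σ` inside a root datum of type `G₂` with the structure constants of `³D₄`.
-/
import Cfsg.Agent.FUS.D3.RD
import Cfsg.Agent.FUS.D3.Alg
import Cfsg.Agent.INV.TW.Eng1

set_option autoImplicit false
set_option linter.unusedSimpArgs false
set_option linter.unusedSectionVars false

namespace CL.D3

open CL.Fus Subgroup CL.R2.Hex

variable {K : Type*} [Field K] [Finite K] {σ : K →+* K} [T : Tri σ] {G : Type*} [Group G] {h : R2.Hex G K (Fx σ)}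

/-- the structure constants -/
structure Ex (h : R2.Hex G K (Fx σ)) : Prop where
  f : ∀ u t, h.f u t = -(t * u)
  b : ∀ u t, (h.b u t : K) = nm σ t * u ^ 2
  g : ∀ u t, h.g u t = sh σ t * u
  k : ∀ u t, (h.k u t : K) = nm σ t * u
  b' : ∀ s t, (h.b' s t : K) = tr σ (t * sh σ s)
  m : ∀ s t, h.m s t = -cr σ s t
  l : ∀ s t, (h.l s t : K) = -tr σ (s * sh σ t)
  r : ∀ s t, (h.r s t : K) = tr σ (s * t)

theorem W_congr {a c e a' c' e' : Fx σ} {b d b' d' : K} (H : (a : K) = a' ∧ b = b' ∧ (c : K) = c' ∧ d = d' ∧ (e : K) = e') :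
    h.W a b c d e = h.W a' b' c' d' e' := by
  obtain ⟨h1, rfl, h3, rfl, h5⟩ := H
  rw [Subtype.ext h1, Subtype.ext h3, Subtype.ext h5]

variable (h) in
/-- the embedding as a function -/
def ιf (g : U σ) : G := h.W ⟨g.u, g.hu⟩ (-g.s) ⟨g.v, g.hv⟩ g.r ⟨g.w, g.hw⟩ * h.x6 g.t

namespace Ex

variable (E : Ex h)
include E

theorem φ_eq (u : Fx σ) : h.φ u = u := by
  rw [show h.φ u = -h.f u 1 from rfl, E.f, neg_neg, one_mul]

theorem ν_eq (t : K) : (h.ν t : K) = nm σ t := by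
  rw [show h.ν t = h.k 1 t from rfl, E.k]; simp

theorem ιf_mul (g g' : U σ) : ιf h (g * g') = ιf h g * ιf h g' := by
  have e : ∀ t y z, h.x6 t * (y * z) = R2.cj (h.x6 t) y * (h.x6 t * z) := fun t y z => by simp [mul_assoc]
  have e' : ∀ t a b c d e, R2.cj (h.x6 t) (h.W a b c d e) = h.W a (h.f a t) (h.b a t) (h.g a t) (h.k a t) *
      h.W 0 b (h.b' b t) (h.m b t) (h.l b t) * h.W 0 0 c 0 0 * h.W 0 0 0 d (h.r d t) * h.W 0 0 0 0 e := fun t a b c d e => by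
    rw [W, map_mul, map_mul, map_mul, map_mul, r16, r26, r46, r36, r56, W3, W5]
  rw [ιf, ιf, ιf, mul_assoc, e, ← h.ad6, ← mul_assoc, e', W_mul, W_mul, W_mul, W_mul, W_mul]
  congr 1
  refine W_congr ?_
  simp only [ω_eq, ω'_eq, Subfield.coe_add, Subfield.coe_neg, Subfield.coe_mul, Subfield.coe_zero, E.f, E.b, E.g, E.k, E.b', E.m, E.l, E.r]
  usimp
  and_intros <;> ring

/-- the embedding -/
def ι : U σ →* G := MonoidHom.mk' (ιf h) E.ιf_mul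

theorem ι_apply (g : U σ) : E.ι g = h.W ⟨g.u, g.hu⟩ (-g.s) ⟨g.v, g.hv⟩ g.r ⟨g.w, g.hw⟩ * h.x6 g.t := rfl

theorem inj : Function.Injective E.ι := fun g g' e => by
  obtain ⟨⟨h1, h2, h3, h4, h5⟩, h6⟩ := h.U_inj e
  exact U.ext (congrArg Subtype.val h1) (neg_injective h2) (congrArg Subtype.val h3) h4 (congrArg Subtype.val h5) h6

theorem range : E.ι.range = h.U := by
  ext x
  exact ⟨by rintro ⟨g, rfl⟩; exact ⟨_, _, _, _, _, _, rfl⟩, by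
    rintro ⟨a, b, c, d, e, f, rfl⟩
    exact ⟨⟨a, -b, c, d, e, f, a.2, c.2, e.2⟩, by rw [ι_apply, neg_neg]⟩⟩

theorem ι1 (u : K) (k : σ u = u) : E.ι (y1 u k) = h.x1 ⟨u, k⟩ := by
  rw [ι_apply, W1, y1_t, h.ad6.zero, mul_one]; exact W_congr (by simp)
theorem ι2 (s : K) : E.ι (y2 s) = h.x2 (-s) := by
  rw [ι_apply, W2, y2_t, h.ad6.zero, mul_one]; exact W_congr (by simp)
theorem ι3 (u : K) (k : σ u = u) : E.ι (y3 u k) = h.x3 ⟨u, k⟩ := by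
  rw [ι_apply, W3, y3_t, h.ad6.zero, mul_one]; exact W_congr (by simp)
theorem ι4 (s : K) : E.ι (y4 s) = h.x4 s := by
  rw [ι_apply, W4, y4_t, h.ad6.zero, mul_one]; exact W_congr (by simp)
theorem ι5 (u : K) (k : σ u = u) : E.ι (y5 u k) = h.x5 ⟨u, k⟩ := by
  rw [ι_apply, W5, y5_t, h.ad6.zero, mul_one]; exact W_congr (by simp)
theorem ι6 (s : K) : E.ι (y6 s) = h.x6 s := by
  rw [ι_apply, y6_t, show h.W _ _ _ _ _ = 1 from (W_congr (by simp)).trans h.W0, one_mul]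

theorem na (g : U σ) (hg : g ∈ Q) : h.na * E.ι g * h.na⁻¹ = E.ι (wa g) := by
  have e : wa g = y5 g.u g.hu * y4 (-g.s) * y3 g.v g.hv * y2 g.r * y1 (-g.w) (by simp) := by dsimp'; usimp; ring
  rw [e, ι_apply, mem_Q.1 hg, h.ad6.zero, mul_one, ← MulAut.conj_apply, W]
  simp only [map_mul, a1, a2, a3, a4, a5, E.ι1, E.ι2, E.ι3, E.ι4, E.ι5]
  rfl

theorem nb (g : U σ) (hg : g ∈ Q') : h.nb * E.ι g * h.nb⁻¹ = E.ι (wb g) := by
  have e : wb g = y6 g.s * y5 (-g.v) (by simp) * y4 g.r * y3 g.w g.hw * y2 (-g.t) := by dsimp'; usimp; and_intros <;> ring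
  rw [e, ι_apply, ← MulAut.conj_apply, W, show (⟨g.u, g.hu⟩ : Fx σ) = 0 from Subtype.ext hg, h.ad1.zero, one_mul]
  simp only [map_mul, b2, b3, b4, b5, b6, E.ι2, E.ι3, E.ι4, E.ι5, E.ι6, neg_neg]
  rfl

theorem tor (x : Kˣ × (Fx σ)ˣ) {a d : K} (k : Ok σ a d) (ha : (x.2 : Fx σ) = a) (hd : x.1 = d) (g : U σ) :
    h.τ x * E.ι g * (h.τ x)⁻¹ = E.ι (dd a d 1 k g) := by
  subst ha hd
  have h0 := k.d0
  have h1 : σ x.1 ≠ 0 := by simp
  have h2 : σ (σ x.1) ≠ 0 := by simp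
  have h3 := k.a0
  rw [ι_apply, ι_apply, ← MulAut.conj_apply, map_mul, τ_W, t6]
  congr 1
  refine W_congr ?_
  simp [sa_eq, sb_eq, E.φ_eq, E.ν_eq, sh, nm]
  and_intros
  all_goals left; field_simp

theorem τ_mem {a d : K} (k : Ok σ a d) : h.τ (Units.mk0 d k.d0, Units.mk0 ⟨a, k.fx⟩ fun e => k.a0 (congrArg Subtype.val e)) ∈ h.G0 := by
  obtain ⟨c, e, c0, e0, he, h1, h2⟩ := tor_split k
  have := mul_mem (mem_sup_left ⟨_, rfl⟩ : h.ιa (ABG.dg (Units.mk0 c c0)) ∈ h.G0)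
    (mem_sup_right ⟨_, rfl⟩ : h.ιb (ABG.dg (Units.mk0 ⟨e, he⟩ fun k => e0 (congrArg Subtype.val k))) ∈ h.G0)
  rw [dga_eq, dgb_eq, ← map_mul] at this
  convert this using 2
  refine Prod.ext (Units.ext ?_) (Units.ext (Subtype.ext ?_))
  · simp [E.φ_eq, h2, sq]
  · simp [E.ν_eq, h1, sq]

theorem nrm {x : G} (hx : x ∈ h.G0) (hn : x ∈ normalizer (h.U : Set G)) : ∃ u a d k, ∀ g, x * E.ι g * x⁻¹ = E.ι (cj u (dd a d 1 k g)) := by
  obtain ⟨u, hu, n, hm, v, hv, rfl⟩ := h.bruhat hx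
  rw [mul_mem_cancel_right (le_normalizer hv), mul_mem_cancel_left (le_normalizer hu)] at hn
  have h2 : ∀ {y}, y ∈ h.U → R2.cj n y ∈ h.U := fun hy => (mem_normalizer_iff.1 hn _).1 hy
  obtain ⟨y, rfl⟩ | H | H := hm.tri h.halfA h.halfB
  · obtain ⟨w, hw⟩ : u * h.τ y * v * (h.τ y)⁻¹ ∈ E.ι.range := by
      rw [E.range, mul_assoc u, mul_assoc u]; exact mul_mem hu (h2 hv)
    have k : Ok σ (y.2 : Fx σ) y.1 := ⟨y.2.1.2, by simp, by simp⟩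
    exact ⟨w, _, _, k, fun g => by simp only [cj, map_mul, map_inv, hw, ← E.tor y k rfl rfl]; group⟩
  · obtain ⟨y, hy, e⟩ := H _ ⟨1, rfl⟩
    exact absurd (e ▸ h2 hy) h.not_mem_a2
  · obtain ⟨y, hy, e⟩ := H _ ⟨1, rfl⟩
    exact absurd (e ▸ h2 hy) h.not_mem_b2

theorem U_le : h.U ≤ h.G0 := by
  have a : ∀ s, h.ιa s ∈ h.G0 := fun s => mem_sup_left ⟨s, rfl⟩
  have b : ∀ s, h.ιb s ∈ h.G0 := fun s => mem_sup_right ⟨s, rfl⟩
  have c : ∀ {x y}, x ∈ h.G0 → y ∈ h.G0 → x * y * x⁻¹ ∈ h.G0 := fun hx hy => mul_mem (mul_mem hx hy) (inv_mem hx)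
  rintro _ ⟨_, _, _, _, _, _, rfl⟩
  exact mul_mem (mul_mem (mul_mem (mul_mem (mul_mem (b _) (c (b _) (a _))) (c (b _) (c (a _) (b _)))) (c (a _) (c (b _) (a _)))) (c (a _) (b _))) (a _)

theorem ι_mem (g : U σ) : E.ι g ∈ h.G0 := E.U_le (E.range.le ⟨g, rfl⟩)

/-- the data inside `G0` -/
def rd {p : ℕ} (idx : ¬ p ∣ h.U.relIndex h.G0) (φ : RingAut K →* MulAut h.G0)
    (hφ : ∀ ρ g, (φ ρ ⟨E.ι g, E.ι_mem g⟩ : G) = E.ι (fr ρ g)) : RD p σ h.G0 where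
  ι := E.ι.codRestrict h.G0 E.ι_mem
  inj _ _ e := E.inj (congrArg Subtype.val e)
  idx := by
    rwa [show (E.ι.codRestrict h.G0 _).range = h.U.subgroupOf h.G0 by
      ext x; rw [mem_subgroupOf, ← E.range]; exact exists_congr fun _ => Subtype.ext_iff]
  na := ⟨⟨h.na, mem_sup_left ⟨_, rfl⟩⟩, fun g hg => Subtype.ext (E.na g hg)⟩
  nb := ⟨⟨h.nb, mem_sup_right ⟨_, rfl⟩⟩, fun g hg => Subtype.ext (E.nb g hg)⟩
  tor a d k := ⟨⟨_, E.τ_mem k⟩, fun g => Subtype.ext (E.tor _ k rfl rfl g)⟩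
  nrm x hx :=
    let ⟨u, a, d, k, e⟩ := E.nrm x.2 (by
      rw [← E.range]
      have : Finite (E.ι.range : Set G) := Finite.of_surjective _ E.ι.rangeRestrict_surjective
      refine mem_normalizer_fintype ?_
      rintro _ ⟨g, rfl⟩
      obtain ⟨g', e⟩ := (mem_normalizer_iff.1 hx _).1 ⟨g, rfl⟩
      exact ⟨g', congrArg Subtype.val e⟩)
    ⟨u, a, d, k, fun g => Subtype.ext (e g)⟩
  φ := φ
  hφ _ _ := Subtype.ext (hφ _ _)

end Ex

end CL.D3
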