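/-
S5261: the data of `RD` in `³D₄(q)`.
-/
import Cfsg.Agent.FUS.D3.Mod1
import Cfsg.Agent.INV.R2.HexD4
import Cfsg.Agent.CHEV.Aut
import Cfsg.Agent.S1067

set_option autoImplicit false
set_option linter.unusedSimpArgs false
set_option linter.unusedSectionVars false

namespace CL.D3

open Cfsg Cfsg.Lie Matrix Subgroup CL.ABG CL.Chev CL.R2 CL.R2.D4
open scoped MatrixGroups

variable {K : Type*} [Field K] [Finite K] {σ : K →+* K} [T : Tri σ]

theorem card_U : Nat.card (U σ) = Nat.card (Fx σ) ^ 12 := by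
  rw [Nat.card_congr (β := Fx σ × K × Fx σ × K × Fx σ × K)
    ⟨fun g => (⟨g.u, g.hu⟩, g.s, ⟨g.v, g.hv⟩, g.r, ⟨g.w, g.hw⟩, g.t), fun x => ⟨x.1, x.2.1, x.2.2.1, x.2.2.2.1, x.2.2.2.2.1, x.2.2.2.2.2,
      x.1.2, x.2.2.1.2, x.2.2.2.2.1.2⟩, fun _ => rfl, fun _ => rfl⟩]
  simp only [Nat.card_prod, card_K (σ := σ)]; ring

omit [Finite K] in
theorem map_X (f : K →+* K) (r : ℕ) (t : K) : GeneralLinearGroup.map f (X chevD4 r t) = X chevD4 r (f t) := by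
  unfold X xN; split_ifs; exacts [map_xg f _ t, map_one _]

section
variable {ιa : SL(2, K) →* GL chevD4.Idx K} {ιb : SL(2, Fx σ) →* GL chevD4.Idx K}
  (a1 : ∀ t, ιa (up t) = X chevD4 18 t * X chevD4 13 (σ t) * X chevD4 12 (σ (σ t)))
  (a2 : ∀ t, ιa (lo t) = X chevD4 5 t * X chevD4 10 (σ t) * X chevD4 11 (σ (σ t)))
  (b1 : ∀ u, ιb (up u) = X chevD4 14 ((Fx σ).subtype u)) (b2 : ∀ u, ιb (lo u) = X chevD4 9 ((Fx σ).subtype u))
  (dg_a : ∀ c, ιa (dg c) ∈ (τ σ (Fx σ).subtype).range) (dg_b : ∀ c, ιb (dg c) ∈ (τ σ (Fx σ).subtype).range)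

/-- the root datum over `Fx σ` -/
def hx : Hex (GL chevD4.Idx K) K (Fx σ) := hex a1 a2 b1 b2 σ3 σ_coe (fun t e => ⟨⟨t, e⟩, rfl⟩) dg_a dg_b

theorem hx_W (a c e : Fx σ) (b d : K) : (hx a1 a2 b1 b2 dg_a dg_b).W a b c d e = X chevD4 14 (a : K) *
    (X chevD4 19 b * X chevD4 16 (-σ b) * X chevD4 15 (-σ (σ b))) * X chevD4 23 (-(c : K)) *
    (X chevD4 17 d * X chevD4 20 (-σ d) * X chevD4 21 (-σ (σ d))) * X chevD4 22 (-(e : K)) := by
  rw [← e2 a1 b1 b2, ← e4 a1 a2 b1 b2]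
  exact congrArg₂ (· * ·) (congrArg₂ (· * ·) (congrArg₂ (· * ·) (congrArg₂ (· * ·) (b1 a) rfl) (e3 a1 a2 b1 b2 c)) rfl) (e5 a1 a2 b1 e)

theorem hx_6 (t : K) : (hx a1 a2 b1 b2 dg_a dg_b).x6 t = X chevD4 18 t * X chevD4 13 (σ t) * X chevD4 12 (σ (σ t)) := a1 t

theorem ex_hx : Ex (hx a1 a2 b1 b2 dg_a dg_b) := by
  set h := hx a1 a2 b1 b2 dg_a dg_b
  have eW : ∀ a c e b d, h.W a b c d e = _ := hx_W a1 a2 b1 b2 dg_a dg_b
  have e6 : ∀ t, h.x6 t = _ := hx_6 a1 a2 b1 b2 dg_a dg_b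
  have k16 : ∀ u t, _ := fun (u : Fx σ) t => h.W_inj ((h.r16 u t).symm.trans (show _ = h.W u (-(t * u))
      ⟨nm σ t * u ^ 2, by simp [mem_Fx]⟩ (sh σ t * u) ⟨nm σ t * u, by simp [mem_Fx]⟩ from mul_inv_eq_iff_eq_mul.2 (by
    have := ev_eq chevD4 [(u : K), t, σ t, σ (σ t)] (w6 (.var 1) (.var 2) (.var 3) ++ w1 (.var 0))
      (w1 (.var 0) ++ w2 (-(.var 1 * .var 0)) (-(.var 2 * .var 0)) (-(.var 3 * .var 0)) ++
        w3 (.var 1 * .var 2 * .var 3 * .var 0 ^ 2) ++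
        w4 (.var 2 * .var 3 * .var 0) (.var 3 * .var 1 * .var 0) (.var 1 * .var 2 * .var 0) ++
        w5 (.var 1 * .var 2 * .var 3 * .var 0) ++ w6 (.var 1) (.var 2) (.var 3))
    rw [h.W1]
    simpa [eW, e6, w1, w2, w3, w4, w5, w6, nm, sh, X_zero, mul_assoc] using this)))
  have k26 : ∀ s t, _ := fun s t => h.W_inj ((h.r26 s t).symm.trans (show _ = h.W 0 s
      ⟨t * σ s * σ (σ s) + σ t * σ (σ s) * s + σ (σ t) * s * σ s, by simp [mem_Fx]; ring⟩ (-(σ (σ t) * σ s + σ t * σ (σ s)))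
      ⟨-(s * σ t * σ (σ t) + σ s * σ (σ t) * t + σ (σ s) * t * σ t), by simp [mem_Fx]; ring⟩ from mul_inv_eq_iff_eq_mul.2 (by
    have := ev_eq chevD4 [s, σ s, σ (σ s), t, σ t, σ (σ t)] (w6 (.var 3) (.var 4) (.var 5) ++ w2 (.var 0) (.var 1) (.var 2))
      (w2 (.var 0) (.var 1) (.var 2) ++
        w3 (.var 3 * .var 1 * .var 2 + .var 4 * .var 2 * .var 0 + .var 5 * .var 0 * .var 1) ++
        w4 (-(.var 5 * .var 1 + .var 4 * .var 2)) (-(.var 3 * .var 2 + .var 5 * .var 0)) (-(.var 4 * .var 0 + .var 3 * .var 1)) ++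
        w5 (-(.var 0 * .var 4 * .var 5 + .var 1 * .var 5 * .var 3 + .var 2 * .var 3 * .var 4)) ++
        w6 (.var 3) (.var 4) (.var 5))
    rw [h.W2]
    simpa [eW, e6, w2, w3, w4, w5, w6, X_zero, mul_assoc] using this)))
  have k46 : ∀ s t, _ := fun s t => h.W_inj ((h.r46 s t).symm.trans (show _ = h.W 0 0 0 s
      ⟨s * t + σ s * σ t + σ (σ s) * σ (σ t), by simp [mem_Fx]; ring⟩ from mul_inv_eq_iff_eq_mul.2 (by
    have := ev_eq chevD4 [s, σ s, σ (σ s), t, σ t, σ (σ t)] (w6 (.var 3) (.var 4) (.var 5) ++ w4 (.var 0) (.var 1) (.var 2))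
      (w4 (.var 0) (.var 1) (.var 2) ++ w5 (.var 0 * .var 3 + .var 1 * .var 4 + .var 2 * .var 5) ++
        w6 (.var 3) (.var 4) (.var 5))
    rw [h.W4]
    simpa [eW, e6, w4, w5, w6, X_zero, mul_assoc] using this)))
  exact ⟨fun u t => (k16 u t).2.1, fun u t => by rw [(k16 u t).2.2.1], fun u t => (k16 u t).2.2.2.1, fun u t => by rw [(k16 u t).2.2.2.2],
    fun s t => by rw [(k26 s t).2.2.1]; asimp; ring, fun s t => by rw [(k26 s t).2.2.2.1]; asimp; ring,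
    fun s t => by rw [(k26 s t).2.2.2.2]; asimp; ring, fun s t => by rw [(k46 s t).2.2.2.2]; asimp⟩

theorem rd_hx {p : ℕ} (idx : ¬ p ∣ (hx a1 a2 b1 b2 dg_a dg_b).U.relIndex (hx a1 a2 b1 b2 dg_a dg_b).G0) :
    Nonempty (RD p σ (hx a1 a2 b1 b2 dg_a dg_b).G0) := by
  set h := hx a1 a2 b1 b2 dg_a dg_b
  have m : ∀ (ρ : RingAut K) {g}, g ∈ h.G0 → GeneralLinearGroup.map ρ.toRingHom g ∈ h.G0 := fun ρ g hg =>
    (show h.G0 ≤ h.G0.comap (GeneralLinearGroup.map ρ.toRingHom) from sup_le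
      (range_le_of (fun t => mem_sup_left ⟨up (ρ t), (a1 _).trans (by simp [h, hx, hex, a1, map_X, σ_map])⟩)
        fun t => mem_sup_left ⟨lo (ρ t), (a2 _).trans (by simp [h, hx, hex, a2, map_X, σ_map])⟩)
      (range_le_of (fun t => mem_sup_right ⟨up ⟨ρ t, by simp [mem_Fx, σ_map]⟩, (b1 _).trans (by simp [h, hx, hex, b1, map_X])⟩)
        fun t => mem_sup_right ⟨lo ⟨ρ t, by simp [mem_Fx, σ_map]⟩, (b2 _).trans (by simp [h, hx, hex, b2, map_X])⟩)) hg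
  refine ⟨(ex_hx a1 a2 b1 b2 dg_a dg_b).rd idx (MonoidHom.mk' (fun ρ => ⟨⟨fun g => ⟨_, m ρ g.2⟩, fun g => ⟨_, m ρ⁻¹ g.2⟩,
    fun g => Subtype.ext (Units.ext (Matrix.ext fun _ _ => ρ.symm_apply_apply _)),
    fun g => Subtype.ext (Units.ext (Matrix.ext fun _ _ => ρ.apply_symm_apply _))⟩, fun _ _ => Subtype.ext (map_mul _ _ _)⟩)
    fun _ _ => MulEquiv.ext fun _ => rfl) fun ρ g => ?_⟩
  show GeneralLinearGroup.map ρ.toRingHom _ = _
  simp [Ex.ι_apply, hx_W, hx_6, map_X, fr_eq, σ_map, nm, sh]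

end

set_option backward.isDefEq.respectTransparency false in
theorem exists_RD (K : Type*) [Field K] [Fintype K] (p : ℕ) [Fact p.Prime] {n : ℕ} (hn : 1 ≤ n) (hK : Fintype.card K = (p ^ n) ^ 3) :
    ∃ (σ : K →+* K) (_ : Tri σ), Nonempty (RD p σ (twistedD4 K (p ^ n))) := by
  have hq : IsPrimePow (p ^ n) := (Fact.out : p.Prime).isPrimePow.pow (by omega)
  have hp : p ∣ p ^ n := dvd_pow_self p (by omega)
  generalize p ^ n = q at hq hp hK
  have h1 := hq.one_lt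
  obtain ⟨σ, h0⟩ := exists_frob (K := K) (d := 3) hq (by simp [hK])
  have hσ : ∀ t, σ (σ (σ t)) = t := fun t => by
    rw [h0, h0, h0, ← pow_mul, ← pow_mul, ← pow_three, ← hK, FiniteField.pow_card]
  have T : Tri σ := ⟨hσ, by_contra fun H => by
    classical
    push Not at H
    have h2 := Polynomial.card_le_degree_of_subset_roots (p := (Polynomial.X ^ q - Polynomial.X : Polynomial K)) (Z := Finset.univ)
      fun y _ => by
        rw [Polynomial.mem_roots (FiniteField.X_pow_card_sub_X_ne_zero K h1)]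
        simp [← h0, H]
    rw [FiniteField.X_pow_card_sub_X_natDegree_eq K h1, Finset.card_univ, hK] at h2
    exact absurd h2 (not_le.2 (lt_self_pow₀ h1 (by omega)))⟩
  refine ⟨σ, T, ?_⟩
  let φ := (Fx σ).subtype
  have hφ : ∀ u, σ (φ u) = φ u := σ_coe
  have hf : ∀ t, σ t = t → ∃ u, φ u = t := fun t e => ⟨⟨t, e⟩, rfl⟩
  obtain ⟨ι0, p0, m0, d0⟩ := exists_rh K (D := chevD4) (0 : Fin 4)
  obtain ⟨ι1, p1, m1, d1⟩ := exists_rh K (D := chevD4) (1 : Fin 4)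
  obtain ⟨ι2, p2, m2, d2⟩ := exists_rh K (D := chevD4) (2 : Fin 4)
  obtain ⟨ι3, p3, m3, d3⟩ := exists_rh K (D := chevD4) (3 : Fin 4)
  let ιa := mulHom (mulHom ι0 (ι2.comp (SpecialLinearGroup.map σ)) fun _ _ => rh_comm p0 m0 p2 m2 _ _)
    (ι3.comp (SpecialLinearGroup.map (σ.comp σ))) fun _ _ =>
      (rh_comm p0 m0 p3 m3 _ _).mul_left (rh_comm p2 m2 p3 m3 _ _)
  have ea : ∀ s, ιa s = ι0 s * ι2 (SpecialLinearGroup.map σ s) *
    ι3 (SpecialLinearGroup.map (σ.comp σ) s) := fun _ => rfl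
  let ιb := ι1.comp (SpecialLinearGroup.map φ)
  have a1 : ∀ t, ιa (up t) = X chevD4 18 t * X chevD4 13 (σ t) * X chevD4 12 (σ (σ t)) := fun t => by
    rw [ea, mq_up, mq_up, p0, p2, p3]; rfl
  have a2 : ∀ t, ιa (lo t) = X chevD4 5 t * X chevD4 10 (σ t) * X chevD4 11 (σ (σ t)) := fun t => by
    rw [ea, mq_lo, mq_lo, m0, m2, m3]; rfl
  have b1 : ∀ u, ιb (up u) = X chevD4 14 (φ u) := fun u => (congrArg ι1 (mq_up φ u)).trans (p1 _)
  have b2 : ∀ u, ιb (lo u) = X chevD4 9 (φ u) := fun u => (congrArg ι1 (mq_lo φ u)).trans (m1 _)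
  have da : ∀ c, ιa (dg c) ∈ (τ σ φ).range := fun c => by
    obtain ⟨u, hu⟩ := hf (c * σ c * σ (σ c))⁻¹ (by simp [hσ]; ring)
    rw [ea, mq_dg, mq_dg, d0, d2, d3, ← map_mul, ← map_mul]
    refine tor_mem (c * c, Units.mk0 u (by rw [← _root_.map_ne_zero φ, hu]; simp)) ?_ ?_ ?_ ?_
    all_goals simp only [Pi.mul_apply, cart]; simp [hu, zpow_ofNat, pow_two, mul_comm, mul_left_comm, mul_assoc]
  have db : ∀ c, ιb (dg c) ∈ (τ σ φ).range := fun c => by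
    rw [show ιb (dg c) = _ from (congrArg ι1 (mq_dg φ c)).trans (d1 _)]
    refine tor_mem (Units.map φ.toMonoidHom c⁻¹, c * c) ?_ ?_ ?_ ?_
    all_goals simp only [cart]; simp [hφ, zpow_ofNat, pow_two]
  have e : (hx a1 a2 b1 b2 da db).G0 = twistedD4 K q := by
    rw [twistedD4, genSub_X]
    refine le_antisymm (sup_le (range_le_of (fun t => ?_) fun t => ?_) (range_le_of (fun t => ?_) fun t => ?_))
      ((closure_le _).2 ?_)
    · exact subset_closure ⟨_, Or.inr ⟨t, (d4p1, d4p3, d4p4), by simp, rfl⟩,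
        Eq.symm ((a1 t).trans (by simp [h0, ← pow_mul, pow_two, mul_assoc]; rfl))⟩
    · exact subset_closure ⟨_, Or.inr ⟨t, (d4m1, d4m3, d4m4), by simp, rfl⟩,
        Eq.symm ((a2 t).trans (by simp [h0, ← pow_mul, pow_two, mul_assoc]; rfl))⟩
    · exact subset_closure ⟨_, Or.inl ⟨φ t, (h0 _).symm.trans (hφ t), d4p2, by simp, rfl⟩,
        (mul_one _).trans (b1 t).symm⟩
    · exact subset_closure ⟨_, Or.inl ⟨φ t, (h0 _).symm.trans (hφ t), d4m2, by simp, rfl⟩,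
        (mul_one _).trans (b2 t).symm⟩
    rintro _ ⟨_, ⟨t, ht, r, hr, rfl⟩ | ⟨t, r, hr, rfl⟩, rfl⟩
    · obtain ⟨u, rfl⟩ := hf t ((h0 t).trans ht)
      rcases List.mem_pair.1 hr with rfl | rfl
      exacts [mem_sup_right ⟨_, (b1 u).trans (mul_one _).symm⟩, mem_sup_right ⟨_, (b2 u).trans (mul_one _).symm⟩]
    · rcases List.mem_pair.1 hr with rfl | rfl
      exacts [mem_sup_left ⟨_, (a1 t).trans (by simp [h0, ← pow_mul, pow_two, mul_assoc]; rfl)⟩,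
        mem_sup_left ⟨_, (a2 t).trans (by simp [h0, ← pow_mul, pow_two, mul_assoc]; rfl)⟩]
  rw [← e]
  refine rd_hx a1 a2 b1 b2 da db fun k => ?_
  have E := ex_hx a1 a2 b1 b2 da db
  have c1 : Nat.card (Fx σ) = q := Nat.pow_left_injective three_ne_zero ((card_K (σ := σ)).symm.trans (by simp [hK]))
  have c2 := card_mul_index ((hx a1 a2 b1 b2 da db).U.subgroupOf (hx a1 a2 b1 b2 da db).G0)
  rw [Nat.card_congr (subgroupOfEquivOfLe E.U_le).toEquiv, ← E.range, ← Nat.card_congr (MonoidHom.ofInjective E.inj).toEquiv, card_U, c1,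
    E.range, Nat.card_congr (MulEquiv.subgroupCongr e).toEquiv, Cfsg.Agent.S1067.result hq hK, mul_assoc, mul_assoc,
    Nat.mul_right_inj (by positivity)] at c2
  have hP : p.Prime := Fact.out
  have c3 : ∀ m, m ≠ 0 → ¬ p ∣ q ^ m - 1 := fun m hm k =>
    hP.not_dvd_one ((Nat.dvd_sub_iff_right (Nat.one_le_pow _ _ (by omega)) (dvd_pow hp hm)).1 k)
  rw [relIndex, c2, hP.dvd_mul, hP.dvd_mul] at k
  rcases k with k | k | k
  exacts [c3 _ (by omega) k, c3 _ (by omega) k,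
    hP.not_dvd_one ((Nat.dvd_add_right (dvd_add (dvd_pow hp (by omega)) (dvd_pow hp (by omega)))).1 k)]

end CL.D3
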